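import Groth.Prelude
import Groth.Agent.SecNhdLib.Smooth
import Groth.Agent.WeilResLib.Fibre
import Groth.Agent.S1324
import Mathlib

/-!
# An open with geometrically irreducible fibres around a geometrically connected fibre component

For a smooth morphism and a finite étale family of sections through one component of a fibre, the
fibre components met by the family form an open set, and over a neighbourhood they are all equal.
-/

set_option autoImplicit false
set_option linter.all false

universe u

open CategoryTheory CategoryTheory.Limits AlgebraicGeometry TopologicalSpace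

namespace DevissExLib

theorem irreducibleSpace_of_smooth_connected {K : Type u} [Field K] {U : Scheme.{u}}
    (g : U ⟶ Spec (CommRingCat.of K)) [Smooth g] [ConnectedSpace U] : IrreducibleSpace U := by
  haveI := LocallyOfFiniteType.isLocallyNoetherian g
  haveI : ∀ x : U, IsDomain (U.presheaf.stalk x) := fun x =>
    haveI : IsRegularLocalRing (U.presheaf.stalk x) :=
      (DepthLib.regular_of_smooth_and_conversely g x).1 (by rw [Scheme.Hom.smoothLocus_eq_top]; trivial)
    CommAlgDim.isDomain_of_isRegularLocalRing _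
  exact Groth.Agent.WeilRes.irreducibleSpace_of_isDomain_stalks

theorem exists_open_geomIrred {S X Z : Scheme.{u}} (f : X ⟶ S) [Smooth f] [QuasiSeparated f]
    (g : Z ⟶ S) [IsFinite g] [Etale g] (e : Z ⟶ X) (he : e ≫ f = g)
    (s₀ : S) (x₀ : X) (hx₀ : f x₀ = s₀) (hne : s₀ ∈ Set.range g)
    (hZ : ∀ z, g z = s₀ → e z ∈ connectedComponentIn (f ⁻¹' {s₀}) x₀)
    (hC : ∀ (K : Type u) [Field K] (t : Spec (CommRingCat.of K) ⟶ S), (∀ w, t w = s₀) →
      _root_.IsPreconnected (pullback.fst f t ⁻¹' connectedComponentIn (f ⁻¹' {s₀}) x₀)) :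
    ∃ (U : X.Opens) (V : S.Opens), x₀ ∈ U ∧ s₀ ∈ V ∧
      ∀ (K : Type u) [Field K] (t : Spec (CommRingCat.of K) ⟶ S), (∀ w, t w ∈ V) →
        IrreducibleSpace ↥(pullback.fst f t ⁻¹ᵁ U) := by
  let C := connectedComponentIn (f ⁻¹' {s₀}) x₀
  let q := pullback.snd f g
  let p := pullback.fst f g
  let σ : Z ⟶ pullback f g := pullback.lift e (𝟙 _) (by rw [he, Category.id_comp])
  have hσ : σ ≫ q = 𝟙 _ := pullback.lift_snd _ _ _
  have hσp : σ ≫ p = e := pullback.lift_fst _ _ _
  have hqσ : ∀ z, q (σ z) = z := fun z => by rw [← Scheme.Hom.comp_apply, hσ]; rfl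
  have hpσ : ∀ z, p (σ z) = e z := fun z => by rw [← Scheme.Hom.comp_apply, hσp]
  have hfe : ∀ z, f (e z) = g z := fun z => by rw [← Scheme.Hom.comp_apply, he]
  haveI : Smooth q := MorphismProperty.pullback_snd _ _ inferInstance
  haveI : QuasiSeparated q := MorphismProperty.pullback_snd _ _ inferInstance
  haveI : Etale p := MorphismProperty.pullback_fst _ _ inferInstance
  let W := MoreMor.sectionComponents q σ
  have hW : IsOpen W := SecNhdLib.isOpen_sectionComponents_of_smooth q σ hσ
  -- pairs of sections lying in the same component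
  let m : pullback g g ⟶ pullback f g :=
    pullback.lift (pullback.snd g g ≫ e) (pullback.fst g g)
      (by rw [Category.assoc, he, pullback.condition])
  have hpm : ∀ w, p (m w) = e (pullback.snd g g w) := fun w => by
    rw [← Scheme.Hom.comp_apply, show m ≫ p = _ from pullback.lift_fst _ _ _, Scheme.Hom.comp_apply]
  have hqm : ∀ w, q (m w) = pullback.fst g g w := fun w => by
    rw [← Scheme.Hom.comp_apply, show m ≫ q = _ from pullback.lift_snd _ _ _]
  let g₂ := pullback.fst g g ≫ g
  haveI : IsFinite g₂ := inferInstanceAs (IsFinite (pullback.fst g g ≫ g))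
  let bad : Set S := g₂ '' (m ⁻¹' W)ᶜ
  have hbad : IsClosed bad := g₂.isClosedMap _ (hW.preimage m.continuous).isClosed_compl
  let V : S.Opens := ⟨badᶜ ∩ Set.range g, hbad.isOpen_compl.inter g.isOpenMap.isOpen_range⟩
  let U : X.Opens := ⟨p '' W, p.isOpenMap _ hW⟩
  have hcompZ : ∀ (z : Z) (a b : ↥(pullback f g)), q a = z → q b = z → g z = s₀ → p a ∈ C → p b ∈ C →
      a ∈ connectedComponentIn (q ⁻¹' {z}) b := by
    intro z a b ha hb hz hpa hpb
    let t : Spec (Z.residueField z) ⟶ S := Z.fromSpecResidueField z ≫ g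
    have ht : ∀ w, t w = s₀ := fun w => by
      show g (Z.fromSpecResidueField z w) = s₀
      rw [Scheme.fromSpecResidueField_apply]; exact hz
    have hpre : _root_.IsPreconnected (pullback.fst f t ⁻¹' C) := hC (Z.residueField z) t ht
    let j : pullback f t ⟶ pullback f g :=
      pullback.map f t f g (𝟙 X) (Z.fromSpecResidueField z) (𝟙 S) (by simp) (by simp [t])
    have hjp : ∀ v, p (j v) = pullback.fst f t v := fun v => by
      rw [← Scheme.Hom.comp_apply, show j ≫ p = _ from pullback.lift_fst _ _ _, Category.comp_id]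
    have hjq : ∀ v, q (j v) = z := fun v => by
      rw [← Scheme.Hom.comp_apply, show j ≫ q = _ from pullback.lift_snd _ _ _, Scheme.Hom.comp_apply,
        Scheme.fromSpecResidueField_apply]
    have hsurj : ∀ c, q c = z → ∃ v, j v = c := by
      intro c hc
      have hpb : IsPullback j (pullback.snd f t) q (Z.fromSpecResidueField z) := by
        refine IsPullback.of_right ?_ (pullback.lift_snd _ _ _) (IsPullback.of_hasPullback f g)
        rw [show j ≫ pullback.fst f g = pullback.fst f t from (pullback.lift_fst _ _ _).trans (Category.comp_id _)]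
        exact IsPullback.of_hasPullback f t
      obtain ⟨v, hv, -⟩ := Scheme.exists_preimage_of_isPullback hpb c (IsLocalRing.closedPoint (Z.residueField z))
        (by rw [hc, Scheme.fromSpecResidueField_apply])
      exact ⟨v, hv⟩
    obtain ⟨a', rfl⟩ := hsurj a ha
    obtain ⟨b', rfl⟩ := hsurj b hb
    refine (hpre.image j j.continuous.continuousOn).subset_connectedComponentIn ⟨b', ?_, rfl⟩ ?_ ⟨a', ?_, rfl⟩
    · rw [hjp] at hpb; exact hpb
    · rintro _ ⟨v, -, rfl⟩; exact hjq v
    · rw [hjp] at hpa; exact hpa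
  refine ⟨U, V, ?_, ⟨?_, hne⟩, ?_⟩
  · obtain ⟨z, hz⟩ := hne
    obtain ⟨c, hc, hcz⟩ := Scheme.Pullback.exists_preimage_pullback x₀ z (f := f) (g := g)
      (by rw [hz, hx₀])
    refine ⟨c, ?_, hc⟩
    show c ∈ connectedComponentIn (q ⁻¹' {q c}) (σ (q c))
    refine hcompZ (q c) c (σ (q c)) rfl (hqσ _) ?_ ?_ ?_
    · rw [show q c = z from hcz]; exact hz
    · rw [show p c = x₀ from hc]; exact mem_connectedComponentIn hx₀
    · rw [hpσ]; exact hZ _ (by rw [show q c = z from hcz]; exact hz)
  · rintro ⟨w, hw, hws⟩
    have h1 : g (pullback.fst g g w) = s₀ := hws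
    have h2 : g (pullback.snd g g w) = s₀ := by
      rw [← Scheme.Hom.comp_apply, ← pullback.condition]; exact hws
    refine hw ?_
    show m w ∈ connectedComponentIn (q ⁻¹' {q (m w)}) (σ (q (m w)))
    refine hcompZ (q (m w)) (m w) (σ (q (m w))) rfl (hqσ _) ?_ ?_ ?_
    · rw [hqm]; exact h1
    · rw [hpm]; exact hZ _ h2
    · rw [hpσ]; exact hZ _ (by rw [hqm]; exact h1)
  intro K _ t ht
  let Q := pullback f t
  let ZT := pullback g t
  let RT := pullback q (pullback.fst g t)
  let a : RT ⟶ pullback f g := pullback.fst q (pullback.fst g t)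
  let b : RT ⟶ ZT := pullback.snd q (pullback.fst g t)
  let c : RT ⟶ Q := pullback.lift (a ≫ p) (b ≫ pullback.snd g t) (by
    rw [Category.assoc, show p ≫ f = q ≫ g from pullback.condition, ← Category.assoc,
      show a ≫ q = b ≫ pullback.fst g t from pullback.condition, Category.assoc, pullback.condition,
      Category.assoc])
  have hcart : IsPullback a c p (pullback.fst f t) := by
    refine IsPullback.of_bot ?_ (pullback.lift_fst _ _ _).symm (IsPullback.of_hasPullback f t)
    rw [show c ≫ pullback.snd f t = b ≫ pullback.snd g t from pullback.lift_snd _ _ _,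
      show p ≫ f = q ≫ g from pullback.condition]
    exact (IsPullback.of_hasPullback q (pullback.fst g t)).paste_vert (IsPullback.of_hasPullback g t)
  let σT : ZT ⟶ RT := pullback.lift (pullback.fst g t ≫ σ) (𝟙 _)
    (by rw [Category.assoc, hσ, Category.comp_id, Category.id_comp])
  have hσT : σT ≫ b = 𝟙 _ := pullback.lift_snd _ _ _
  have hWT : MoreMor.sectionComponents b σT = a ⁻¹' W :=
    Groth.Agent.S1324.result q σ hσ b a (pullback.fst g t) (IsPullback.of_hasPullback _ _) σT hσT
      (pullback.lift_fst _ _ _)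
  have hbσ : ∀ z, b (σT z) = z := fun z => by rw [← Scheme.Hom.comp_apply, hσT]; rfl
  let eT : ZT → Q := fun z => c (σT z)
  let P : ZT → Set Q := fun z => c '' connectedComponentIn (b ⁻¹' {z}) (σT z)
  have hPc : ∀ z, _root_.IsPreconnected (P z) := fun z =>
    isPreconnected_connectedComponentIn.image _ c.continuous.continuousOn
  have hUP : ((pullback.fst f t ⁻¹ᵁ U : Q.Opens) : Set Q) = ⋃ z, P z := by
    ext u
    constructor
    · rintro ⟨w, hw, hwu⟩
      obtain ⟨r, hr1, hr2⟩ := Scheme.exists_preimage_of_isPullback hcart w u hwu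
      have hrW : r ∈ MoreMor.sectionComponents b σT := by
        rw [hWT]; show a r ∈ W; rw [hr1]; exact hw
      exact Set.mem_iUnion.2 ⟨b r, r, hrW, hr2⟩
    · intro hu
      obtain ⟨z, r, hr, rfl⟩ := Set.mem_iUnion.1 hu
      have hbr : b r = z := (connectedComponentIn_subset _ _ hr :)
      have hrW : r ∈ MoreMor.sectionComponents b σT := by
        show r ∈ connectedComponentIn (b ⁻¹' {b r}) (σT (b r))
        rw [hbr]; exact hr
      rw [hWT] at hrW
      refine ⟨a r, hrW, ?_⟩
      rw [← Scheme.Hom.comp_apply, hcart.w, Scheme.Hom.comp_apply]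
  have hself : ∀ z, eT z ∈ P z := fun z => ⟨σT z, mem_connectedComponentIn (hbσ z), rfl⟩
  have hcross : ∀ z₁ z₂, eT z₂ ∈ P z₁ := by
    intro z₁ z₂
    obtain ⟨d, hd1, hd2⟩ := Scheme.Pullback.exists_preimage_pullback z₁ z₂
      (f := pullback.snd g t) (g := pullback.snd g t) (Subsingleton.elim _ _)
    let r : pullback (pullback.snd g t) (pullback.snd g t) ⟶ RT :=
      pullback.lift (pullback.map _ _ g g (pullback.fst g t) (pullback.fst g t) t
        (pullback.condition.symm) (pullback.condition.symm) ≫ m) (pullback.fst _ _) (by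
          rw [Category.assoc, show m ≫ q = pullback.fst g g from pullback.lift_snd _ _ _]
          exact pullback.lift_fst _ _ _)
    have hra : r ≫ a = pullback.map _ _ g g (pullback.fst g t) (pullback.fst g t) t
        (pullback.condition.symm) (pullback.condition.symm) ≫ m := pullback.lift_fst _ _ _
    have hrb : r ≫ b = pullback.fst _ _ := pullback.lift_snd _ _ _
    have hrc : r ≫ c = pullback.snd _ _ ≫ σT ≫ c := by
      apply pullback.hom_ext
      · simp only [c, Category.assoc, pullback.lift_fst]
        rw [← Category.assoc r a, hra, Category.assoc, show m ≫ p = _ from pullback.lift_fst _ _ _,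
          ← Category.assoc (pullback.map _ _ _ _ _ _ _ _ _), pullback.lift_snd,
          ← Category.assoc σT a, show σT ≫ a = _ from pullback.lift_fst _ _ _]
        simp only [Category.assoc, hσp]
      · simp only [c, Category.assoc, pullback.lift_snd]
        rw [← Category.assoc r b, hrb, pullback.condition, ← Category.assoc σT b, hσT, Category.id_comp]
    refine ⟨r d, ?_, ?_⟩
    · have hgd : g₂ (pullback.map _ _ g g (pullback.fst g t) (pullback.fst g t) t
          (pullback.condition.symm) (pullback.condition.symm) d) = t (pullback.snd g t z₁) := by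
        rw [← hd1, ← Scheme.Hom.comp_apply, ← Scheme.Hom.comp_apply, ← Scheme.Hom.comp_apply]
        congr 2
        simp only [g₂]
        rw [← Category.assoc, pullback.lift_fst, Category.assoc, pullback.condition]
      have hmem : r d ∈ MoreMor.sectionComponents b σT := by
        rw [hWT]
        show a (r d) ∈ W
        rw [← Scheme.Hom.comp_apply, hra, Scheme.Hom.comp_apply]
        by_contra hnot
        exact (ht (pullback.snd g t z₁)).1 ⟨_, hnot, hgd⟩
      have hbd : b (r d) = z₁ := by rw [← Scheme.Hom.comp_apply, hrb]; exact hd1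
      have h' : r d ∈ connectedComponentIn (b ⁻¹' {b (r d)}) (σT (b (r d))) := hmem
      rw [hbd] at h'
      exact h'
    · show c (r d) = c (σT z₂)
      rw [← Scheme.Hom.comp_apply, hrc, Scheme.Hom.comp_apply, Scheme.Hom.comp_apply, hd2]
  obtain ⟨z₀⟩ : Nonempty ZT := by
    obtain ⟨z, hz⟩ := (ht (IsLocalRing.closedPoint K)).2
    obtain ⟨d, -, -⟩ := Scheme.Pullback.exists_preimage_pullback z (IsLocalRing.closedPoint K)
      (f := g) (g := t) hz
    exact ⟨d⟩
  have hpre : _root_.IsPreconnected (⋃ z, P z) := by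
    rw [show (⋃ z, P z) = ⋃ z, (P z₀ ∪ P z) from Set.Subset.antisymm
      (Set.iUnion_mono fun z => Set.subset_union_right)
      (Set.iUnion_subset fun z => Set.union_subset (Set.subset_iUnion P z₀) (Set.subset_iUnion P z))]
    exact isPreconnected_iUnion ⟨eT z₀, Set.mem_iInter.2 fun z => Or.inl (hself z₀)⟩
      fun z => (hPc z₀).union (eT z) (hcross z₀ z) (hself z) (hPc z)
  haveI : ConnectedSpace ↥(pullback.fst f t ⁻¹ᵁ U) := by
    refine isConnected_iff_connectedSpace.1 ⟨⟨eT z₀, ?_⟩, ?_⟩
    · rw [hUP]; exact Set.mem_iUnion.2 ⟨z₀, hself z₀⟩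
    · rw [hUP]; exact hpre
  haveI : ConnectedSpace ↥((pullback.fst f t ⁻¹ᵁ U).toScheme) := ‹_›
  exact irreducibleSpace_of_smooth_connected ((pullback.fst f t ⁻¹ᵁ U).ι ≫ pullback.snd f t)

end DevissExLib
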