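import Groth.Prelude
import Mathlib

/-!
# Residue fields: trivial extensions and purely transcendental extensions
-/

set_option autoImplicit false
set_option linter.all false

universe u

open scoped TensorProduct

namespace DevissExLib

/-- A field is algebraically closed in a purely transcendental extension. -/
theorem mem_range_of_isIntegral {k K : Type u} [Field k] [Field K] [Algebra k K] {ι : Type u}
    (x : ι → K) (hx : AlgebraicIndependent k x)
    (hadj : IntermediateField.adjoin k (Set.range x) = ⊤) (a : K) (ha : IsIntegral k a) :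
    a ∈ (algebraMap k K).range := by
  classical
  let e : FractionRing (MvPolynomial ι k) ≃ₐ[k] K :=
    hx.aevalEquivField.trans ((IntermediateField.equivOfEq hadj).trans IntermediateField.topEquiv)
  obtain ⟨b, rfl⟩ := e.surjective a
  have hb : IsIntegral k b := by simpa using ha.map e.symm.toAlgHom
  obtain ⟨c, rfl⟩ := IsIntegrallyClosed.isIntegral_iff.1 (hb.tower_top (A := MvPolynomial ι k))
  have hc : IsIntegral k c := (isIntegral_algebraMap_iff
    (IsFractionRing.injective (MvPolynomial ι k) (FractionRing (MvPolynomial ι k)))).1 hb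
  let ε : MvPolynomial ι k →ₐ[k] k := MvPolynomial.aeval (fun _ => 0)
  obtain ⟨p, hp, hpc⟩ := hc
  have hirr := minpoly.irreducible (⟨p, hp, hpc⟩ : IsIntegral k c)
  have hroot : (minpoly k c).IsRoot (ε c) := by
    have h := congrArg ε (minpoly.aeval k c)
    rw [map_zero, ← Polynomial.aeval_algHom_apply] at h
    rw [Polynomial.IsRoot, ← Polynomial.coe_aeval_eq_eval]; exact h
  have hdeg : (minpoly k c).degree = 1 := Polynomial.degree_eq_one_of_irreducible_of_root hirr hroot
  obtain ⟨r, hr⟩ := minpoly.mem_range_of_degree_eq_one k c hdeg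
  exact ⟨r, by rw [← hr, ← IsScalarTower.algebraMap_apply, AlgEquiv.commutes]⟩

theorem mem_range_of_purelyTranscendental {R S : Type u} [CommRing R] [CommRing S] [Algebra R S]
    (p : Ideal R) (q : Ideal S) [p.IsPrime] [q.IsPrime] [q.LiesOver p]
    (h : FlatCA.PurelyTranscendental p q) (a : q.ResidueField)
    (ha : (Ideal.ResidueField.mapₐ p q (Algebra.ofId R S) (Ideal.over_def q p)).toRingHom.IsIntegralElem a) :
    a ∈ (Ideal.ResidueField.mapₐ p q (Algebra.ofId R S) (Ideal.over_def q p)).toRingHom.range := by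
  letI : Algebra p.ResidueField q.ResidueField :=
    (Ideal.ResidueField.mapₐ p q (Algebra.ofId R S) (Ideal.over_def q p)).toRingHom.toAlgebra
  obtain ⟨ι, x, hx, hadj⟩ := h
  exact mem_range_of_isIntegral x hx.1 hadj a ha

variable {R R' : Type u} [CommRing R] [CommRing R'] [Algebra R R'] {p : Ideal R} {p' : Ideal R'}
  [p.IsPrime] [p'.IsPrime]

theorem bijective_mapₐ_of_surjective (h : p'.LiesOver p)
    (hs : Function.Surjective (Ideal.ResidueField.mapₐ p p' (Algebra.ofId R R') h.over)) :
    Function.Bijective (Ideal.ResidueField.mapₐ p p' (Algebra.ofId R R') h.over) :=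
  ⟨(Ideal.ResidueField.mapₐ p p' (Algebra.ofId R R') h.over).toRingHom.injective, hs⟩

/-- Surjectivity on residue fields is checked on the images of the ring. -/
theorem surjective_residue_of_range {k : Type u} [Field k] (φ : k →+* p'.ResidueField)
    (h : ∀ a : R', algebraMap R' p'.ResidueField a ∈ φ.range) : Function.Surjective φ := by
  intro z
  obtain ⟨⟨b, t⟩, rfl⟩ := IsLocalization.mk'_surjective (nonZeroDivisors (R' ⧸ p')) z
  obtain ⟨b, rfl⟩ := Ideal.Quotient.mk_surjective b
  obtain ⟨⟨t, ht⟩, rfl⟩ : ∃ x : {x : R' // Ideal.Quotient.mk p' x ∈ nonZeroDivisors (R' ⧸ p')},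
      (⟨Ideal.Quotient.mk p' x.1, x.2⟩ : nonZeroDivisors (R' ⧸ p')) = t := by
    obtain ⟨y, hy⟩ := Ideal.Quotient.mk_surjective (t : R' ⧸ p')
    exact ⟨⟨y, hy ▸ t.2⟩, Subtype.ext hy⟩
  obtain ⟨x, hx⟩ := h b
  obtain ⟨y, hy⟩ := h t
  refine ⟨x / y, ?_⟩
  rw [map_div₀, hx, hy]
  simp only [IsFractionRing.mk'_eq_div]
  rfl

/-- Trivial residue extensions compose. -/
theorem isEtaleNhd_trans {R'' : Type u} [CommRing R''] [Algebra R' R''] [Algebra R R'']
    [IsScalarTower R R' R''] {p'' : Ideal R''} [p''.IsPrime]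
    (h : FlatCA.IsEtaleNhd R R' p p') (h' : FlatCA.IsEtaleNhd R' R'' p' p'') :
    FlatCA.IsEtaleNhd R R'' p p'' := by
  obtain ⟨he, hl, hb⟩ := h
  obtain ⟨he', hl', hb'⟩ := h'
  haveI := he
  haveI := he'
  haveI := hl
  haveI := hl'
  refine ⟨Algebra.Etale.comp R R' R'', Ideal.LiesOver.trans p'' p' p, ?_⟩
  convert hb'.comp hb
  ext a
  show _ = Ideal.ResidueField.mapₐ p' p'' (Algebra.ofId R' R'') hl'.over
    (Ideal.ResidueField.mapₐ p p' (Algebra.ofId R R') hl.over a)
  have hext : (Ideal.ResidueField.mapₐ p p'' (Algebra.ofId R R'') (Ideal.LiesOver.trans p'' p' p).over).toRingHom =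
      (Ideal.ResidueField.mapₐ p' p'' (Algebra.ofId R' R'') hl'.over).toRingHom.comp
        (Ideal.ResidueField.mapₐ p p' (Algebra.ofId R R') hl.over).toRingHom :=
    Ideal.ResidueField.ringHom_ext (RingHom.ext fun r => by
      simp [← IsScalarTower.algebraMap_apply])
  exact RingHom.congr_fun hext a

end DevissExLib
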