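import Groth.Prelude
import Groth.Agent.DevissExLib.GeomConn
import Groth.Agent.DevissExLib.Resid
import Groth.Agent.SweepSix.GeomConn
import Groth.Agent.ProperConnLib.Core
import Groth.Agent.S0412
import Mathlib

/-!
# Geometrically irreducible fibres after étale localization

For a smooth algebra and a prime with purely transcendental residue extension, an étale neighbourhood
of the base and an open of the base change have geometrically irreducible fibres.
-/

set_option autoImplicit false
set_option linter.all false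

universe u

open CategoryTheory CategoryTheory.Limits AlgebraicGeometry TopologicalSpace
open scoped TensorProduct

namespace DevissExLib

section Component

variable {R D : Type u} [CommRing R] [CommRing D] [Algebra R D] [Algebra.FiniteType R D]
  (p : Ideal R) [p.IsPrime] (y : Ideal D) [y.IsPrime] [y.LiesOver p]

theorem component_geometric (hy : FlatCA.PurelyTranscendental p y) :
    ∃ C : Set ↥(Spec (CommRingCat.of D)),
      C = connectedComponentIn ((Spec.map (CommRingCat.ofHom (algebraMap R D))) ⁻¹'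
        {(⟨p, inferInstance⟩ : PrimeSpectrum R)}) (⟨y, inferInstance⟩ : PrimeSpectrum D) ∧
      (∃ w : D, w ∉ y ∧ ∀ x : PrimeSpectrum D,
        x.asIdeal.comap (algebraMap R D) = p → w ∉ x.asIdeal → x ∈ C) ∧
      ∀ (K : Type u) [Field K] (t : Spec (CommRingCat.of K) ⟶ Spec (CommRingCat.of R)),
        (∀ w, t w = (⟨p, inferInstance⟩ : PrimeSpectrum R)) →
        _root_.IsPreconnected (pullback.fst (Spec.map (CommRingCat.ofHom (algebraMap R D))) t ⁻¹' C) := by
  let f := Spec.map (CommRingCat.ofHom (algebraMap R D))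
  let F := p.Fiber D
  let κ := p.ResidueField
  let str : Spec (CommRingCat.of F) ⟶ Spec (CommRingCat.of κ) := Spec.map (CommRingCat.ofHom (algebraMap κ F))
  let iF : Spec (CommRingCat.of F) ⟶ Spec (CommRingCat.of D) :=
    Spec.map (CommRingCat.ofHom (Algebra.TensorProduct.includeRight.toRingHom : D →+* F))
  let sκ : Spec (CommRingCat.of κ) ⟶ Spec (CommRingCat.of R) := Spec.map (CommRingCat.ofHom (algebraMap R κ))
  have hsq : IsPullback str iF sκ f :=
    isPullback_SpecMap_of_isPushout _ _ _ _ (CommRingCat.isPushout_tensorProduct R κ D)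
  haveI : IsPreimmersion sκ := IsPreimmersion.mk_SpecMap
    (by
      haveI : Subsingleton (PrimeSpectrum κ) := inferInstance
      exact Topology.IsEmbedding.of_subsingleton _) p.surjectiveOnStalks_residueField
  haveI : IsPreimmersion iF := MorphismProperty.of_isPullback (P := @IsPreimmersion) hsq inferInstance
  have hsκ : ∀ w, sκ w = (⟨p, inferInstance⟩ : PrimeSpectrum R) := fun w => PrimeSpectrum.ext (by
    show w.asIdeal.comap (algebraMap R κ) = p
    rw [show w.asIdeal = ⊥ from (Ideal.eq_bot_or_top w.asIdeal).resolve_right w.isPrime.ne_top]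
    exact p.ker_algebraMap_residueField)
  have hrange : Set.range iF = f ⁻¹' {(⟨p, inferInstance⟩ : PrimeSpectrum R)} := by
    ext x
    constructor
    · rintro ⟨c, rfl⟩
      show f (iF c) = _
      rw [← Scheme.Hom.comp_apply, ← hsq.w, Scheme.Hom.comp_apply]
      exact hsκ _
    · intro hx
      obtain ⟨c, -, hc⟩ := Scheme.exists_preimage_of_isPullback hsq (IsLocalRing.closedPoint κ) x
        ((hsκ _).trans (Eq.symm (hx : f x = _)))
      exact ⟨c, hc⟩
  -- the point of the fibre
  letI algy : Algebra κ y.ResidueField :=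
    (Ideal.ResidueField.mapₐ p y (Algebra.ofId R D) (Ideal.over_def y p)).toRingHom.toAlgebra
  haveI : IsScalarTower R κ y.ResidueField := IsScalarTower.of_algebraMap_eq fun r =>
    ((Ideal.ResidueField.mapₐ p y (Algebra.ofId R D) (Ideal.over_def y p)).commutes r).symm
  let ψ : F →ₐ[R] y.ResidueField :=
    Algebra.TensorProduct.lift (IsScalarTower.toAlgHom R κ y.ResidueField)
      (IsScalarTower.toAlgHom R D y.ResidueField) (fun _ _ => Commute.all _ _)
  let j : Spec (CommRingCat.of y.ResidueField) ⟶ Spec (CommRingCat.of F) :=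
    Spec.map (CommRingCat.ofHom ψ.toRingHom)
  let g : Spec (CommRingCat.of y.ResidueField) ⟶ Spec (CommRingCat.of κ) :=
    Spec.map (CommRingCat.ofHom (algebraMap κ y.ResidueField))
  have hw : j ≫ str = g := by
    simp only [j, str, g, ← Spec.map_comp, ← CommRingCat.ofHom_comp]
    congr 2
    refine RingHom.ext fun a => ?_
    show ψ (a ⊗ₜ[R] 1) = _
    erw [Algebra.TensorProduct.lift_tmul]
    rw [map_one, mul_one]
    rfl
  haveI : GeometricallyConnected g := SweepSix.GeomConn.gc_specMap y.ResidueField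
    (SweepSix.GeomConn.separableClosure_eq_bot_of_forall _ fun a ha =>
      mem_range_of_purelyTranscendental p y hy a ha)
  let t₀ := IsLocalRing.closedPoint y.ResidueField
  have hjy : iF (j t₀) = (⟨y, inferInstance⟩ : PrimeSpectrum D) := by
    rw [← Scheme.Hom.comp_apply]
    simp only [j, iF, ← Spec.map_comp, ← CommRingCat.ofHom_comp]
    refine PrimeSpectrum.ext ?_
    show Ideal.comap _ (IsLocalRing.maximalIdeal y.ResidueField) = y
    rw [IsLocalRing.maximalIdeal_eq_bot]
    rw [show (ψ.toRingHom.comp (Algebra.TensorProduct.includeRight.toRingHom : D →+* F)) =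
      algebraMap D y.ResidueField from RingHom.ext fun d => by
        show ψ (1 ⊗ₜ[R] d) = _
        erw [Algebra.TensorProduct.lift_tmul]
        rw [map_one, one_mul]
        rfl]
    exact y.ker_algebraMap_residueField
  haveI : Algebra.FiniteType κ F := inferInstance
  haveI : IsNoetherianRing F := Algebra.FiniteType.isNoetherianRing κ F
  haveI : LocallyConnectedSpace ↥(Spec (CommRingCat.of F)) :=
    ProperConnLib.locallyConnectedSpace _
  let E := connectedComponent (j t₀)
  have hC : connectedComponentIn (f ⁻¹' {(⟨p, inferInstance⟩ : PrimeSpectrum R)})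
      (⟨y, inferInstance⟩ : PrimeSpectrum D) = iF '' E := by
    rw [← hrange, ← Set.image_univ, ← hjy,
      ← SecNhdLib.image_connectedComponentIn iF.isEmbedding (Set.mem_univ _), connectedComponentIn_univ]
  refine ⟨_, rfl, ?_, ?_⟩
  · obtain ⟨O, hO, hOE⟩ := iF.isEmbedding.isInducing.isOpen_iff.1
      (isOpen_connectedComponent (x := j t₀))
    have hyO : (⟨y, inferInstance⟩ : PrimeSpectrum D) ∈ O := by
      rw [← hjy]; exact (hOE.symm ▸ mem_connectedComponent : j t₀ ∈ iF ⁻¹' O)
    obtain ⟨_, ⟨w, rfl⟩, hwy, hwO⟩ :=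
      PrimeSpectrum.isTopologicalBasis_basic_opens.exists_subset_of_mem_open hyO hO
    refine ⟨w, hwy, fun x hx hwx => ?_⟩
    rw [hC]
    obtain ⟨c, rfl⟩ : x ∈ Set.range iF := hrange.ge (PrimeSpectrum.ext hx)
    exact ⟨c, by show c ∈ connectedComponent (j t₀); rw [← hOE]; exact hwO hwx, rfl⟩
  intro K _ t ht
  rw [hC]
  let φ : R →+* K := (Spec.preimage t).hom
  have hφ : Spec.map (CommRingCat.ofHom φ) = t := Spec.map_preimage t
  have hker : RingHom.ker φ = p := by
    have h1 := congrArg PrimeSpectrum.asIdeal (ht (IsLocalRing.closedPoint K))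
    rw [← hφ] at h1
    change Ideal.comap φ (IsLocalRing.maximalIdeal K) = p at h1
    rwa [IsLocalRing.maximalIdeal_eq_bot] at h1
  letI : Algebra κ K := (Ideal.ResidueField.lift p φ hker.ge (fun r hr => (Ne.isUnit fun h0 =>
    hr (hker.le h0)))).toAlgebra
  let s : Spec (CommRingCat.of K) ⟶ Spec (CommRingCat.of κ) := Spec.map (CommRingCat.ofHom (algebraMap κ K))
  have hs : s ≫ sκ = t := by
    rw [← hφ]
    simp only [s, sκ, ← Spec.map_comp, ← CommRingCat.ofHom_comp]
    congr 2
    exact RingHom.ext fun r => (Ideal.ResidueField.lift_algebraMap p φ hker.ge (fun r hr => Ne.isUnit fun h0 => hr (hker.le h0)) r :)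
  let c : pullback str s ⟶ pullback f t :=
    pullback.lift (pullback.fst str s ≫ iF) (pullback.snd str s) (by
      rw [Category.assoc, ← hsq.w, pullback.condition_assoc, hs])
  have hcart : IsPullback (pullback.fst str s) c iF (pullback.fst f t) := by
    refine IsPullback.of_bot ?_ (pullback.lift_fst _ _ _).symm (IsPullback.of_hasPullback f t)
    rw [show c ≫ pullback.snd f t = pullback.snd str s from pullback.lift_snd _ _ _]
    rw [← hsq.w]
    have hmono : IsPullback s (𝟙 _) sκ t := IsPullback.of_vert_isIso_mono ⟨by simp [hs]⟩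
    simpa using (IsPullback.of_hasPullback str s).paste_vert hmono
  have hpre := (SweepSix.GeomConn.isConnected_preimage_cc_of_source str K j g hw t₀).isPreconnected
  have heq : pullback.fst f t ⁻¹' (iF '' E) = c '' (pullback.fst str s ⁻¹' E) := by
    ext u
    constructor
    · rintro ⟨e, he, heu⟩
      obtain ⟨r, hr1, hr2⟩ := Scheme.exists_preimage_of_isPullback hcart e u heu
      exact ⟨r, by show _ ∈ E; rwa [hr1], hr2⟩
    · rintro ⟨r, hr, rfl⟩
      exact ⟨_, hr, by rw [← Scheme.Hom.comp_apply, hcart.w, Scheme.Hom.comp_apply]⟩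
  rw [heq]
  exact hpre.image _ c.continuous.continuousOn

end Component

section Main

variable {R D : Type u} [CommRing R] [CommRing D] [Algebra R D]

theorem mem_range_residue_tensor {R₁ : Type u} [CommRing R₁] [Algebra R R₁] (p : Ideal R) [p.IsPrime]
    (P : Ideal R₁) [P.IsPrime] [P.LiesOver p] (y : Ideal D) [y.IsPrime] [y.LiesOver p]
    (hres : Function.Surjective (Ideal.ResidueField.mapₐ p P (Algebra.ofId R R₁) (Ideal.over_def P p)))
    (y₁ : Ideal (R₁ ⊗[R] D)) [y₁.IsPrime]
    (hyP : y₁.comap (algebraMap R₁ (R₁ ⊗[R] D)) = P)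
    (hyy : y = y₁.comap (Algebra.TensorProduct.includeRight : D →ₐ[R] R₁ ⊗[R] D).toRingHom)
    (a : R₁ ⊗[R] D) :
    algebraMap (R₁ ⊗[R] D) y₁.ResidueField a ∈ (Ideal.ResidueField.map y y₁
      (Algebra.TensorProduct.includeRight : D →ₐ[R] R₁ ⊗[R] D).toRingHom hyy).range := by
  let φ := Ideal.ResidueField.map y y₁
    (Algebra.TensorProduct.includeRight : D →ₐ[R] R₁ ⊗[R] D).toRingHom hyy
  induction a using TensorProduct.induction_on with
  | zero => rw [map_zero]; exact zero_mem _
  | add a b ha hb => rw [map_add]; exact add_mem ha hb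
  | tmul a d =>
    rw [show a ⊗ₜ[R] d = algebraMap R₁ (R₁ ⊗[R] D) a *
      (Algebra.TensorProduct.includeRight : D →ₐ[R] R₁ ⊗[R] D) d by
        rw [Algebra.TensorProduct.algebraMap_apply, Algebra.TensorProduct.includeRight_apply,
          Algebra.TensorProduct.tmul_mul_tmul, Algebra.algebraMap_self, RingHom.id_apply, mul_one,
          one_mul], map_mul]
    refine mul_mem ?_ ⟨algebraMap D y.ResidueField d, Ideal.ResidueField.map_algebraMap _ _ _ _ _⟩
    obtain ⟨c, hc⟩ := hres (algebraMap R₁ P.ResidueField a)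
    let π := Ideal.ResidueField.map P y₁ (algebraMap R₁ (R₁ ⊗[R] D)) hyP.symm
    refine ⟨Ideal.ResidueField.map p y (algebraMap R D) (Ideal.over_def y p) c, ?_⟩
    have hext : (φ.comp (Ideal.ResidueField.map p y (algebraMap R D) (Ideal.over_def y p))) =
        π.comp (Ideal.ResidueField.mapₐ p P (Algebra.ofId R R₁) (Ideal.over_def P p)).toRingHom :=
      Ideal.ResidueField.ringHom_ext (RingHom.ext fun r => by
        simp only [π, φ, RingHom.comp_apply, AlgHom.toRingHom_eq_coe, RingHom.coe_coe,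
          Ideal.ResidueField.map_algebraMap, Ideal.ResidueField.mapₐ_apply, Algebra.ofId_apply]
        congr 1
        exact AlgHom.commutes _ r)
    have h := RingHom.congr_fun hext c
    simp only [RingHom.comp_apply, AlgHom.toRingHom_eq_coe, RingHom.coe_coe, hc] at h
    rw [h]
    exact Ideal.ResidueField.map_algebraMap _ _ _ _ _

theorem exists_geomIrred_nhd [Algebra.Smooth R D] (p : Ideal R) [p.IsPrime] (y : Ideal D) [y.IsPrime]
    [y.LiesOver p] (hy : FlatCA.PurelyTranscendental p y) :
    ∃ (R' : Type u) (_ : CommRing R') (_ : Algebra R R') (p' : Ideal R') (_ : p'.IsPrime),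
      FlatCA.IsEtaleNhd R R' p p' ∧
    ∃ (D' : Type u) (_ : CommRing D') (_ : Algebra D D') (_ : Algebra R' D') (_ : Algebra R D')
      (_ : IsScalarTower R D D') (_ : IsScalarTower R R' D') (y' : Ideal D') (_ : y'.IsPrime),
      FlatCA.IsEtaleNhd D D' y y' ∧ y'.LiesOver p' ∧ FlatCA.GeomIrredFibres R' D' ∧
      ∀ n, FlatCA.SmoothRelDim n R D → FlatCA.SmoothRelDim n R' D' := by
  classical
  obtain ⟨C, hCdef, ⟨w₀, hw₀, hw₀C⟩, hC⟩ := component_geometric p y hy
  -- a quasi-section through the component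
  let f₀ := Spec.map (CommRingCat.ofHom (algebraMap R (Localization.Away w₀)))
  haveI : Algebra.Smooth D (Localization.Away w₀) := inferInstance
  haveI : Algebra.Smooth R (Localization.Away w₀) := Algebra.Smooth.comp R D _
  haveI : Smooth f₀ := by
    rw [HasRingHomProperty.Spec_iff (P := @Smooth)]
    exact RingHom.smooth_algebraMap.2 inferInstance
  have hyw : Disjoint (Submonoid.powers w₀ : Set D) (y : Set D) :=
    (Ideal.disjoint_powers_iff_notMem_of_isPrime _).2 hw₀
  haveI hy₀ := IsLocalization.isPrime_of_isPrime_disjoint (Submonoid.powers w₀) (Localization.Away w₀) y ‹_› hyw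
  obtain ⟨S', gS, s', hgS, hs', h, hh⟩ := Groth.Agent.S0412.result f₀ (⟨p, inferInstance⟩ : PrimeSpectrum R)
    ⟨⟨y.map (algebraMap D (Localization.Away w₀)), hy₀⟩, PrimeSpectrum.ext (by
      show Ideal.comap (algebraMap R (Localization.Away w₀)) (y.map (algebraMap D (Localization.Away w₀))) = p
      rw [IsScalarTower.algebraMap_eq R D (Localization.Away w₀), ← Ideal.comap_comap,
        show Ideal.comap (algebraMap D (Localization.Away w₀)) (y.map (algebraMap D (Localization.Away w₀))) = y from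
          IsLocalization.comap_map_of_isPrime_disjoint _ _ ‹_› hyw]
      exact (Ideal.over_def y p).symm)⟩
  obtain ⟨W, hW, hs'W, -⟩ := exists_isAffineOpen_mem_and_subset (x := s') (U := ⊤) trivial
  let A : Type u := Γ(S', W)
  let a : Spec (CommRingCat.of A) ⟶ Spec (CommRingCat.of R) := hW.fromSpec ≫ gS
  let ψ : R →+* A := (Spec.preimage a).hom
  have hψ : Spec.map (CommRingCat.ofHom ψ) = a := Spec.map_preimage a
  letI : Algebra R A := ψ.toAlgebra
  haveI : Algebra.Etale R A := by
    have h1 : Etale (Spec.map (CommRingCat.ofHom ψ)) := by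
      rw [hψ]; haveI := hgS; infer_instance
    rw [HasRingHomProperty.Spec_iff (P := @Etale)] at h1
    exact RingHom.etale_algebraMap.1 h1
  let b : Spec (CommRingCat.of A) ⟶ Spec (CommRingCat.of D) :=
    hW.fromSpec ≫ h ≫ Spec.map (CommRingCat.ofHom (algebraMap D (Localization.Away w₀)))
  have hbR : (Spec.preimage b).hom.comp (algebraMap R D) = ψ := by
    have h1 : b ≫ Spec.map (CommRingCat.ofHom (algebraMap R D)) = a := by
      show (hW.fromSpec ≫ h ≫ _) ≫ _ = hW.fromSpec ≫ gS
      rw [Category.assoc, Category.assoc, ← Spec.map_comp, ← CommRingCat.ofHom_comp,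
        ← IsScalarTower.algebraMap_eq, hh]
    rw [← Spec.map_preimage b, ← hψ, ← Spec.map_comp, Spec.map_inj] at h1
    exact congrArg CommRingCat.Hom.hom h1
  let σ₀ : D →ₐ[R] A :=
    { __ := (Spec.preimage b).hom, commutes' := fun r => RingHom.congr_fun hbR r }
  obtain ⟨z, hz⟩ : ∃ z, hW.fromSpec z = s' := by
    rw [← Set.mem_range, hW.range_fromSpec]; exact hs'W
  have hzp : z.asIdeal.comap (algebraMap R A) = p := by
    have h1 : Spec.map (CommRingCat.ofHom ψ) z = (⟨p, inferInstance⟩ : PrimeSpectrum R) := by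
      rw [hψ]; show gS (hW.fromSpec z) = _; rw [hz, hs']
    exact congrArg PrimeSpectrum.asIdeal h1
  have hzC : (⟨z.asIdeal.comap σ₀.toRingHom, inferInstance⟩ : PrimeSpectrum D) ∈ C := by
    refine hw₀C _ ?_ ?_
    · show (z.asIdeal.comap σ₀.toRingHom).comap (algebraMap R D) = p
      rw [Ideal.comap_comap, show σ₀.toRingHom.comp (algebraMap R D) = algebraMap R A from σ₀.comp_algebraMap]; exact hzp
    · have h1 : Spec.map (Spec.preimage b) z =
          Spec.map (CommRingCat.ofHom (algebraMap D (Localization.Away w₀))) (h (hW.fromSpec z)) := by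
        rw [Spec.map_preimage]; rfl
      intro hw
      have h2 : w₀ ∈ (Spec.map (Spec.preimage b) z).asIdeal := hw
      rw [h1] at h2
      exact (h (hW.fromSpec z)).isPrime.ne_top (Ideal.eq_top_of_isUnit_mem _ h2
        (IsLocalization.Away.algebraMap_isUnit w₀))
  haveI : z.asIdeal.LiesOver p := ⟨hzp.symm⟩
  haveI : Algebra.QuasiFinite R A := inferInstance
  -- make it finite
  obtain ⟨R₁, _, _, _, P, _, _, e, he, P', _, _, hP'z, heP', hres, hfin, huniq⟩ :=
    Algebra.exists_etale_isIdempotentElem_forall_liesOver_eq p z.asIdeal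
  haveI := hfin
  let A₁ := Localization.Away e
  haveI : Algebra.Etale R₁ A₁ := Algebra.Etale.comp R₁ (R₁ ⊗[R] A) A₁
  let D₁ := R₁ ⊗[R] D
  let σ₁ : D₁ →ₐ[R₁] A₁ := (IsScalarTower.toAlgHom R₁ (R₁ ⊗[R] A) A₁).comp
    (Algebra.TensorProduct.map (AlgHom.id R₁ R₁) σ₀)
  let f := Spec.map (CommRingCat.ofHom (algebraMap R D))
  let g₁ := Spec.map (CommRingCat.ofHom (algebraMap R R₁))
  let f₁ := Spec.map (CommRingCat.ofHom (algebraMap R₁ D₁))
  let pr : Spec (CommRingCat.of D₁) ⟶ Spec (CommRingCat.of D) :=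
    Spec.map (CommRingCat.ofHom (Algebra.TensorProduct.includeRight.toRingHom : D →+* D₁))
  have hsq : IsPullback f₁ pr g₁ f :=
    isPullback_SpecMap_of_isPushout _ _ _ _ (CommRingCat.isPushout_tensorProduct R R₁ D)
  let gA := Spec.map (CommRingCat.ofHom (algebraMap R₁ A₁))
  let eA : Spec (CommRingCat.of A₁) ⟶ Spec (CommRingCat.of D₁) := Spec.map (CommRingCat.ofHom σ₁.toRingHom)
  have heA : eA ≫ f₁ = gA := by
    simp only [eA, f₁, gA, ← Spec.map_comp, ← CommRingCat.ofHom_comp]
    congr 2
    exact σ₁.comp_algebraMap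
  haveI : IsFinite gA := by
    rw [IsFinite.SpecMap_iff]
    exact RingHom.finite_algebraMap.2 inferInstance
  haveI : Etale gA := by
    rw [HasRingHomProperty.Spec_iff (P := @Etale)]
    exact RingHom.etale_algebraMap.2 inferInstance
  haveI : Smooth f := by
    rw [HasRingHomProperty.Spec_iff (P := @Smooth)]
    exact RingHom.smooth_algebraMap.2 inferInstance
  haveI : Smooth f₁ := MorphismProperty.of_isPullback (P := @Smooth) hsq.flip inferInstance
  let sP : PrimeSpectrum R₁ := ⟨P, inferInstance⟩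
  have hgP : g₁ sP = (⟨p, inferInstance⟩ : PrimeSpectrum R) := PrimeSpectrum.ext (Ideal.over_def P p).symm
  obtain ⟨y₁, hy₁P, hy₁y⟩ := Scheme.exists_preimage_of_isPullback hsq sP (⟨y, inferInstance⟩ : PrimeSpectrum D)
    (hgP.trans (PrimeSpectrum.ext (Ideal.over_def y p)))
  let C₁ := connectedComponentIn (f₁ ⁻¹' {sP}) y₁
  have hprC : ∀ x ∈ C₁, pr x ∈ C := by
    have h1 : pr '' C₁ ⊆ C := by
      rw [hCdef]
      refine (isPreconnected_connectedComponentIn.image pr pr.continuous.continuousOn).subset_connectedComponentIn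
        ⟨y₁, mem_connectedComponentIn hy₁P, hy₁y⟩ ?_
      rintro _ ⟨x, hx, rfl⟩
      show f (pr x) = _
      rw [← Scheme.Hom.comp_apply, ← hsq.w, Scheme.Hom.comp_apply,
        show f₁ x = sP from (connectedComponentIn_subset _ _ hx :)]
      exact hgP
    exact fun x hx => h1 ⟨x, hx, rfl⟩
  have hpre : ∀ (K : Type u) [Field K] (t : Spec (CommRingCat.of K) ⟶ Spec (CommRingCat.of R₁)),
      (∀ w, t w = sP) → _root_.IsPreconnected (pullback.fst f₁ t ⁻¹' (pr ⁻¹' C)) := by
    intro K _ t ht
    let j : pullback f₁ t ⟶ pullback f (t ≫ g₁) :=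
      pullback.lift (pullback.fst f₁ t ≫ pr) (pullback.snd f₁ t) (by
        rw [Category.assoc, ← hsq.w, pullback.condition_assoc])
    haveI : IsIso j := by
      have hb := (IsPullback.of_hasPullback f₁ t).paste_horiz hsq.flip
      have hj : j = hb.isoPullback.hom := by
        apply pullback.hom_ext
        · rw [hb.isoPullback_hom_fst]; exact pullback.lift_fst _ _ _
        · rw [hb.isoPullback_hom_snd]; exact pullback.lift_snd _ _ _
      rw [hj]; infer_instance
    have h1 := hC K (t ≫ g₁) fun w => by rw [Scheme.Hom.comp_apply, ht]; exact hgP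
    have heq : pullback.fst f₁ t ⁻¹' (pr ⁻¹' C) = inv j '' (pullback.fst f (t ≫ g₁) ⁻¹' C) := by
      ext u
      constructor
      · intro hu
        refine ⟨j u, ?_, by rw [← Scheme.Hom.comp_apply, IsIso.hom_inv_id]; rfl⟩
        show pullback.fst f (t ≫ g₁) (j u) ∈ C
        rw [← Scheme.Hom.comp_apply, show j ≫ pullback.fst f (t ≫ g₁) = _ from pullback.lift_fst _ _ _]
        exact hu
      · rintro ⟨v, hv, rfl⟩
        show pr (pullback.fst f₁ t (inv j v)) ∈ C
        rw [← Scheme.Hom.comp_apply, ← show j ≫ pullback.fst f (t ≫ g₁) = _ from pullback.lift_fst _ _ _,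
          ← Scheme.Hom.comp_apply, IsIso.inv_hom_id_assoc]
        exact hv
    rw [heq]
    exact h1.image _ (inv j).continuous.continuousOn
  have hC₁ : ∀ x, f₁ x = sP → pr x ∈ C → x ∈ C₁ := by
    intro x hx hxC
    let t := (Spec (CommRingCat.of R₁)).fromSpecResidueField sP
    have ht : ∀ w, t w = sP := fun w => Scheme.fromSpecResidueField_apply ..
    have h1 := hpre ((Spec (CommRingCat.of R₁)).residueField sP) t ht
    have hsurj : ∀ c, f₁ c = sP → ∃ v, pullback.fst f₁ t v = c := fun c hc => by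
      obtain ⟨v, hv, -⟩ := Scheme.exists_preimage_of_isPullback (IsPullback.of_hasPullback f₁ t) c
        (IsLocalRing.closedPoint _) (hc.trans (ht _).symm)
      exact ⟨v, hv⟩
    obtain ⟨v, rfl⟩ := hsurj x hx
    obtain ⟨v₁, hv₁⟩ := hsurj y₁ hy₁P
    refine (h1.image (pullback.fst f₁ t) (pullback.fst f₁ t).continuous.continuousOn).subset_connectedComponentIn
      ⟨v₁, ?_, hv₁⟩ ?_ ⟨v, hxC, rfl⟩
    · show pr (pullback.fst f₁ t v₁) ∈ C
      rw [hv₁, hy₁y, hCdef]
      exact mem_connectedComponentIn (PrimeSpectrum.ext (Ideal.over_def y p).symm)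
    · rintro _ ⟨c, -, rfl⟩
      show f₁ (pullback.fst f₁ t c) = sP
      rw [← Scheme.Hom.comp_apply, pullback.condition, Scheme.Hom.comp_apply]
      exact ht _
  have hne : sP ∈ Set.range gA := by
    have hd : Disjoint (Submonoid.powers e : Set (R₁ ⊗[R] A)) (P' : Set (R₁ ⊗[R] A)) :=
      (Ideal.disjoint_powers_iff_notMem_of_isPrime _).2 heP'
    refine ⟨⟨P'.map (algebraMap _ A₁), IsLocalization.isPrime_of_isPrime_disjoint (Submonoid.powers e) A₁ P' ‹_› hd⟩,
      PrimeSpectrum.ext ?_⟩
    show Ideal.comap (algebraMap R₁ A₁) (P'.map (algebraMap _ A₁)) = P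
    rw [IsScalarTower.algebraMap_eq R₁ (R₁ ⊗[R] A) A₁, ← Ideal.comap_comap,
      show Ideal.comap (algebraMap (R₁ ⊗[R] A) A₁) (P'.map (algebraMap _ A₁)) = P' from
        IsLocalization.comap_map_of_isPrime_disjoint _ _ ‹_› hd]
    exact (Ideal.over_def P' P).symm
  obtain ⟨U, V, hyU, hPV, hirr⟩ := exists_open_geomIrred f₁ gA eA heA sP y₁ hy₁P hne
    (fun q hq => by
      refine hC₁ _ (by rw [← Scheme.Hom.comp_apply, heA]; exact hq) ?_
      let Q := q.asIdeal.comap (algebraMap (R₁ ⊗[R] A) A₁)
      haveI : Q.LiesOver P := ⟨by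
        show P = Ideal.comap _ (Ideal.comap _ q.asIdeal)
        rw [Ideal.comap_comap, ← IsScalarTower.algebraMap_eq]
        exact (congrArg PrimeSpectrum.asIdeal hq).symm⟩
      have hQ : Q = P' := huniq Q inferInstance inferInstance fun he' =>
        q.isPrime.ne_top (Ideal.eq_top_of_isUnit_mem _ he' (IsLocalization.Away.algebraMap_isUnit e))
      have hpq : pr (eA q) = (⟨z.asIdeal.comap σ₀.toRingHom, inferInstance⟩ : PrimeSpectrum D) := by
        refine PrimeSpectrum.ext ?_
        show Ideal.comap _ (Ideal.comap σ₁.toRingHom q.asIdeal) = z.asIdeal.comap σ₀.toRingHom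
        rw [← hP'z, ← hQ]
        simp only [Q, Ideal.comap_comap]
        congr 1
      rw [hpq]; exact hzC)
    (fun K _ t ht => by
      have heq : pullback.fst f₁ t ⁻¹' C₁ = pullback.fst f₁ t ⁻¹' (pr ⁻¹' C) := by
        ext u
        refine ⟨fun hu => hprC _ hu, fun hu => hC₁ _ ?_ hu⟩
        rw [← Scheme.Hom.comp_apply, pullback.condition, Scheme.Hom.comp_apply]
        exact ht _
      show _root_.IsPreconnected (pullback.fst f₁ t ⁻¹' C₁)
      rw [heq]; exact hpre K t ht)
  -- shrink to basic opens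
  obtain ⟨_, ⟨w, rfl⟩, hwy, hwU⟩ := PrimeSpectrum.isTopologicalBasis_basic_opens.exists_subset_of_mem_open
    (show y₁ ∈ (U : Set _) ∩ f₁ ⁻¹' V from ⟨hyU, by show f₁ y₁ ∈ V; rw [hy₁P]; exact hPV⟩)
    (U.isOpen.inter (V.isOpen.preimage f₁.continuous))
  obtain ⟨_, ⟨γ, rfl⟩, hγP, hγsub⟩ := PrimeSpectrum.isTopologicalBasis_basic_opens.exists_subset_of_mem_open
    (show sP ∈ f₁ '' (PrimeSpectrum.basicOpen w : Set (PrimeSpectrum D₁)) from ⟨y₁, hwy, hy₁P⟩)
    (f₁.isOpenMap _ (PrimeSpectrum.basicOpen w).isOpen)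
  let R' := Localization.Away γ
  let wg := w * algebraMap R₁ D₁ γ
  let D' := Localization.Away wg
  have hγu : IsUnit (algebraMap R₁ D' γ) := by
    rw [IsScalarTower.algebraMap_apply R₁ D₁ D']
    exact isUnit_of_dvd_unit (map_dvd _ (dvd_mul_left (algebraMap R₁ D₁ γ) w))
      (IsLocalization.Away.algebraMap_isUnit wg)
  letI algR'D' : Algebra R' D' := (IsLocalization.Away.lift (S := R') γ hγu).toAlgebra
  haveI : IsScalarTower R₁ R' D' := IsScalarTower.of_algebraMap_eq fun r =>
    (IsLocalization.Away.lift_eq γ hγu r).symm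
  haveI : IsScalarTower R R' D' := IsScalarTower.of_algebraMap_eq fun r => by
    rw [IsScalarTower.algebraMap_apply R R₁ R' r, ← IsScalarTower.algebraMap_apply R₁ R' D',
      IsScalarTower.algebraMap_apply R₁ D₁ D', IsScalarTower.algebraMap_apply R D₁ D',
      IsScalarTower.algebraMap_apply R R₁ D₁]
  have hfy : y₁.asIdeal.comap (algebraMap R₁ D₁) = P := congrArg PrimeSpectrum.asIdeal hy₁P
  have hwgy : wg ∉ y₁.asIdeal := fun h => by
    rcases y₁.isPrime.mem_or_mem h with h1 | h1
    · exact hwy h1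
    · exact hγP (show γ ∈ P from hfy.le h1)
  have hdisj : Disjoint (Submonoid.powers wg : Set D₁) (y₁.asIdeal : Set D₁) :=
    (Ideal.disjoint_powers_iff_notMem_of_isPrime _).2 hwgy
  let y' := y₁.asIdeal.map (algebraMap D₁ D')
  haveI hy' : y'.IsPrime := IsLocalization.isPrime_of_isPrime_disjoint _ D' _ y₁.isPrime hdisj
  have hy'₁ : y'.comap (algebraMap D₁ D') = y₁.asIdeal :=
    IsLocalization.comap_map_of_isPrime_disjoint _ D' y₁.isPrime hdisj
  have hPd : Disjoint (Submonoid.powers γ : Set R₁) (P : Set R₁) :=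
    (Ideal.disjoint_powers_iff_notMem_of_isPrime _).2 hγP
  let p' := P.map (algebraMap R₁ R')
  haveI hp' : p'.IsPrime := IsLocalization.isPrime_of_isPrime_disjoint _ R' P ‹_› hPd
  haveI : p'.LiesOver P := ⟨(IsLocalization.comap_map_of_isPrime_disjoint _ R' ‹_› hPd).symm⟩
  have hnR : FlatCA.IsEtaleNhd R R' p p' := by
    refine isEtaleNhd_trans (R' := R₁) (p' := P) ⟨inferInstance, inferInstance, hres⟩ ⟨inferInstance, inferInstance, ?_⟩
    exact (RingHom.surjectiveOnStalks_of_isLocalization (Submonoid.powers γ) R').residueFieldMap_bijective _ _ _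
  letI algD₁ : Algebra D D₁ := (Algebra.TensorProduct.includeRight : D →ₐ[R] D₁).toRingHom.toAlgebra
  haveI : IsScalarTower R D D₁ := IsScalarTower.of_algebraMap_eq fun r =>
    ((Algebra.TensorProduct.includeRight : D →ₐ[R] D₁).commutes r).symm
  haveI : IsScalarTower R D D' := IsScalarTower.of_algebraMap_eq fun r => by
    rw [IsScalarTower.algebraMap_apply D D₁ D', ← IsScalarTower.algebraMap_apply R D D₁,
      ← IsScalarTower.algebraMap_apply]
  refine ⟨R', inferInstance, inferInstance, p', hp', hnR, D', inferInstance, inferInstance, algR'D', inferInstance,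
    inferInstance, inferInstance, y', hy', ?_, ?_, ?_, ?_⟩
  · haveI : Algebra.IsPushout R R₁ D D₁ := inferInstanceAs (Algebra.IsPushout R R₁ D (R₁ ⊗[R] D))
    haveI : Algebra.Etale D D₁ := RingHom.etale_algebraMap.1
      (RingHom.Etale.isStableUnderBaseChange R R₁ D D₁ (RingHom.etale_algebraMap.2 inferInstance))
    haveI : y₁.asIdeal.LiesOver y := ⟨(congrArg PrimeSpectrum.asIdeal hy₁y).symm⟩
    haveI : y'.LiesOver y₁.asIdeal := ⟨hy'₁.symm⟩
    refine isEtaleNhd_trans (R' := D₁) (p' := y₁.asIdeal) ⟨inferInstance, inferInstance, ?_⟩ ⟨inferInstance, inferInstance, ?_⟩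
    · refine ⟨RingHom.injective _, surjective_residue_of_range _ fun a => ?_⟩
      exact mem_range_residue_tensor p P y hres.2 y₁.asIdeal hfy (congrArg PrimeSpectrum.asIdeal hy₁y).symm a
    · exact (RingHom.surjectiveOnStalks_of_isLocalization (Submonoid.powers wg) D').residueFieldMap_bijective _ _ _
  · refine ⟨?_⟩
    refine (IsLocalization.orderEmbedding (Submonoid.powers γ) R').injective ?_
    show p'.comap (algebraMap R₁ R') = (y'.comap (algebraMap R' D')).comap (algebraMap R₁ R')
    rw [Ideal.comap_comap, ← IsScalarTower.algebraMap_eq, IsScalarTower.algebraMap_eq R₁ D₁ D',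
      ← Ideal.comap_comap, hy'₁, hfy]
    exact IsLocalization.comap_map_of_isPrime_disjoint _ R' ‹_› hPd
  all_goals
    let jγ := Spec.map (CommRingCat.ofHom (algebraMap R₁ R'))
    haveI : IsOpenImmersion jγ := IsOpenImmersion.of_isLocalization γ
    let ιD := Spec.map (CommRingCat.ofHom (algebraMap D₁ D'))
    haveI : IsOpenImmersion ιD := IsOpenImmersion.of_isLocalization wg
    let h₂ := Spec.map (CommRingCat.ofHom (algebraMap R' D'))
    have hcomm : h₂ ≫ jγ = ιD ≫ f₁ := by
      simp only [h₂, jγ, ιD, f₁, ← Spec.map_comp, ← CommRingCat.ofHom_comp, ← IsScalarTower.algebraMap_eq]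
  · refine ⟨geometrically_iff_of_commRing_of_isClosedUnderIsomorphisms.mpr fun K _ _ => ?_⟩
    let t := Spec.map (CommRingCat.ofHom (algebraMap R' K))
    let t₁ := t ≫ jγ
    have ht₁ : ∀ v, t₁ v ∈ f₁ '' (PrimeSpectrum.basicOpen w : Set (PrimeSpectrum D₁)) := fun v => by
      refine hγsub ?_
      show γ ∉ (jγ (t v)).asIdeal
      exact fun hmem => (t v).isPrime.ne_top (Ideal.eq_top_of_isUnit_mem _ hmem
        (IsLocalization.Away.algebraMap_isUnit γ))
    haveI hI : IrreducibleSpace ↥(pullback.fst f₁ t₁ ⁻¹ᵁ U) := hirr K t₁ fun v => by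
      obtain ⟨x, hx, hxv⟩ := ht₁ v
      rw [← hxv]; exact (hwU hx).2
    let c : pullback h₂ t ⟶ pullback f₁ t₁ :=
      pullback.lift (pullback.fst h₂ t ≫ ιD) (pullback.snd h₂ t) (by
        rw [Category.assoc, ← hcomm, pullback.condition_assoc])
    have hmono : IsPullback t (𝟙 _) jγ t₁ := IsPullback.of_vert_isIso_mono ⟨by simp [t₁]⟩
    have hc : IsPullback (pullback.fst h₂ t) c ιD (pullback.fst f₁ t₁) := by
      refine IsPullback.of_bot ?_ (pullback.lift_fst _ _ _).symm (IsPullback.of_hasPullback f₁ t₁)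
      rw [show c ≫ pullback.snd f₁ t₁ = pullback.snd h₂ t from pullback.lift_snd _ _ _, ← hcomm]
      simpa using (IsPullback.of_hasPullback h₂ t).paste_vert hmono
    haveI : IsOpenImmersion c := MorphismProperty.of_isPullback (P := @IsOpenImmersion) hc inferInstance
    have hrng : Set.range c ⊆ (pullback.fst f₁ t₁ ⁻¹ᵁ U : Set _) := by
      rintro _ ⟨v, rfl⟩
      show pullback.fst f₁ t₁ (c v) ∈ U
      rw [← Scheme.Hom.comp_apply, ← hc.w, Scheme.Hom.comp_apply]
      refine (hwU ?_).1
      show w ∉ (ιD (pullback.fst h₂ t v)).asIdeal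
      exact fun hmem => (pullback.fst h₂ t v).isPrime.ne_top (Ideal.eq_top_of_isUnit_mem _ hmem
        (isUnit_of_dvd_unit (map_dvd _ (dvd_mul_right w _)) (IsLocalization.Away.algebraMap_isUnit wg)))
    haveI : Nonempty ↥(pullback h₂ t) := by
      obtain ⟨x, hx, hxv⟩ := ht₁ (IsLocalRing.closedPoint K)
      have hxg : algebraMap R₁ D₁ γ ∉ x.asIdeal := fun hm => by
        have h1 : γ ∈ (f₁ x).asIdeal := hm
        rw [hxv] at h1
        exact (t (IsLocalRing.closedPoint K)).isPrime.ne_top (Ideal.eq_top_of_isUnit_mem _ h1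
          (IsLocalization.Away.algebraMap_isUnit γ))
      obtain ⟨x', hx'⟩ : x ∈ Set.range ιD := by
        show x ∈ Set.range (PrimeSpectrum.comap (algebraMap D₁ D'))
        rw [PrimeSpectrum.localization_away_comap_range D' wg]
        exact fun hm => (x.isPrime.mem_or_mem hm).elim hx hxg
      obtain ⟨v, hv⟩ := Scheme.exists_preimage_of_isPullback (IsPullback.of_hasPullback f₁ t₁) x
        (IsLocalRing.closedPoint K) hxv
      obtain ⟨v', -, -⟩ := Scheme.exists_preimage_of_isPullback hc x' v (hx'.trans hv.1.symm)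
      exact ⟨v'⟩
    let e' := IsOpenImmersion.lift (pullback.fst f₁ t₁ ⁻¹ᵁ U).ι c (by rw [Scheme.Opens.range_ι]; exact hrng)
    haveI : IsOpenImmersion e' := by
      haveI : IsOpenImmersion (e' ≫ (pullback.fst f₁ t₁ ⁻¹ᵁ U).ι) := by
        rw [IsOpenImmersion.lift_fac]; infer_instance
      exact IsOpenImmersion.of_comp e' (pullback.fst f₁ t₁ ⁻¹ᵁ U).ι
    show IrreducibleSpace ↥(pullback h₂ t)
    haveI : PreirreducibleSpace ↥((pullback.fst f₁ t₁ ⁻¹ᵁ U).toScheme) := hI.toPreirreducibleSpace
    haveI : PreirreducibleSpace ↥(pullback h₂ t) :=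
      e'.isOpenEmbedding.preirreducibleSpace
    exact ⟨inferInstance⟩
  · intro n hn
    haveI := smoothOfRelativeDimension_isStableUnderBaseChange (n := n)
    haveI : SmoothOfRelativeDimension n f := hn
    haveI : SmoothOfRelativeDimension n f₁ :=
      MorphismProperty.of_isPullback (P := @SmoothOfRelativeDimension n) hsq.flip inferInstance
    haveI : SmoothOfRelativeDimension (0 + n) (ιD ≫ f₁) := inferInstance
    have h1 : SmoothOfRelativeDimension n (h₂ ≫ jγ) := by
      rw [hcomm]; simpa using ‹SmoothOfRelativeDimension (0 + n) (ιD ≫ f₁)›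
    have hsqj : IsPullback (𝟙 _) h₂ (h₂ ≫ jγ) jγ :=
      (IsPullback.of_vert_isIso_mono (fst := h₂) (snd := 𝟙 _) (f := jγ) (g := h₂ ≫ jγ) ⟨by simp⟩).flip
    exact MorphismProperty.of_isPullback (P := @SmoothOfRelativeDimension n) hsqj h1

end Main

end DevissExLib
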