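import Groth.Prelude
import Groth.Agent.DevissExLib.Resid
import Groth.Agent.FibDimLib.Formula
import Groth.Agent.FlatInjLib.GenericFibre
import Mathlib

/-!
# Quasi-finite maps to affine space with purely transcendental image point
-/

set_option autoImplicit false
set_option linter.all false

universe u

open scoped TensorProduct Cardinal

namespace DevissExLib

theorem isAlgebraic_of_div {k L : Type u} [Field k] [Field L] [Algebra k L] (A : Subalgebra k L)
    (x : L) (a b : L) (ha : a ∈ A) (hb : b ∈ A) (hb0 : b ≠ 0) (hx : x * b = a) :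
    IsAlgebraic A x := by
  refine ⟨Polynomial.C (⟨b, hb⟩ : A) * Polynomial.X - Polynomial.C (⟨a, ha⟩ : A), fun h => ?_, ?_⟩
  · have h1 := congrArg (fun q => Polynomial.coeff q 1) h
    simp only [Polynomial.coeff_sub, Polynomial.coeff_C_mul, Polynomial.coeff_X_one, mul_one,
      Polynomial.coeff_C_succ, sub_zero, Polynomial.coeff_zero] at h1
    exact hb0 (congrArg Subtype.val h1)
  · simp only [map_sub, map_mul, Polynomial.aeval_C, Polynomial.aeval_X]
    show b * x - a = 0
    rw [← hx, mul_comm, sub_self]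

/-- A field generated by a set is algebraic over the algebra generated by it. -/
theorem isAlgebraic_adjoin_of_eq_top {k L : Type u} [Field k] [Field L] [Algebra k L] (s : Set L)
    (h : IntermediateField.adjoin k s = ⊤) : Algebra.IsAlgebraic (Algebra.adjoin k s) L := by
  refine ⟨fun x => ?_⟩
  obtain ⟨a, ha, b, hb, rfl⟩ := IntermediateField.mem_adjoin_iff_div.1
    (h.symm ▸ IntermediateField.mem_top : x ∈ IntermediateField.adjoin k s)
  by_cases hb0 : b = 0
  · rw [hb0, div_zero]; exact isAlgebraic_zero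
  · exact isAlgebraic_of_div _ _ a b ha hb hb0 (div_mul_cancel₀ a hb0)

theorem ringKrullDim_quotient_lt_of_lt {F : Type u} [CommRing F] (P P' : Ideal F) [P.IsPrime]
    (hle : P ≤ P') {j : F} (hj : j ∈ P') (hjP : j ∉ P) {n : ℕ}
    (hn : ringKrullDim (F ⧸ P) ≤ (n : WithBot ℕ∞)) : ringKrullDim (F ⧸ P') < (n : WithBot ℕ∞) := by
  have h := FlatInjLib.ringKrullDim_quotient_lt hn
    (j := Ideal.Quotient.mk P j) (fun h0 => hjP (Ideal.Quotient.eq_zero_iff_mem.1 h0))
  refine lt_of_le_of_lt ?_ h
  refine ringKrullDim_le_of_surjective (Ideal.Quotient.lift (Ideal.span {Ideal.Quotient.mk P j})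
    (Ideal.Quotient.factor hle) fun c hc => ?_) ?_
  · obtain ⟨d, rfl⟩ := Ideal.mem_span_singleton'.1 hc
    rw [map_mul, Ideal.Quotient.factor_mk, Ideal.Quotient.eq_zero_iff_mem.2 hj, mul_zero]
  · intro c
    obtain ⟨c, rfl⟩ := Ideal.Quotient.mk_surjective c
    exact ⟨Ideal.Quotient.mk _ (Ideal.Quotient.mk _ c), by simp⟩

attribute [-instance] IsLocalRing.ResidueField.instAlgebra in
theorem exists_quasiFiniteAt_purelyTranscendental {R S : Type u} [CommRing R] [CommRing S] [Algebra R S]
    [Algebra.FiniteType R S] (p : Ideal R) [p.IsPrime] (q : Ideal S) [q.IsPrime] [q.LiesOver p]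
    (Q : PrimeSpectrum (p.Fiber S))
    (hQ : Q.asIdeal.comap (Algebra.TensorProduct.includeRight.toRingHom) = q) (n : ℕ)
    (hdim : FlatMor.localDim (PrimeSpectrum (p.Fiber S)) Q = (n : WithBot ℕ∞)) :
    ∃ φ : MvPolynomial (Fin n) R →ₐ[R] S,
      (letI := φ.toRingHom.toAlgebra; Algebra.QuasiFiniteAt (MvPolynomial (Fin n) R) q) ∧
      ∃ (_ : (q.comap φ.toRingHom).LiesOver p), FlatCA.PurelyTranscendental p (q.comap φ.toRingHom) := by
  classical
  let κ := p.ResidueField
  let F := p.Fiber S
  haveI : Algebra.FiniteType κ F := inferInstance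
  haveI : IsNoetherianRing F := Algebra.FiniteType.isNoetherianRing κ F
  let L := Q.asIdeal.ResidueField
  haveI : FaithfulSMul κ L :=
    (faithfulSMul_iff_algebraMap_injective κ L).2 (algebraMap κ L).injective
  let ι : S →ₐ[R] F := Algebra.TensorProduct.includeRight
  let γ : S →+* L := (algebraMap F L).comp ι.toRingHom
  have hincl : ∀ f : F, ∃ (t : R) (s : S), t ∉ p ∧ ι s = algebraMap R F t * f := fun f => by
    obtain ⟨t, ht, s, hs⟩ := Ideal.Fiber.exists_smul_eq_one_tmul _ f
    exact ⟨t, s, ht, by rw [← Algebra.smul_def]; exact hs.symm⟩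
  have hunit : ∀ t, t ∉ p → IsUnit (algebraMap R F t) := fun t ht => by
    rw [IsScalarTower.algebraMap_apply R κ F]
    exact (IsUnit.mk0 _ fun h0 => ht (Ideal.algebraMap_residueField_eq_zero.1 h0)).map _
  -- the residue field is generated by the image of the ring
  have hgen : IntermediateField.adjoin κ (Set.range γ) = ⊤ := by
    have hF : ∀ f : F, algebraMap F L f ∈ IntermediateField.adjoin κ (Set.range γ) := by
      intro f
      induction f using TensorProduct.induction_on with
      | zero => rw [map_zero]; exact zero_mem _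
      | add a b ha hb => rw [map_add]; exact add_mem ha hb
      | tmul a s =>
        rw [show a ⊗ₜ[R] s = algebraMap κ F a * ι s by simp [ι, F, κ], map_mul,
          ← IsScalarTower.algebraMap_apply]
        exact mul_mem (IntermediateField.algebraMap_mem _ a) (IntermediateField.subset_adjoin _ _ ⟨s, rfl⟩)
    refine eq_top_iff.2 fun z _ => ?_
    obtain ⟨w, rfl⟩ := surjective_residue_of_range (p' := Q.asIdeal)
      (IntermediateField.adjoin κ (Set.range γ)).val.toRingHom (fun f => ⟨⟨_, hF f⟩, rfl⟩) z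
    exact w.2
  haveI := isAlgebraic_adjoin_of_eq_top _ hgen
  obtain ⟨T, hTs, hT⟩ := exists_isTranscendenceBasis_subset (R := κ) (Set.range γ)
  obtain ⟨s, hs, htr⟩ := FibDimLib.ringKrullDim_quotient_eq_trdeg κ Q.asIdeal
  have hcard : #T = (s : Cardinal.{u}) := hT.cardinalMk_eq_trdeg.trans htr
  haveI : Finite T := Cardinal.lt_aleph0_iff_finite.1 (hcard ▸ Cardinal.nat_lt_aleph0 s)
  have hTcard : Nat.card T = s := by rw [Nat.card, hcard, Cardinal.toNat_natCast]
  -- parameters
  obtain ⟨G, hGmin, hGcard⟩ := Q.asIdeal.exists_finset_card_eq_height_of_isNoetherianRing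
  have hn : n = s + G.card := by
    have h := FibDimLib.localDim_eq_dim_add κ Q
    rw [hdim, hs, IsLocalization.AtPrime.ringKrullDim_eq_height Q.asIdeal (Localization.AtPrime Q.asIdeal),
      ← hGcard] at h
    exact_mod_cast h
  haveI : Fintype T := Fintype.ofFinite T
  let e : Fin n ≃ T ⊕ G := (Fintype.equivFinOfCardEq (by
    rw [Fintype.card_sum, ← Nat.card_eq_fintype_card, hTcard, Fintype.card_coe, hn])).symm
  choose st hst using fun t : T => hTs t.2
  choose tf sf htf hsf using hincl
  let v : Fin n → S := fun i => Sum.elim st (fun f : G => sf f) (e i)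
  let φ : MvPolynomial (Fin n) R →ₐ[R] S := MvPolynomial.aeval v
  have hvl : ∀ t, v (e.symm (Sum.inl t)) = st t := fun t => by simp [v]
  have hvr : ∀ f, v (e.symm (Sum.inr f)) = sf f := fun f => by simp [v]
  have hφX : ∀ i, φ (MvPolynomial.X i) = v i := fun i => by simp [φ]
  have hιu : ∀ f : G, ι (sf f) ∈ Q.asIdeal := fun f => by
    rw [hsf]; exact Q.asIdeal.mul_mem_left _ (hGmin.1.2 (Ideal.subset_span f.2))
  let r := q.comap φ.toRingHom
  haveI hrp : r.LiesOver p := ⟨by
    show p = Ideal.comap (algebraMap R _) (Ideal.comap φ.toRingHom q)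
    rw [Ideal.comap_comap, show φ.toRingHom.comp (algebraMap R _) = algebraMap R S from φ.comp_algebraMap]
    exact Ideal.over_def q p⟩
  letI algr : Algebra κ r.ResidueField :=
    (Ideal.ResidueField.mapₐ p r (Algebra.ofId R _) hrp.over).toRingHom.toAlgebra
  -- embeddings of the residue field of the image point
  have hθ : ∀ (Q1 : PrimeSpectrum F)
      (h1 : r = Q1.asIdeal.comap (ι.toRingHom.comp φ.toRingHom)),
      ∃ θ : r.ResidueField →ₐ[κ] Q1.asIdeal.ResidueField, ∀ P, θ (algebraMap _ r.ResidueField P) =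
        algebraMap F Q1.asIdeal.ResidueField (ι (φ P)) := fun Q1 h1 => by
    let θ₀ := Ideal.ResidueField.map r Q1.asIdeal (ι.toRingHom.comp φ.toRingHom) h1
    refine ⟨{ θ₀ with commutes' := fun a => ?_ }, fun P => Ideal.ResidueField.map_algebraMap _ _ _ _ _⟩
    have hext : θ₀.comp (algebraMap κ r.ResidueField) = algebraMap κ Q1.asIdeal.ResidueField :=
      Ideal.ResidueField.ringHom_ext (RingHom.ext fun c => by
        show θ₀ ((Ideal.ResidueField.mapₐ p r (Algebra.ofId R _) hrp.over) (algebraMap R κ c)) = _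
        rw [AlgHom.commutes, IsScalarTower.algebraMap_apply R (MvPolynomial (Fin n) R) r.ResidueField,
          Ideal.ResidueField.map_algebraMap]
        show algebraMap F _ (ι (φ (algebraMap R _ c))) = algebraMap κ _ (algebraMap R κ c)
        rw [φ.commutes, ι.commutes, IsScalarTower.algebraMap_apply R κ F, ← IsScalarTower.algebraMap_apply κ F])
    exact RingHom.congr_fun hext a
  have hrQ : r = Q.asIdeal.comap (ι.toRingHom.comp φ.toRingHom) := by
    rw [← Ideal.comap_comap]; exact congrArg (Ideal.comap φ.toRingHom) hQ.symm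
  obtain ⟨θ, hθQ⟩ := hθ Q hrQ
  let x : T → r.ResidueField := fun t =>
    algebraMap (MvPolynomial (Fin n) R) r.ResidueField (MvPolynomial.X (e.symm (Sum.inl t)))
  have hθx : ∀ t : T, θ (x t) = (t : L) := fun t => by
    rw [hθQ, hφX, hvl]; exact hst t
  have hxi : AlgebraicIndependent κ x := by
    refine AlgebraicIndependent.of_comp θ ?_
    rw [show (⇑θ ∘ x) = (fun t : T => (t : L)) from funext hθx]
    exact hT.1
  have hxgen : IntermediateField.adjoin κ (Set.range x) = ⊤ := by
    have hP : ∀ P : MvPolynomial (Fin n) R,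
        algebraMap _ r.ResidueField P ∈ IntermediateField.adjoin κ (Set.range x) := by
      intro P
      induction P using MvPolynomial.induction_on with
      | C c =>
        rw [← MvPolynomial.algebraMap_eq, ← IsScalarTower.algebraMap_apply,
          ← (Ideal.ResidueField.mapₐ p r (Algebra.ofId R _) hrp.over).commutes c]
        exact IntermediateField.algebraMap_mem _ (algebraMap R κ c)
      | add a b ha hb => rw [map_add]; exact add_mem ha hb
      | mul_X a i ha =>
        rw [map_mul]
        refine mul_mem ha ?_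
        rcases h : e i with t | f
        · rw [← e.symm_apply_apply i, h]
          exact IntermediateField.subset_adjoin _ _ ⟨t, rfl⟩
        · have h0 : algebraMap _ r.ResidueField (MvPolynomial.X i : MvPolynomial (Fin n) R) = 0 :=
            θ.toRingHom.injective (by
              rw [map_zero]
              show θ _ = 0
              rw [hθQ, hφX, ← e.symm_apply_apply i, h, hvr]
              exact Ideal.algebraMap_residueField_eq_zero.2 (hιu f))
          rw [h0]; exact zero_mem _
    refine eq_top_iff.2 fun z _ => ?_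
    obtain ⟨w, rfl⟩ := surjective_residue_of_range (p' := r)
      (IntermediateField.adjoin κ (Set.range x)).val.toRingHom (fun P => ⟨⟨_, hP P⟩, rfl⟩) z
    exact w.2
  refine ⟨φ, ?_, hrp, ?_⟩
  swap
  · haveI := isAlgebraic_adjoin_of_eq_top _ hxgen
    exact ⟨T, x, hxi.isTranscendenceBasis_iff_isAlgebraic.2 inferInstance, hxgen⟩
  letI : Algebra (MvPolynomial (Fin n) R) S := φ.toRingHom.toAlgebra
  haveI : IsScalarTower R (MvPolynomial (Fin n) R) S :=
    IsScalarTower.of_algebraMap_eq fun c => (φ.commutes c).symm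
  haveI : Algebra.FiniteType (MvPolynomial (Fin n) R) S :=
    Algebra.FiniteType.of_restrictScalars_finiteType R _ S
  refine (Algebra.quasiFiniteAt_iff_isOpen_singleton_fiber (⟨q, inferInstance⟩ : PrimeSpectrum S)).2 ?_
  -- the other components of the zero locus of the parameters
  have hfin : ((Ideal.span (G : Set F)).minimalPrimes \ {Q.asIdeal}).Finite :=
    (Ideal.finite_minimalPrimes_of_isNoetherianRing F _).sdiff
  have hM : ∀ M : hfin.toFinset, ∃ a : S, ι a ∈ (M : Ideal F) ∧ a ∉ q := by
    rintro ⟨M, hM⟩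
    rw [Set.Finite.mem_toFinset] at hM
    have hnle : ¬ M ≤ Q.asIdeal := fun hle => hM.2 (Set.mem_singleton_iff.2
      (le_antisymm hle (hGmin.2 hM.1.1 hle)))
    obtain ⟨f, hfM, hfQ⟩ := SetLike.not_le_iff_exists.1 hnle
    refine ⟨sf f, by show ι (sf f) ∈ M; rw [hsf]; exact M.mul_mem_left _ hfM, fun hq => ?_⟩
    rw [← hQ] at hq
    have : ι (sf f) ∈ Q.asIdeal := hq
    rw [hsf] at this
    exact (Q.isPrime.mem_or_mem this).elim
      (fun h => Q.isPrime.ne_top (Ideal.eq_top_of_isUnit_mem _ h (hunit _ (htf f)))) hfQ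
  choose am ham hamq using hM
  let a := ∏ M, am M
  have haq : a ∉ q := fun h => by
    obtain ⟨M, -, hM⟩ := (Ideal.IsPrime.prod_mem_iff).1 h
    exact hamq M hM
  rw [isOpen_induced_iff]
  refine ⟨(PrimeSpectrum.basicOpen a : Set (PrimeSpectrum S)), (PrimeSpectrum.basicOpen a).isOpen, ?_⟩
  ext ⟨q1, hq1⟩
  simp only [Set.mem_preimage, Set.mem_singleton_iff, Subtype.mk.injEq]
  constructor
  swap
  · intro h
    rw [show q1 = (⟨q, inferInstance⟩ : PrimeSpectrum S) from h]
    exact haq
  intro haq1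
  have hr1 : q1.asIdeal.comap φ.toRingHom = r := congrArg PrimeSpectrum.asIdeal hq1
  haveI : q1.asIdeal.LiesOver p := ⟨by
    show p = Ideal.comap (algebraMap R S) q1.asIdeal
    rw [← show φ.toRingHom.comp (algebraMap R _) = algebraMap R S from φ.comp_algebraMap,
      ← Ideal.comap_comap, hr1]
    exact hrp.over⟩
  let Q1 : PrimeSpectrum F := PrimeSpectrum.preimageEquivFiber R S ⟨p, inferInstance⟩
    ⟨q1, PrimeSpectrum.ext (Ideal.over_def q1.asIdeal p).symm⟩
  have hQ1 : Q1.asIdeal.comap ι.toRingHom = q1.asIdeal :=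
    congrArg (fun y => y.1.asIdeal) ((PrimeSpectrum.preimageEquivFiber R S ⟨p, inferInstance⟩).symm_apply_apply
      ⟨q1, PrimeSpectrum.ext (Ideal.over_def q1.asIdeal p).symm⟩)
  have hrQ1 : r = Q1.asIdeal.comap (ι.toRingHom.comp φ.toRingHom) := by
    rw [← Ideal.comap_comap, hQ1, hr1]
  have hGQ1 : Ideal.span (G : Set F) ≤ Q1.asIdeal := by
    refine Ideal.span_le.2 fun f hf => ?_
    have h1 : MvPolynomial.X (e.symm (Sum.inr ⟨f, hf⟩)) ∈ r := by
      rw [hrQ]
      show ι (φ (MvPolynomial.X _)) ∈ Q.asIdeal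
      rw [hφX, hvr]; exact hιu _
    rw [hrQ1] at h1
    have h2 : ι (φ (MvPolynomial.X (e.symm (Sum.inr ⟨f, hf⟩)))) ∈ Q1.asIdeal := h1
    rw [hφX, hvr, hsf] at h2
    exact (Q1.isPrime.mem_or_mem h2).elim
      (fun h => absurd (Ideal.eq_top_of_isUnit_mem _ h (hunit _ (htf f))) Q1.isPrime.ne_top) id
  obtain ⟨M, hMmin, hMle⟩ := Ideal.exists_minimalPrimes_le hGQ1
  obtain rfl : M = Q.asIdeal := by
    by_contra hne
    refine haq1 (show a ∈ q1.asIdeal from ?_)
    have hm : M ∈ hfin.toFinset := hfin.mem_toFinset.2 ⟨hMmin, hne⟩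
    obtain ⟨c, hc⟩ := Finset.dvd_prod_of_mem am (Finset.mem_univ (⟨M, hm⟩ : hfin.toFinset))
    rw [show a = am ⟨M, hm⟩ * c from hc]
    refine Ideal.mul_mem_right _ _ ?_
    rw [← hQ1]
    exact hMle (ham ⟨M, hm⟩)
  have hQQ : Q1.asIdeal = Q.asIdeal := by
    refine le_antisymm ?_ hMle
    by_contra hnle
    obtain ⟨j, hj1, hj2⟩ := SetLike.not_le_iff_exists.1 hnle
    obtain ⟨s1, hs1, htr1⟩ := FibDimLib.ringKrullDim_quotient_eq_trdeg κ Q1.asIdeal
    have hlt : ringKrullDim (F ⧸ Q1.asIdeal) < (s : WithBot ℕ∞) :=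
      ringKrullDim_quotient_lt_of_lt Q.asIdeal Q1.asIdeal hMle hj1 hj2 hs.le
    obtain ⟨θ₁, -⟩ := hθ Q1 hrQ1
    have hind := hxi.map' (f := θ₁) θ₁.toRingHom.injective
    have hle := hind.cardinalMk_le_trdeg
    rw [hcard, htr1] at hle
    rw [hs1] at hlt
    have h3 : s ≤ s1 := by exact_mod_cast hle
    have h4 : s1 < s := by exact_mod_cast hlt
    omega
  refine PrimeSpectrum.ext ?_
  show q1.asIdeal = q
  rw [← hQ1, hQQ]
  exact hQ

end DevissExLib
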