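import Groth.Prelude
import Groth.Agent.DevissExLib.GeomIrredNhd
import Groth.Agent.DevissExLib.QuasiFin
import Groth.Agent.FibDimLib.QFScheme
import Groth.Agent.EtaEtLib.Fibres
import Groth.Agent.AbSchLib.Flat
import Groth.Agent.S1276
import Groth.Agent.S9436
import Mathlib

/-!
# Existence of elementary dévissages
-/

set_option autoImplicit false
set_option linter.all false

universe u

open CategoryTheory CategoryTheory.Limits AlgebraicGeometry
open scoped TensorProduct

namespace DevissExLib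

theorem smoothRelDim_mvPolynomial (R : Type u) [CommRing R] (n : ℕ) :
    FlatCA.SmoothRelDim n R (MvPolynomial (Fin n) R) := by
  show SmoothOfRelativeDimension n _
  rw [HasRingHomProperty.Spec_iff (P := @SmoothOfRelativeDimension n)]
  refine RingHom.locally_of RingHom.isStandardSmoothOfRelativeDimension_respectsIso _ ?_
  rw [CommRingCat.hom_ofHom, RingHom.isStandardSmoothOfRelativeDimension_algebraMap]
  haveI := EtaEtLib.isStandardSmooth_mvPolynomial.{0} ℤ n
  exact Algebra.IsStandardSmoothOfRelativeDimension.of_algEquiv n (MvPolynomial.algebraTensorAlgEquiv ℤ R)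

theorem smoothRelDim_comp_etale {R S S' : Type u} [CommRing R] [CommRing S] [CommRing S'] [Algebra R S]
    [Algebra S S'] [Algebra R S'] [IsScalarTower R S S'] [Algebra.Etale S S'] (n : ℕ)
    (h : FlatCA.SmoothRelDim n R S) : FlatCA.SmoothRelDim n R S' := by
  haveI : SmoothOfRelativeDimension n (Spec.map (CommRingCat.ofHom (algebraMap R S))) := h
  haveI : Etale (Spec.map (CommRingCat.ofHom (algebraMap S S'))) := by
    rw [HasRingHomProperty.Spec_iff (P := @Etale)]
    exact RingHom.etale_algebraMap.2 inferInstance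
  have h1 : SmoothOfRelativeDimension (0 + n) (Spec.map (CommRingCat.ofHom (algebraMap S S')) ≫
      Spec.map (CommRingCat.ofHom (algebraMap R S))) := inferInstance
  show SmoothOfRelativeDimension n _
  rw [IsScalarTower.algebraMap_eq R S S', CommRingCat.ofHom_comp, Spec.map_comp]
  simpa using h1

theorem smooth_of_smoothRelDim {R S : Type u} [CommRing R] [CommRing S] [Algebra R S] {n : ℕ}
    (h : FlatCA.SmoothRelDim n R S) : Algebra.Smooth R S := by
  haveI : SmoothOfRelativeDimension n (Spec.map (CommRingCat.ofHom (algebraMap R S))) := h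
  have h1 : Smooth (Spec.map (CommRingCat.ofHom (algebraMap R S))) := SmoothOfRelativeDimension.smooth n _
  rw [HasRingHomProperty.Spec_iff (P := @Smooth)] at h1
  exact RingHom.smooth_algebraMap.1 h1

theorem geomIntegral_of_geomIrred {R D : Type u} [CommRing R] [CommRing D] [Algebra R D] {n : ℕ}
    (hs : FlatCA.SmoothRelDim n R D) (h : FlatCA.GeomIrredFibres R D) : FlatCA.GeomIntegralFibres R D := by
  haveI : SmoothOfRelativeDimension n (Spec.map (CommRingCat.ofHom (algebraMap R D))) := hs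
  haveI : Smooth (Spec.map (CommRingCat.ofHom (algebraMap R D))) := SmoothOfRelativeDimension.smooth n _
  haveI : GeometricallyIrreducible (Spec.map (CommRingCat.ofHom (algebraMap R D))) := h
  haveI := AbSchLib.geometricallyReduced_of_smooth (Spec.map (CommRingCat.ofHom (algebraMap R D)))
  exact GeometricallyIntegral.of_geometricallyReduced_of_geometricallyIrreducible _

/-- Pure transcendence along trivial residue extensions. -/
theorem purelyTranscendental_of_bijective {R S R' S' : Type u} [CommRing R] [CommRing S] [Algebra R S]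
    [CommRing R'] [CommRing S'] [Algebra R R'] [Algebra S S'] [Algebra R' S'] [Algebra R S']
    [IsScalarTower R R' S'] [IsScalarTower R S S']
    (p : Ideal R) (p' : Ideal R') (y : Ideal S) (y' : Ideal S') [p.IsPrime] [p'.IsPrime] [y.IsPrime]
    [y'.IsPrime] [hy : y.LiesOver p] [hy' : y'.LiesOver p'] [hp : p'.LiesOver p] [hyy : y'.LiesOver y]
    (h1 : Function.Surjective (Ideal.ResidueField.mapₐ p p' (Algebra.ofId R R') hp.over))
    (h2 : Function.Surjective (Ideal.ResidueField.mapₐ y y' (Algebra.ofId S S') hyy.over))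
    (h : FlatCA.PurelyTranscendental p y) : FlatCA.PurelyTranscendental p' y' := by
  let f := (Ideal.ResidueField.mapₐ p p' (Algebra.ofId R R') hp.over).toRingHom
  let ψ := (Ideal.ResidueField.mapₐ y y' (Algebra.ofId S S') hyy.over).toRingHom
  letI : Algebra p.ResidueField y.ResidueField :=
    (Ideal.ResidueField.mapₐ p y (Algebra.ofId R S) hy.over).toRingHom.toAlgebra
  letI a' : Algebra p'.ResidueField y'.ResidueField :=
    (Ideal.ResidueField.mapₐ p' y' (Algebra.ofId R' S') hy'.over).toRingHom.toAlgebra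
  have hcomm : (algebraMap p'.ResidueField y'.ResidueField).comp f =
      ψ.comp (algebraMap p.ResidueField y.ResidueField) :=
    Ideal.ResidueField.ringHom_ext (RingHom.ext fun r => by
      simp only [f, ψ, RingHom.algebraMap_toAlgebra, RingHom.comp_apply, AlgHom.toRingHom_eq_coe,
        RingHom.coe_coe, AlgHom.commutes]
      rw [IsScalarTower.algebraMap_apply R R' p'.ResidueField, AlgHom.commutes,
        IsScalarTower.algebraMap_apply R S y.ResidueField, AlgHom.commutes,
        IsScalarTower.algebraMap_apply R' S' y'.ResidueField, IsScalarTower.algebraMap_apply S S' y'.ResidueField,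
        ← IsScalarTower.algebraMap_apply R R' S', ← IsScalarTower.algebraMap_apply R S S'])
  obtain ⟨ι, x, hx, hgen⟩ := h
  have hind : AlgebraicIndependent p'.ResidueField (ψ ∘ x) :=
    hx.1.ringHom_of_comp_eq f ψ h1 ψ.injective hcomm
  have htop : IntermediateField.adjoin p'.ResidueField (Set.range (ψ ∘ x)) = ⊤ := by
    let E := IntermediateField.adjoin p'.ResidueField (Set.range (ψ ∘ x))
    have hle : IntermediateField.adjoin p.ResidueField (Set.range x) ≤
        { E.toSubfield.comap ψ with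
          algebraMap_mem' := fun c => by
            show ψ (algebraMap p.ResidueField y.ResidueField c) ∈ E
            rw [← RingHom.comp_apply, ← hcomm]
            exact E.algebraMap_mem (f c) } := by
      refine IntermediateField.adjoin_le_iff.2 ?_
      rintro _ ⟨i, rfl⟩
      exact IntermediateField.subset_adjoin p'.ResidueField _ ⟨i, rfl⟩
    refine eq_top_iff.2 fun z _ => ?_
    obtain ⟨w, rfl⟩ := h2 z
    exact hle (hgen.symm ▸ IntermediateField.mem_top)
  haveI := isAlgebraic_adjoin_of_eq_top _ htop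
  exact ⟨ι, ψ ∘ x, hind.isTranscendenceBasis_iff_isAlgebraic.2 inferInstance, htop⟩

/-- The point of the fibre of a closed subscheme cutting out the support. -/
theorem exists_fibre_quotient_point {R S : Type u} [CommRing R] [CommRing S] [Algebra R S]
    (N : Type u) [AddCommGroup N] [Module S N] (p : Ideal R) [p.IsPrime] (q : Ideal S) [q.IsPrime]
    [q.LiesOver p] (J : Ideal S)
    (hJs : ∀ x : PrimeSpectrum (p.Fiber S), FlatCA.fiberIdeal p J ≤ x.asIdeal ↔
      x ∈ Module.support (p.Fiber S) (FlatCA.fiberMod p S N)) (n : ℕ)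
    (x : PrimeSpectrum (p.Fiber S)) (hxq : x.asIdeal = FlatCA.fiberIdeal p q)
    (hx : x ∈ Module.support (p.Fiber S) (FlatCA.fiberMod p S N))
    (hn : FlatMor.localDim (Module.support (p.Fiber S) (FlatCA.fiberMod p S N)) ⟨x, hx⟩ = n) :
    J ≤ q ∧ ∃ Q₀ : PrimeSpectrum (p.Fiber (S ⧸ J)),
      (Q₀.asIdeal.comap (Algebra.TensorProduct.includeRight.toRingHom)).comap (Ideal.Quotient.mk J) = q ∧
      FlatMor.localDim (PrimeSpectrum (p.Fiber (S ⧸ J))) Q₀ = (n : WithBot ℕ∞) := by
  let ι : S →ₐ[R] p.Fiber S := Algebra.TensorProduct.includeRight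
  let qp : PrimeSpectrum.comap (algebraMap R S) ⁻¹' {(⟨p, inferInstance⟩ : PrimeSpectrum R)} :=
    ⟨⟨q, inferInstance⟩, PrimeSpectrum.ext (Ideal.over_def q p).symm⟩
  let eS := PrimeSpectrum.preimageEquivFiber R S ⟨p, inferInstance⟩
  have hxι : x.asIdeal.comap ι.toRingHom = q := by
    have hQ : (eS qp).asIdeal.comap ι.toRingHom = q :=
      congrArg (fun y => y.1.asIdeal) (eS.symm_apply_apply qp)
    refine le_antisymm ?_ (by rw [hxq]; exact Ideal.le_comap_map)
    rw [← hQ, hxq]
    refine Ideal.comap_mono (Ideal.map_le_iff_le_comap.2 hQ.ge)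
  have hJq : J ≤ q := by
    rw [← hxι]
    exact Ideal.map_le_iff_le_comap.1 ((hJs x).2 hx)
  refine ⟨hJq, ?_⟩
  let g : p.Fiber S →ₐ[R] p.Fiber (S ⧸ J) :=
    Algebra.TensorProduct.map (AlgHom.id R _) (Ideal.Quotient.mkₐ R J)
  have hg : Function.Surjective g := fun z => by
    induction z using TensorProduct.induction_on with
    | zero => exact ⟨0, map_zero g⟩
    | tmul a b => obtain ⟨b, rfl⟩ := Ideal.Quotient.mk_surjective b; exact ⟨a ⊗ₜ b, by simp [g]⟩
    | add a b ha hb => obtain ⟨u, rfl⟩ := ha; obtain ⟨v, rfl⟩ := hb; exact ⟨u + v, map_add g u v⟩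
  let c := PrimeSpectrum.comap g.toRingHom
  have hc : Topology.IsEmbedding c := (PrimeSpectrum.isClosedEmbedding_comap_of_surjective _ _ hg).isEmbedding
  let ι' : (S ⧸ J) →ₐ[R] p.Fiber (S ⧸ J) := Algebra.TensorProduct.includeRight
  have hgι : g.toRingHom.comp ι.toRingHom = ι'.toRingHom.comp (Ideal.Quotient.mk J) :=
    RingHom.ext fun s => by simp [g, ι, ι']
  have hcι : ∀ Q, (c Q).asIdeal.comap ι.toRingHom = (Q.asIdeal.comap ι'.toRingHom).comap (Ideal.Quotient.mk J) :=
    fun Q => by
      show (Ideal.comap g.toRingHom Q.asIdeal).comap ι.toRingHom = _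
      rw [Ideal.comap_comap, hgι, Ideal.comap_comap]
  have hrange : Set.range c = Module.support (p.Fiber S) (FlatCA.fiberMod p S N) := by
    ext z
    rw [← hJs, show FlatCA.fiberIdeal p J ≤ z.asIdeal ↔ J ≤ z.asIdeal.comap ι.toRingHom from
      Ideal.map_le_iff_le_comap]
    constructor
    · rintro ⟨Q, rfl⟩
      rw [hcι]
      exact (Ideal.mk_ker (I := J)).ge.trans (Ideal.comap_mono bot_le)
    · intro hz
      let z1 := eS.symm z
      have hz1 : z1.1.asIdeal = z.asIdeal.comap ι.toRingHom := rfl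
      haveI hP : (z1.1.asIdeal.map (Ideal.Quotient.mk J)).IsPrime :=
        Ideal.map_isPrime_of_surjective Ideal.Quotient.mk_surjective (by rw [Ideal.mk_ker, hz1]; exact hz)
      have hmk : (z1.1.asIdeal.map (Ideal.Quotient.mk J)).comap (Ideal.Quotient.mk J) = z1.1.asIdeal := by
        rw [Ideal.comap_map_of_surjective _ Ideal.Quotient.mk_surjective, ← RingHom.ker_eq_comap_bot,
          Ideal.mk_ker, sup_eq_left, hz1]
        exact hz
      let Q := PrimeSpectrum.preimageEquivFiber R (S ⧸ J) ⟨p, inferInstance⟩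
        ⟨⟨_, hP⟩, PrimeSpectrum.ext (by
          show Ideal.comap (algebraMap R (S ⧸ J)) _ = p
          rw [IsScalarTower.algebraMap_eq R S (S ⧸ J), Ideal.Quotient.algebraMap_eq, ← Ideal.comap_comap, hmk]
          exact congrArg PrimeSpectrum.asIdeal z1.2)⟩
      refine ⟨Q, eS.symm.injective (Subtype.ext (PrimeSpectrum.ext ?_))⟩
      show (c Q).asIdeal.comap ι.toRingHom = z1.1.asIdeal
      rw [hcι, show Q.asIdeal.comap ι'.toRingHom = z1.1.asIdeal.map (Ideal.Quotient.mk J) from
        congrArg (fun y => y.1.asIdeal) ((PrimeSpectrum.preimageEquivFiber R (S ⧸ J) ⟨p, inferInstance⟩).symm_apply_apply _),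
        hmk]
  obtain ⟨Q₀, hQ₀⟩ : x ∈ Set.range c := hrange ▸ hx
  refine ⟨Q₀, by rw [← hcι, hQ₀]; exact hxι, ?_⟩
  rw [← hn]
  let h := hc.toHomeomorph.trans (Homeomorph.setCongr hrange)
  have hh : h Q₀ = ⟨x, hx⟩ := Subtype.ext hQ₀
  rw [← hh]
  exact (FibDimLib.localDim_eq_of_isOpenEmbedding h.isOpenEmbedding Q₀).symm

/-- Elements of a base change along a trivial residue extension are congruent to elements of the algebra. -/
theorem exists_smul_congr {P D C : Type u} [CommRing P] [CommRing D] [CommRing C] [Algebra P D]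
    [Algebra P C] (p : Ideal P) [p.IsPrime] (y : Ideal D) [y.IsPrime] [y.LiesOver p]
    (hres : Function.Surjective (Ideal.ResidueField.mapₐ p y (Algebra.ofId P D) (Ideal.over_def y p)))
    (w : D ⊗[P] C) :
    ∃ b : P, b ∉ p ∧ ∃ c : C, b • w - (1 : D) ⊗ₜ[P] c ∈ y.map (algebraMap D (D ⊗[P] C)) := by
  induction w using TensorProduct.induction_on with
  | zero => exact ⟨1, fun h => (inferInstance : p.IsPrime).ne_top ((Ideal.eq_top_iff_one p).2 h), 0, by simp⟩
  | tmul d c =>
    obtain ⟨z, hz⟩ := hres (algebraMap D y.ResidueField d)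
    obtain ⟨⟨a, b⟩, rfl⟩ := IsLocalization.mk'_surjective (nonZeroDivisors (P ⧸ p)) z
    obtain ⟨a, rfl⟩ := Ideal.Quotient.mk_surjective a
    obtain ⟨b₀, hb₀⟩ := Ideal.Quotient.mk_surjective (b : P ⧸ p)
    have hb0 : b₀ ∉ p := fun h => nonZeroDivisors.ne_zero b.2 (hb₀ ▸ Ideal.Quotient.eq_zero_iff_mem.2 h)
    have hmem : algebraMap P D b₀ * d - algebraMap P D a ∈ y := by
      rw [← Ideal.algebraMap_residueField_eq_zero, map_sub, map_mul, ← hz,
        ← IsScalarTower.algebraMap_apply, ← IsScalarTower.algebraMap_apply,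
        ← (Ideal.ResidueField.mapₐ p y (Algebra.ofId P D) (Ideal.over_def y p)).commutes b₀,
        ← (Ideal.ResidueField.mapₐ p y (Algebra.ofId P D) (Ideal.over_def y p)).commutes a, ← map_mul,
        ← map_sub, IsScalarTower.algebraMap_apply P (P ⧸ p) p.ResidueField,
        IsScalarTower.algebraMap_apply P (P ⧸ p) p.ResidueField, Ideal.Quotient.algebraMap_eq, hb₀,
        mul_comm, IsLocalization.mk'_spec, sub_self, map_zero]
    refine ⟨b₀, hb0, a • c, ?_⟩
    have e : b₀ • (d ⊗ₜ[P] c) - (1 : D) ⊗ₜ[P] (a • c) =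
        algebraMap D (D ⊗[P] C) (algebraMap P D b₀ * d - algebraMap P D a) * ((1 : D) ⊗ₜ[P] c) := by
      rw [Algebra.TensorProduct.algebraMap_apply, Algebra.TensorProduct.tmul_mul_tmul, one_mul,
        Algebra.algebraMap_self, RingHom.id_apply, mul_one, TensorProduct.sub_tmul,
        TensorProduct.smul_tmul', Algebra.smul_def, TensorProduct.tmul_smul, TensorProduct.smul_tmul',
        Algebra.smul_def, mul_one]
    rw [e]
    exact Ideal.mul_mem_right _ _ (Ideal.mem_map_of_mem _ hmem)
  | add u v hu hv =>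
    obtain ⟨b, hb, c, hc⟩ := hu
    obtain ⟨b', hb', c', hc'⟩ := hv
    refine ⟨b * b', fun h => ((inferInstance : p.IsPrime).mem_or_mem h).elim hb hb', b' • c + b • c', ?_⟩
    have e : (b * b') • (u + v) - (1 : D) ⊗ₜ[P] (b' • c + b • c') =
        b' • (b • u - (1 : D) ⊗ₜ[P] c) + b • (b' • v - (1 : D) ⊗ₜ[P] c') := by
      rw [TensorProduct.tmul_add, TensorProduct.tmul_smul, TensorProduct.tmul_smul]
      module
    rw [e]
    exact add_mem (Submodule.smul_of_tower_mem _ _ hc) (Submodule.smul_of_tower_mem _ _ hc')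

theorem nonempty_elemDevissage {R S : Type u} [CommRing R] [CommRing S] [Algebra R S] [Algebra.FiniteType R S]
    (N : Type u) [AddCommGroup N] [Module S N] [Module R N] [IsScalarTower R S N] [Module.Finite S N]
    (p : Ideal R) [p.IsPrime] (q : Ideal S) [q.IsPrime] [q.LiesOver p] (n : ℕ)
    (x : PrimeSpectrum (p.Fiber S)) (hxq : x.asIdeal = FlatCA.fiberIdeal p q)
    (hx : x ∈ Module.support (p.Fiber S) (FlatCA.fiberMod p S N))
    (hn : FlatMor.localDim (Module.support (p.Fiber S) (FlatCA.fiberMod p S N)) ⟨x, hx⟩ = n) :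
    Nonempty (FlatCA.ElemDevissage R S N p q n) := by
  obtain ⟨J, hJfg, hJann, hJs⟩ := Groth.Agent.S1276.result (A := R) (B := S) N p
  obtain ⟨hJq, Q₀, hQ₀, hdim⟩ := exists_fibre_quotient_point N p q J hJs n x hxq hx hn
  let C₀ := S ⧸ J
  let q₀ : Ideal C₀ := Q₀.asIdeal.comap (Algebra.TensorProduct.includeRight.toRingHom)
  haveI : q₀.IsPrime := Ideal.IsPrime.comap _
  haveI hq₀q : q₀.LiesOver q := ⟨hQ₀.symm⟩
  haveI : q₀.LiesOver p := Ideal.LiesOver.trans q₀ q p
  obtain ⟨φ, hqf, hrp, hpt⟩ := exists_quasiFiniteAt_purelyTranscendental p q₀ Q₀ rfl n hdim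
  letI : Algebra (MvPolynomial (Fin n) R) C₀ := φ.toRingHom.toAlgebra
  haveI : IsScalarTower R (MvPolynomial (Fin n) R) C₀ :=
    IsScalarTower.of_algebraMap_eq fun c => (φ.commutes c).symm
  haveI : Algebra.FiniteType (MvPolynomial (Fin n) R) C₀ :=
    Algebra.FiniteType.of_restrictScalars_finiteType R _ C₀
  haveI := hqf
  let yb := q₀.comap φ.toRingHom
  haveI : q₀.LiesOver yb := ⟨rfl⟩
  obtain ⟨P₁, _, _, _, Y₁, _, _, e, he, Z', _, _, hZ'q, heZ', hres, hfin, huniq⟩ :=
    Algebra.exists_etale_isIdempotentElem_forall_liesOver_eq yb q₀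
  haveI := hfin
  letI : Algebra R P₁ := ((algebraMap (MvPolynomial (Fin n) R) P₁).comp (algebraMap R _)).toAlgebra
  haveI : IsScalarTower R (MvPolynomial (Fin n) R) P₁ := IsScalarTower.of_algebraMap_eq fun _ => rfl
  have hsP₁ : FlatCA.SmoothRelDim n R P₁ :=
    smoothRelDim_comp_etale (S := MvPolynomial (Fin n) R) n (smoothRelDim_mvPolynomial R n)
  haveI : Algebra.Smooth R P₁ := smooth_of_smoothRelDim hsP₁
  haveI hY₁p : Y₁.LiesOver p := Ideal.LiesOver.trans Y₁ yb p
  haveI hpp : p.LiesOver p := ⟨Ideal.ext fun _ => Iff.rfl⟩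
  have hid : (Ideal.ResidueField.mapₐ p p (Algebra.ofId R R) hpp.over).toRingHom =
      RingHom.id p.ResidueField :=
    Ideal.ResidueField.ringHom_ext (RingHom.ext fun r => by simp)
  have hpt₁ : FlatCA.PurelyTranscendental p Y₁ :=
    purelyTranscendental_of_bijective (S := MvPolynomial (Fin n) R) p p yb Y₁
      (fun z => ⟨z, RingHom.congr_fun hid z⟩) hres.2 hpt
  obtain ⟨R', _, _, p', _, hnR, D, _, _, _, _, _, _, y, _, hnD, hyp', hgi, hrel⟩ :=
    exists_geomIrred_nhd p Y₁ hpt₁
  obtain ⟨hetR, hp'p, hbR⟩ := hnR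
  obtain ⟨hetD, hyY, hbD⟩ := hnD
  haveI := hetR
  haveI := hetD
  haveI := hp'p
  haveI := hyY
  haveI := hyp'
  -- the finite piece
  let T₁ := P₁ ⊗[MvPolynomial (Fin n) R] C₀
  let C₁ := Localization.Away e
  have hd : Disjoint (Submonoid.powers e : Set T₁) (Z' : Set T₁) :=
    (Ideal.disjoint_powers_iff_notMem_of_isPrime _).2 heZ'
  let z₁ : Ideal C₁ := Z'.map (algebraMap T₁ C₁)
  haveI : z₁.IsPrime := IsLocalization.isPrime_of_isPrime_disjoint _ C₁ Z' ‹_› hd
  have hz₁ : z₁.comap (algebraMap T₁ C₁) = Z' := IsLocalization.comap_map_of_isPrime_disjoint _ C₁ ‹_› hd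
  haveI : z₁.LiesOver Z' := ⟨hz₁.symm⟩
  haveI : z₁.LiesOver Y₁ := Ideal.LiesOver.trans z₁ Z' Y₁
  letI : Algebra C₀ T₁ := Algebra.TensorProduct.rightAlgebra
  haveI : Algebra.IsPushout (MvPolynomial (Fin n) R) P₁ C₀ T₁ :=
    inferInstanceAs (Algebra.IsPushout (MvPolynomial (Fin n) R) P₁ C₀ (P₁ ⊗[MvPolynomial (Fin n) R] C₀))
  haveI : Algebra.Etale C₀ T₁ := RingHom.etale_algebraMap.1
    (RingHom.Etale.isStableUnderBaseChange (MvPolynomial (Fin n) R) P₁ C₀ T₁
      (RingHom.etale_algebraMap.2 inferInstance))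
  haveI : Algebra.Etale C₀ C₁ := Algebra.Etale.comp C₀ T₁ C₁
  haveI : z₁.LiesOver q₀ := ⟨by
    show q₀ = Ideal.comap (algebraMap C₀ C₁) z₁
    rw [IsScalarTower.algebraMap_eq C₀ T₁ C₁, ← Ideal.comap_comap, hz₁]
    exact hZ'q.symm⟩
  -- its base change
  let C := D ⊗[P₁] C₁
  letI : Algebra C₁ C := Algebra.TensorProduct.rightAlgebra
  haveI : Algebra.IsPushout P₁ D C₁ C := inferInstanceAs (Algebra.IsPushout P₁ D C₁ (D ⊗[P₁] C₁))
  haveI : Algebra.Etale C₁ C := RingHom.etale_algebraMap.1
    (RingHom.Etale.isStableUnderBaseChange P₁ D C₁ C (RingHom.etale_algebraMap.2 inferInstance))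
  have hsqC : IsPullback (Spec.map (CommRingCat.ofHom (algebraMap D C))) (Spec.map (CommRingCat.ofHom (algebraMap C₁ C)))
      (Spec.map (CommRingCat.ofHom (algebraMap P₁ D))) (Spec.map (CommRingCat.ofHom (algebraMap P₁ C₁))) :=
    isPullback_SpecMap_of_isPushout _ _ _ _ (CommRingCat.isPushout_tensorProduct P₁ D C₁)
  obtain ⟨zz, hzy, hzz₁⟩ := Scheme.exists_preimage_of_isPullback hsqC
    (⟨y, inferInstance⟩ : PrimeSpectrum D) (⟨z₁, inferInstance⟩ : PrimeSpectrum C₁)
    (PrimeSpectrum.ext ((Ideal.over_def y Y₁).symm.trans (Ideal.over_def z₁ Y₁)))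
  let z := zz.asIdeal
  haveI : z.IsPrime := zz.isPrime
  haveI : z.LiesOver y := ⟨(congrArg PrimeSpectrum.asIdeal hzy).symm⟩
  haveI : z.LiesOver z₁ := ⟨(congrArg PrimeSpectrum.asIdeal hzz₁).symm⟩
  have hkey : ∀ w : C, ∃ b : P₁, b ∉ Y₁ ∧ ∃ c : C₁, ∀ (z₂ : Ideal C) [z₂.IsPrime], z₂.LiesOver y →
      (algebraMap C₁ C (algebraMap P₁ C₁ b) * w - algebraMap C₁ C c) ∈ z₂ := fun w => by
    obtain ⟨b, hb, c, hc⟩ := exists_smul_congr Y₁ y hbD.2 w
    refine ⟨b, hb, c, fun z₂ _ h => ?_⟩
    have hle : y.map (algebraMap D C) ≤ z₂ := Ideal.map_le_iff_le_comap.2 h.over.le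
    have hm := hle hc
    rwa [show b • w = algebraMap C₁ C (algebraMap P₁ C₁ b) * w from
      (Algebra.smul_def b w).trans (congrArg (· * w)
        ((Algebra.TensorProduct.includeRight : C₁ →ₐ[P₁] C).commutes b).symm)] at hm
  have hcontr : ∀ (z₂ : Ideal C) [z₂.IsPrime], z₂.LiesOver y → z₂.comap (algebraMap C₁ C) = z₁ := by
    intro z₂ _ h
    let c₂ := z₂.comap (algebraMap C₁ C)
    have hY : c₂.comap (algebraMap P₁ C₁) = Y₁ := by
      show (z₂.comap (algebraMap C₁ C)).comap (algebraMap P₁ C₁) = Y₁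
      rw [Ideal.comap_comap,
        show (algebraMap C₁ C).comp (algebraMap P₁ C₁) = (algebraMap D C).comp (algebraMap P₁ D) from
          RingHom.ext fun b => ((Algebra.TensorProduct.includeRight : C₁ →ₐ[P₁] C).commutes b).trans
            (IsScalarTower.algebraMap_apply P₁ D C b),
        ← Ideal.comap_comap]
      exact (congrArg (Ideal.comap _) h.over.symm).trans (Ideal.over_def y Y₁).symm
    let c' := c₂.comap (algebraMap T₁ C₁)
    haveI : c'.LiesOver Y₁ := ⟨by
      show Y₁ = (c₂.comap (algebraMap T₁ C₁)).comap (algebraMap P₁ T₁)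
      rw [Ideal.comap_comap, ← IsScalarTower.algebraMap_eq, hY]⟩
    have hc' : c' = Z' := huniq c' inferInstance inferInstance fun he' =>
      (inferInstance : c₂.IsPrime).ne_top (Ideal.eq_top_of_isUnit_mem _ he' (IsLocalization.Away.algebraMap_isUnit e))
    refine (IsLocalization.orderEmbedding (Submonoid.powers e) C₁).injective ?_
    show c' = z₁.comap (algebraMap T₁ C₁)
    rw [hc', hz₁]
  have huniqz : ∀ (z₂ : Ideal C) [z₂.IsPrime], z₂.LiesOver y → z₂ = z := by
    intro z₂ _ h
    have hbn : ∀ (w₂ : Ideal C) [w₂.IsPrime], w₂.LiesOver y → ∀ b, b ∉ Y₁ →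
        algebraMap C₁ C (algebraMap P₁ C₁ b) ∉ w₂ := fun w₂ _ hw b hb hmem => hb (by
      rw [Ideal.over_def z₁ Y₁]
      show algebraMap P₁ C₁ b ∈ z₁
      rw [← hcontr w₂ hw]
      exact hmem)
    have hiff : ∀ (w₂ : Ideal C) [w₂.IsPrime], w₂.LiesOver y → ∀ w : C, ∀ b : P₁, b ∉ Y₁ → ∀ c : C₁,
        algebraMap C₁ C (algebraMap P₁ C₁ b) * w - algebraMap C₁ C c ∈ w₂ → (w ∈ w₂ ↔ c ∈ z₁) := by
      intro w₂ _ hw w b hb c hc
      rw [← hcontr w₂ hw, Ideal.mem_comap]
      constructor
      · intro hww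
        simpa using w₂.sub_mem (w₂.mul_mem_left (algebraMap C₁ C (algebraMap P₁ C₁ b)) hww) hc
      · intro hcc
        have := w₂.add_mem hc hcc
        rw [sub_add_cancel] at this
        exact ((inferInstance : w₂.IsPrime).mem_or_mem this).resolve_left (hbn w₂ hw b hb)
    ext w
    obtain ⟨b, hb, c, hc⟩ := hkey w
    rw [hiff z₂ h w b hb c (hc z₂ h), hiff z inferInstance w b hb c (hc z inferInstance)]
  -- residue field
  have hsurjz : Function.Surjective
      (Ideal.ResidueField.map z₁ z (algebraMap C₁ C) (Ideal.over_def z z₁)) := by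
    refine surjective_residue_of_range _ fun w => ?_
    exact mem_range_residue_tensor Y₁ y z₁ hbD.2 z (congrArg PrimeSpectrum.asIdeal hzy)
      (Ideal.over_def z z₁) w
  have hsurjz₁ : Function.Surjective
      (Ideal.ResidueField.map q₀ z₁ (algebraMap C₀ C₁) (Ideal.over_def z₁ q₀)) := by
    have h0 : Function.Surjective (Ideal.ResidueField.map q₀ Z' (algebraMap C₀ T₁) hZ'q.symm) := by
      refine surjective_residue_of_range _ fun w => ?_
      exact mem_range_residue_tensor yb Y₁ q₀ hres.2 Z' (Ideal.over_def Z' Y₁).symm hZ'q.symm w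
    have h1 := ((RingHom.surjectiveOnStalks_of_isLocalization (Submonoid.powers e) C₁).residueFieldMap_bijective
      Z' z₁ (Ideal.over_def z₁ Z')).2
    have hext : Ideal.ResidueField.map q₀ z₁ (algebraMap C₀ C₁) (Ideal.over_def z₁ q₀) =
        (Ideal.ResidueField.map Z' z₁ (algebraMap T₁ C₁) (Ideal.over_def z₁ Z')).comp
          (Ideal.ResidueField.map q₀ Z' (algebraMap C₀ T₁) hZ'q.symm) :=
      Ideal.ResidueField.ringHom_ext (RingHom.ext fun c => by
        simp only [RingHom.comp_apply, Ideal.ResidueField.map_algebraMap]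
        rw [← IsScalarTower.algebraMap_apply C₀ T₁ C₁])
    rw [hext]
    exact h1.comp h0
  -- algebra structures on the base change
  letI algC₀C : Algebra C₀ C := ((algebraMap C₁ C).comp (algebraMap C₀ C₁)).toAlgebra
  haveI : IsScalarTower C₀ C₁ C := IsScalarTower.of_algebraMap_eq fun _ => rfl
  haveI : Algebra.Etale C₀ C := Algebra.Etale.comp C₀ C₁ C
  letI algSC : Algebra S C := ((algebraMap C₀ C).comp (Ideal.Quotient.mk J)).toAlgebra
  haveI : IsScalarTower S C₀ C := IsScalarTower.of_algebraMap_eq fun _ => rfl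
  haveI : IsScalarTower R' D C := inferInstanceAs (IsScalarTower R' D (D ⊗[P₁] C₁))
  have hRC : (algebraMap R' C).comp (algebraMap R R') = (algebraMap S C).comp (algebraMap R S) := by
    ext r
    show algebraMap D C (algebraMap R' D (algebraMap R R' r)) =
      algebraMap C₁ C (algebraMap C₀ C₁ (algebraMap R C₀ r))
    rw [← IsScalarTower.algebraMap_apply R R' D, IsScalarTower.algebraMap_apply R P₁ D,
      ← IsScalarTower.algebraMap_apply P₁ D C, IsScalarTower.algebraMap_apply R (MvPolynomial (Fin n) R) C₀,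
      IsScalarTower.algebraMap_apply C₀ T₁ C₁]
    have h1 : algebraMap C₀ T₁ (algebraMap (MvPolynomial (Fin n) R) C₀ (algebraMap R _ r)) =
        algebraMap P₁ T₁ (algebraMap R P₁ r) :=
      ((Algebra.TensorProduct.includeRight : C₀ →ₐ[MvPolynomial (Fin n) R] T₁).commutes _).trans
        (IsScalarTower.algebraMap_apply (MvPolynomial (Fin n) R) P₁ T₁ _)
    rw [h1, ← IsScalarTower.algebraMap_apply P₁ T₁ C₁]
    exact ((Algebra.TensorProduct.includeRight : C₁ →ₐ[P₁] C).commutes _).symm
  haveI : IsScalarTower R R' C := inferInstanceAs (IsScalarTower R R' (D ⊗[P₁] C₁))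
  haveI : IsScalarTower R S C := IsScalarTower.of_algebraMap_eq (R := R) (S := S) (A := C) fun r => by
    rw [IsScalarTower.algebraMap_apply R R' C, ← RingHom.comp_apply, hRC, RingHom.comp_apply]
  -- lift to an etale algebra over the base change of `S`
  let SR := S ⊗[R] R'
  letI algR'SR : Algebra R' SR := Algebra.TensorProduct.rightAlgebra
  let θ : SR →ₐ[R] C := Algebra.TensorProduct.lift (IsScalarTower.toAlgHom R S C)
    (IsScalarTower.toAlgHom R R' C) (fun _ _ => Commute.all _ _)
  let I : Ideal SR := J.map (algebraMap S SR)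
  have hI : ∀ a ∈ I, θ a = 0 := fun a ha => by
    have hle : I ≤ RingHom.ker θ.toRingHom := Ideal.map_le_iff_le_comap.2 fun j hj => by
      show θ (j ⊗ₜ[R] 1) = 0
      rw [Algebra.TensorProduct.lift_tmul, map_one, mul_one]
      show algebraMap C₀ C (Ideal.Quotient.mk J j) = 0
      rw [Ideal.Quotient.eq_zero_iff_mem.2 hj, map_zero]
    exact hle ha
  letI algIC : Algebra (SR ⧸ I) C := (Ideal.Quotient.lift I θ.toRingHom hI).toAlgebra
  haveI : IsScalarTower C₀ (SR ⧸ I) C := IsScalarTower.of_algebraMap_eq fun c => by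
    obtain ⟨s, rfl⟩ := Ideal.Quotient.mk_surjective c
    show _ = Ideal.Quotient.lift I θ.toRingHom hI (Ideal.Quotient.mk I (s ⊗ₜ[R] 1))
    rw [Ideal.Quotient.lift_mk]
    show _ = θ (s ⊗ₜ[R] 1)
    rw [Algebra.TensorProduct.lift_tmul, map_one, mul_one]
    rfl
  haveI : Algebra.IsPushout R S R' SR := inferInstanceAs (Algebra.IsPushout R S R' (S ⊗[R] R'))
  haveI : Algebra.Etale S SR := inferInstanceAs (Algebra.Etale S (S ⊗[R] R'))
  haveI : Algebra.FormallyUnramified SR (SR ⧸ I) :=
    Algebra.FormallyUnramified.of_surjective (IsScalarTower.toAlgHom SR SR (SR ⧸ I)) Ideal.Quotient.mk_surjective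
  haveI : Algebra.FormallyUnramified S (SR ⧸ I) := Algebra.FormallyUnramified.comp S SR (SR ⧸ I)
  haveI : Algebra.FormallyUnramified C₀ (SR ⧸ I) := Algebra.FormallyUnramified.of_restrictScalars S C₀ _
  haveI : Algebra.FiniteType S (SR ⧸ I) := Algebra.FiniteType.trans (S := SR) inferInstance inferInstance
  haveI : Algebra.FiniteType C₀ (SR ⧸ I) := Algebra.FiniteType.of_restrictScalars_finiteType S C₀ _
  haveI : Algebra.FormallyEtale (SR ⧸ I) C := Algebra.FormallyEtale.of_restrictScalars (R := C₀)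
  haveI : Algebra.FinitePresentation (SR ⧸ I) C :=
    Algebra.FinitePresentation.of_restrict_scalars_finitePresentation C₀ (SR ⧸ I) C
  haveI : Algebra.Etale (SR ⧸ I) C := ⟨inferInstance, inferInstance⟩
  obtain ⟨S', _, _, hetS', ⟨ψ⟩⟩ := Groth.Agent.S9436.result SR I C
  haveI := hetS'
  let ξ : S' →+* C := ψ.toAlgHom.toRingHom.comp
    (Algebra.TensorProduct.includeRight : S' →ₐ[SR] (SR ⧸ I) ⊗[SR] S').toRingHom
  letI algS'C : Algebra S' C := ξ.toAlgebra
  have hξSR : ∀ a : SR, ξ (algebraMap SR S' a) = θ a := fun a => by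
    show ψ ((Algebra.TensorProduct.includeRight : S' →ₐ[SR] (SR ⧸ I) ⊗[SR] S') (algebraMap SR S' a)) = _
    rw [AlgHom.commutes, IsScalarTower.algebraMap_apply SR (SR ⧸ I) ((SR ⧸ I) ⊗[SR] S'), AlgEquiv.commutes]
    rfl
  have hsurjC : Function.Surjective (algebraMap S' C) := by
    intro c
    obtain ⟨w, rfl⟩ := ψ.surjective c
    induction w using TensorProduct.induction_on with
    | zero => exact ⟨0, by simp⟩
    | tmul a s =>
      obtain ⟨a, rfl⟩ := Ideal.Quotient.mk_surjective a
      refine ⟨a • s, ?_⟩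
      show ψ ((1 : SR ⧸ I) ⊗ₜ[SR] (a • s)) = _
      rw [← TensorProduct.smul_tmul]
      congr 2
      exact (Algebra.algebraMap_eq_smul_one a).symm
    | add u v hu hv =>
      obtain ⟨s, hs⟩ := hu; obtain ⟨t, ht⟩ := hv
      exact ⟨s + t, by rw [map_add, map_add, hs, ht]⟩
  letI algSS' : Algebra S S' := ((algebraMap SR S').comp (algebraMap S SR)).toAlgebra
  haveI : IsScalarTower S SR S' := IsScalarTower.of_algebraMap_eq fun _ => rfl
  haveI : Algebra.Etale S S' := Algebra.Etale.comp S SR S'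
  letI algR'S' : Algebra R' S' := ((algebraMap SR S').comp (algebraMap R' SR)).toAlgebra
  letI algRS' : Algebra R S' := ((algebraMap S S').comp (algebraMap R S)).toAlgebra
  haveI : IsScalarTower R S S' := IsScalarTower.of_algebraMap_eq fun _ => rfl
  haveI : IsScalarTower R R' S' := IsScalarTower.of_algebraMap_eq fun r => by
    show algebraMap SR S' (algebraMap R S r ⊗ₜ[R] 1) = algebraMap SR S' ((1 : S) ⊗ₜ[R] algebraMap R R' r)
    congr 1
    exact Algebra.TensorProduct.tmul_one_eq_one_tmul r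
  haveI : IsScalarTower S S' C := IsScalarTower.of_algebraMap_eq fun s => by
    show algebraMap S C s = ξ (algebraMap SR S' (s ⊗ₜ[R] 1))
    rw [hξSR, Algebra.TensorProduct.lift_tmul, map_one, mul_one]; rfl
  haveI : IsScalarTower R' S' C := IsScalarTower.of_algebraMap_eq fun r => by
    show algebraMap R' C r = ξ (algebraMap SR S' ((1 : S) ⊗ₜ[R] r))
    rw [hξSR, Algebra.TensorProduct.lift_tmul, map_one, one_mul]; rfl
  have hfpC : Algebra.FinitePresentation S' C := by
    letI : Algebra SR C := θ.toRingHom.toAlgebra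
    haveI : IsScalarTower SR S' C := IsScalarTower.of_algebraMap_eq fun a => (hξSR a).symm
    haveI : IsScalarTower SR (SR ⧸ I) C := IsScalarTower.of_algebraMap_eq fun a => by
      show θ a = Ideal.Quotient.lift I θ.toRingHom hI (Ideal.Quotient.mk I a)
      rw [Ideal.Quotient.lift_mk]; rfl
    haveI : Algebra.FinitePresentation SR (SR ⧸ I) := Algebra.FinitePresentation.quotient (hJfg.map _)
    haveI : Algebra.FinitePresentation SR C := Algebra.FinitePresentation.trans SR (SR ⧸ I) C
    exact Algebra.FinitePresentation.of_restrict_scalars_finitePresentation SR S' C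
  -- the point of the etale algebra
  let q' := z.comap (algebraMap S' C)
  haveI : q'.IsPrime := Ideal.IsPrime.comap _
  haveI : z.LiesOver q' := ⟨rfl⟩
  haveI : z.LiesOver q₀ := Ideal.LiesOver.trans z z₁ q₀
  haveI : z.LiesOver q := Ideal.LiesOver.trans z q₀ q
  haveI hq'q : q'.LiesOver q := ⟨by
    show q = (z.comap (algebraMap S' C)).comap (algebraMap S S')
    rw [Ideal.comap_comap, ← IsScalarTower.algebraMap_eq]
    exact Ideal.over_def z q⟩
  haveI : z.LiesOver p' := Ideal.LiesOver.trans z y p'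
  haveI hq'p' : q'.LiesOver p' := ⟨by
    show p' = (z.comap (algebraMap S' C)).comap (algebraMap R' S')
    rw [Ideal.comap_comap, ← IsScalarTower.algebraMap_eq]
    exact Ideal.over_def z p'⟩
  have hnS : FlatCA.IsEtaleNhd S S' q q' := by
    refine ⟨inferInstance, hq'q, bijective_mapₐ_of_surjective hq'q fun w => ?_⟩
    let μ := Ideal.ResidueField.map q' z (algebraMap S' C) (Ideal.over_def z q')
    obtain ⟨w₁, hw₁⟩ := hsurjz (μ w)
    obtain ⟨w₀, hw₀⟩ := hsurjz₁ w₁
    obtain ⟨w', hw'⟩ : ∃ w', Ideal.ResidueField.map q q₀ (Ideal.Quotient.mk J) hQ₀.symm w' = w₀ := by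
      refine surjective_residue_of_range _ (fun c => ?_) w₀
      obtain ⟨s, rfl⟩ := Ideal.Quotient.mk_surjective c
      exact ⟨algebraMap S q.ResidueField s, Ideal.ResidueField.map_algebraMap _ _ _ _ _⟩
    refine ⟨w', μ.injective ?_⟩
    have hext : μ.comp (Ideal.ResidueField.mapₐ q q' (Algebra.ofId S S') hq'q.over).toRingHom =
        (Ideal.ResidueField.map z₁ z (algebraMap C₁ C) (Ideal.over_def z z₁)).comp
          ((Ideal.ResidueField.map q₀ z₁ (algebraMap C₀ C₁) (Ideal.over_def z₁ q₀)).comp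
            (Ideal.ResidueField.map q q₀ (Ideal.Quotient.mk J) hQ₀.symm)) :=
      Ideal.ResidueField.ringHom_ext (RingHom.ext fun s => by
        simp only [RingHom.comp_apply, AlgHom.toRingHom_eq_coe, RingHom.coe_coe, AlgHom.commutes,
          Ideal.ResidueField.map_algebraMap, μ]
        rw [IsScalarTower.algebraMap_apply S S' q'.ResidueField, Ideal.ResidueField.map_algebraMap,
          ← IsScalarTower.algebraMap_apply S S' C]
        rfl)
    have h := RingHom.congr_fun hext w'
    simp only [RingHom.comp_apply, AlgHom.toRingHom_eq_coe, RingHom.coe_coe] at h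
    rw [h, hw', hw₀, hw₁]
  -- the module
  let N' := S' ⊗[S] N
  have hkill : ∀ k : S', algebraMap S' C k = 0 → ∀ v : N', k • v = 0 := by
    intro k hk v
    have h1 : (1 : SR ⧸ I) ⊗ₜ[SR] k = 0 := ψ.injective (hk.trans (map_zero ψ).symm)
    have h2 := congrArg (TensorProduct.quotTensorEquivQuotSMul S' I) h1
    rw [map_zero, ← map_one (Ideal.Quotient.mk I), TensorProduct.quotTensorEquivQuotSMul_mk_tmul,
      one_smul, Submodule.Quotient.mk_eq_zero] at h2
    have hJkill : ∀ j ∈ J, ∀ w : N', j • w = 0 := fun j hj w => by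
      induction w using TensorProduct.induction_on with
      | zero => rw [smul_zero]
      | tmul s m => rw [← TensorProduct.tmul_smul, Module.mem_annihilator.1 (hJann hj), TensorProduct.tmul_zero]
      | add u v hu hv => rw [smul_add, hu, hv, add_zero]
    refine Submodule.smul_induction_on h2 (fun a ha s _ => ?_) fun u w hu hw => by rw [add_smul, hu, hw, add_zero]
    rw [Algebra.smul_def, mul_comm, mul_smul]
    suffices hh : ∀ w : N', algebraMap SR S' a • w = 0 by rw [hh, smul_zero]
    refine Submodule.span_induction (p := fun a _ => ∀ w : N', algebraMap SR S' a • w = 0) ?_ ?_ ?_ ?_ ha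
    · rintro _ ⟨j, hj, rfl⟩ w
      rw [← IsScalarTower.algebraMap_apply, algebraMap_smul]
      exact hJkill j hj w
    · intro w; rw [map_zero, zero_smul]
    · intro u u' _ _ hu hu' w; rw [map_add, add_smul, hu, hu', add_zero]
    · intro c u _ hu w; rw [smul_eq_mul, map_mul, mul_smul, hu, smul_zero]
  let K := RingHom.ker (algebraMap S' C)
  have htor : Module.IsTorsionBySet S' N' (K : Set S') := fun v k => hkill k k.2 v
  letI mq : Module (S' ⧸ K) N' := htor.module
  let eK : (S' ⧸ K) ≃+* C := RingHom.quotientKerEquivOfSurjective hsurjC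
  letI mC : Module C N' := Module.compHom N' eK.symm.toRingHom
  haveI : IsScalarTower S' C N' := IsScalarTower.of_algebraMap_smul fun k v => by
    show eK.symm (algebraMap S' C k) • v = k • v
    rw [show eK.symm (algebraMap S' C k) = Ideal.Quotient.mk K k from
      eK.injective (by rw [eK.apply_symm_apply]; rfl)]
    rfl
  letI mD : Module D N' := Module.compHom N' (algebraMap D C)
  haveI : IsScalarTower D C N' := ⟨fun r a v => (congrArg (· • v) (Algebra.smul_def r a)).trans (mul_smul _ _ _)⟩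
  haveI : IsScalarTower R' C N' := ⟨fun r a v => by
    rw [Algebra.smul_def r a, mul_smul, IsScalarTower.algebraMap_apply R' S' C r, algebraMap_smul,
      algebraMap_smul]⟩
  haveI : IsScalarTower R' D N' := ⟨fun r d v => by
    rw [← algebraMap_smul C (r • d) v, ← algebraMap_smul C d v, Algebra.smul_def r d, map_mul,
      ← IsScalarTower.algebraMap_apply R' D C, ← Algebra.smul_def, smul_assoc]⟩
  exact ⟨{
    R' := R', S' := S', C := C, D := D, N' := N', G := N'
    p' := p', q' := q', z := z, y := y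
    etaleR := ⟨hetR, hp'p, hbR⟩
    etaleS := hnS
    f := TensorProduct.mk S S' N 1
    isBaseChange := TensorProduct.isBaseChange S N S'
    surjC := hsurjC
    fpC := hfpC
    iso := LinearEquiv.refl S' N'
    finiteDC := inferInstanceAs (Module.Finite D (D ⊗[P₁] C₁))
    finiteG := Module.Finite.of_restrictScalars_finite S' C N'
    uniq := huniqz
    pureTrans := purelyTranscendental_of_bijective (S := P₁) p p' Y₁ y hbR.2 hbD.2 hpt₁
    smooth := hrel n hsP₁
    geomInt := geomIntegral_of_geomIrred (hrel n hsP₁) hgi }⟩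

end DevissExLib
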