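import Groth.Prelude
import Groth.Agent.DevissExLib.Elem
import Groth.Agent.DevissFreeLib.Base
import Mathlib

/-!
# Chains of dévissage steps

An inductive form of complete dévissages, convenient for base change.
-/

set_option autoImplicit false
set_option linter.all false

universe u

open CategoryTheory CategoryTheory.Limits AlgebraicGeometry
open scoped TensorProduct

namespace DevissExLib

/-- One step of a complete dévissage at a prime. -/
structure Step (R : Type u) [CommRing R] (p : Ideal R) [p.IsPrime] (S : Type u) [CommRing S] [Algebra R S]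
    (N : Type u) [AddCommGroup N] [Module S N] (q : Ideal S) : Type (u + 1) where
  C : Type u
  D : Type u
  G : Type u
  [cC : CommRing C] [cD : CommRing D] [aRD : Algebra R D] [aSC : Algebra S C] [aDC : Algebra D C]
  [gG : AddCommGroup G] [mCG : Module C G] [mSG : Module S G] [tSCG : IsScalarTower S C G]
  [mDG : Module D G] [tDCG : IsScalarTower D C G]
  comm : ∀ a : R, algebraMap S C (algebraMap R S a) = algebraMap D C (algebraMap R D a)
  r : ℕ
  rpos : 0 < r
  n : ℕ
  v : Fin r → G
  y : Ideal D
  z : Ideal C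
  [hy : y.IsPrime] [hz : z.IsPrime]
  [yOver : y.LiesOver p] [zOverY : z.LiesOver y]
  zq : z.comap (algebraMap S C) = q
  surj : Function.Surjective (algebraMap S C)
  fp : Algebra.FinitePresentation S C
  finDC : Module.Finite D C
  finCG : Module.Finite C G
  iso : Nonempty (N ≃ₗ[S] G)
  smooth : FlatCA.SmoothRelDim n R D
  geomIrred : FlatCA.GeomIrredFibres R D
  pureTrans : FlatCA.PurelyTranscendental p y
  uniq : ∀ (z₁ : Ideal C) [z₁.IsPrime], z₁.LiesOver y → z₁ = z
  basis : ∀ (P : Ideal D) [P.IsPrime], P = p.map (algebraMap R D) →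
    ∃ b : Module.Basis (Fin r) P.ResidueField (P.ResidueField ⊗[D] G), ∀ i, b i = 1 ⊗ₜ v i

attribute [instance] Step.cC Step.cD Step.aRD Step.aSC Step.aDC Step.gG Step.mCG Step.mSG Step.tSCG
  Step.mDG Step.tDCG Step.hy Step.hz Step.yOver Step.zOverY

/-- The submodule whose quotient carries the next step. -/
def Step.M {R : Type u} [CommRing R] {p : Ideal R} [p.IsPrime] {S : Type u} [CommRing S] [Algebra R S]
    {N : Type u} [AddCommGroup N] [Module S N] {q : Ideal S} (E : Step R p S N q) : Submodule E.D E.G :=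
  Submodule.span E.D (Set.range E.v)

/-- A complete dévissage at a prime, as an inductive predicate. -/
inductive Dev (R : Type u) [CommRing R] (p : Ideal R) [p.IsPrime] :
    ∀ (S : Type u) [CommRing S] [Algebra R S] (N : Type u) [AddCommGroup N] [Module S N], Ideal S → Prop
  | last (S : Type u) [CommRing S] [Algebra R S] (N : Type u) [AddCommGroup N] [Module S N] (q : Ideal S)
      (E : Step R p S N q) (h : E.M = ⊤) : Dev R p S N q
  | cons (S : Type u) [CommRing S] [Algebra R S] (N : Type u) [AddCommGroup N] [Module S N] (q : Ideal S)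
      (E : Step R p S N q) (h : Dev R p E.D (E.G ⧸ E.M) E.y) : Dev R p S N q

/-- Dévissages only depend on the module up to isomorphism. -/
theorem Dev.congr {R : Type u} [CommRing R] {p : Ideal R} [p.IsPrime] {S : Type u} [CommRing S]
    [Algebra R S] {N N₁ : Type u} [AddCommGroup N] [Module S N] [AddCommGroup N₁] [Module S N₁]
    {q : Ideal S} (e : N ≃ₗ[S] N₁) (h : Dev R p S N q) : Dev R p S N₁ q := by
  cases h with
  | last _ _ _ E h => exact .last _ _ _ { E with iso := ⟨e.symm.trans E.iso.some⟩ } h
  | cons _ _ _ E h => exact .cons _ _ _ { E with iso := ⟨e.symm.trans E.iso.some⟩ } h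

theorem isBaseChange_quotient {A A' : Type u} [CommRing A] [CommRing A'] [Algebra A A'] {M M' : Type u}
    [AddCommGroup M] [Module A M] [AddCommGroup M'] [Module A M'] [Module A' M'] [IsScalarTower A A' M']
    (f : M →ₗ[A] M') (hf : IsBaseChange A' f) (K : Submodule A M) (K' : Submodule A' M')
    (hK : K' = Submodule.span A' (f '' K)) :
    ∃ g : M ⧸ K →ₗ[A] M' ⧸ K', IsBaseChange A' g ∧ ∀ m, g (Submodule.Quotient.mk m) = Submodule.Quotient.mk (f m) := by
  have hle : K ≤ LinearMap.ker ((K'.mkQ.restrictScalars A).comp f) := fun m hm => by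
    rw [LinearMap.mem_ker]
    exact (Submodule.Quotient.mk_eq_zero K').2 (hK ▸ Submodule.subset_span ⟨m, hm, rfl⟩)
  refine ⟨K.liftQ _ hle, IsBaseChange.of_lift_unique _ ?_, fun m => rfl⟩
  intro Q _ _ _ _ k
  letI := Module.addCommMonoidToAddCommGroup A' (M := Q)
  let l : M' →ₗ[A'] Q := hf.lift (k.comp K.mkQ)
  have hl : ∀ m, l (f m) = k (Submodule.Quotient.mk m) := fun m => hf.lift_eq _ m
  have hl0 : K' ≤ LinearMap.ker l := by
    rw [hK, Submodule.span_le]
    rintro _ ⟨m, hm, rfl⟩
    show l (f m) = 0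
    rw [hl, (Submodule.Quotient.mk_eq_zero K).2 hm, map_zero]
  refine ⟨K'.liftQ l hl0, Submodule.linearMap_qext _ (LinearMap.ext fun m => hl m), fun l' hl' => ?_⟩
  refine Submodule.linearMap_qext _ (hf.algHom_ext _ _ fun m => ?_)
  show l' (Submodule.Quotient.mk (f m)) = l (f m)
  rw [hl, ← hl']
  rfl

/-- Primes of a base change along a trivial residue extension are determined by their trace. -/
theorem eq_of_comap_eq {P D C₁ C : Type u} [CommRing P] [CommRing D] [CommRing C₁] [CommRing C] [Algebra P D]
    [Algebra P C₁] [Algebra D C] [Algebra C₁ C] [Algebra P C] [IsScalarTower P D C] [IsScalarTower P C₁ C]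
    [Algebra.IsPushout P D C₁ C]
    (Y : Ideal P) [Y.IsPrime] (y : Ideal D) [y.IsPrime] [y.LiesOver Y]
    (hres : Function.Surjective (Ideal.ResidueField.mapₐ Y y (Algebra.ofId P D) (Ideal.over_def y Y)))
    (z₁ z₂ : Ideal C) [z₁.IsPrime] [z₂.IsPrime] (h₁ : z₁.LiesOver y) (h₂ : z₂.LiesOver y)
    (h : z₁.comap (algebraMap C₁ C) = z₂.comap (algebraMap C₁ C)) : z₁ = z₂ := by
  let e := Algebra.IsPushout.equiv P D C₁ C
  ext w
  obtain ⟨u, rfl⟩ := e.surjective w
  obtain ⟨b, hb, c, hc⟩ := exists_smul_congr Y y hres u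
  have key : ∀ (z : Ideal C) [z.IsPrime], z.LiesOver y → (e u ∈ z ↔ c ∈ z.comap (algebraMap C₁ C)) := by
    intro z _ hz
    have hle : y.map (algebraMap D (D ⊗[P] C₁)) ≤ z.comap (e.toAlgHom : D ⊗[P] C₁ →ₐ[D] C).toRingHom :=
      Ideal.map_le_iff_le_comap.2 fun d hd => by
        show e (algebraMap D (D ⊗[P] C₁) d) ∈ z
        rw [AlgEquiv.commutes]
        exact hz.over.le hd
    have hm : e (b • u - (1 : D) ⊗ₜ[P] c) ∈ z := hle hc
    rw [map_sub, Algebra.IsPushout.equiv_tmul, map_one, one_mul,
      show e (b • u) = algebraMap P C b * e u by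
        rw [← algebraMap_smul D b u, map_smul, Algebra.smul_def, ← IsScalarTower.algebraMap_apply]] at hm
    have hbz : algebraMap P C b ∉ z := fun hmem => hb (by
      rw [Ideal.over_def y Y, Ideal.mem_comap, Ideal.over_def z y, Ideal.mem_comap,
        ← IsScalarTower.algebraMap_apply]
      exact hmem)
    rw [Ideal.mem_comap]
    constructor
    · intro hu
      simpa using z.sub_mem (z.mul_mem_left (algebraMap P C b) hu) hm
    · intro hcc
      have := z.add_mem hm hcc
      rw [sub_add_cancel] at this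
      exact ((inferInstance : z.IsPrime).mem_or_mem this).resolve_left hbz
  rw [key z₁ h₁, key z₂ h₂, h]

/-- The contraction of the generic point of a fibre along a flat map. -/
theorem comap_generic {R R' D D' : Type u} [CommRing R] [CommRing R'] [CommRing D] [CommRing D']
    [Algebra R R'] [Algebra R D] [Algebra R' D'] [Algebra D D'] [Algebra R D'] [IsScalarTower R R' D']
    [IsScalarTower R D D'] [Algebra.QuasiFinite R R'] [Module.Flat D D'] (p : Ideal R) (p' : Ideal R')
    [p.IsPrime] [p'.IsPrime] [p'.LiesOver p]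
    (P : Ideal D) [P.IsPrime] (hP : P = p.map (algebraMap R D)) (hPc : P.comap (algebraMap R D) = p)
    (P' : Ideal D') [P'.IsPrime] (hP' : P' = p'.map (algebraMap R' D'))
    (hP'c : P'.comap (algebraMap R' D') = p') : P = P'.comap (algebraMap D D') := by
  refine le_antisymm ?_ ?_
  · rw [hP, Ideal.map_le_iff_le_comap]
    intro a ha
    show algebraMap D D' (algebraMap R D a) ∈ P'
    rw [← IsScalarTower.algebraMap_apply, IsScalarTower.algebraMap_apply R R' D', hP']
    exact Ideal.mem_map_of_mem _ ((Ideal.over_def p' p).le ha)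
  · by_contra hne
    have hPQ : P ≤ P'.comap (algebraMap D D') := by
      rw [hP, Ideal.map_le_iff_le_comap]
      intro a ha
      show algebraMap D D' (algebraMap R D a) ∈ P'
      rw [← IsScalarTower.algebraMap_apply, IsScalarTower.algebraMap_apply R R' D', hP']
      exact Ideal.mem_map_of_mem _ ((Ideal.over_def p' p).le ha)
    haveI : P'.LiesOver (P'.comap (algebraMap D D')) := ⟨rfl⟩
    obtain ⟨Q, hQle, hQp, hQover⟩ := Ideal.exists_ideal_le_liesOver_of_le (R := D) (S := D')
      (p := P) (q := P'.comap (algebraMap D D')) P' hPQ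
    haveI := hQp
    have hp'' : (Q.comap (algebraMap R' D')).comap (algebraMap R R') = p := by
      rw [Ideal.comap_comap, ← IsScalarTower.algebraMap_eq, IsScalarTower.algebraMap_eq R D D',
        ← Ideal.comap_comap]
      exact (congrArg (Ideal.comap _) hQover.over.symm).trans hPc
    have heq : Q.comap (algebraMap R' D') = p' :=
      Algebra.QuasiFinite.eq_of_le_of_under_eq (R := R) _ p'
        ((Ideal.comap_mono hQle).trans hP'c.le) (hp''.trans (Ideal.over_def p' p))
    have hP'Q : P' ≤ Q := by rw [hP']; exact Ideal.map_le_iff_le_comap.2 heq.ge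
    exact hne ((Ideal.comap_mono hP'Q).trans hQover.over.ge)

/-- The generic point of a fibre. -/
theorem map_isPrime_of_geomIrred {R D : Type u} [CommRing R] [CommRing D] [Algebra R D] [Algebra.Smooth R D]
    (h : FlatCA.GeomIrredFibres R D) (p : Ideal R) [p.IsPrime] : (p.map (algebraMap R D)).IsPrime := by
  haveI := DevissFreeLib.isDomain_fibre h p
  let ι : D →ₐ[R] p.ResidueField ⊗[R] D := Algebra.TensorProduct.includeRight
  have hker : RingHom.ker ι.toRingHom = p.map (algebraMap R D) := by
    refine le_antisymm (fun d hd => ?_) (Ideal.map_le_iff_le_comap.2 fun a ha => ?_)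
    · let j : R ⧸ p →ₗ[R] p.ResidueField := (IsScalarTower.toAlgHom R (R ⧸ p) p.ResidueField).toLinearMap
      have hj : Function.Injective j := p.injective_algebraMap_quotient_residueField
      have h1 : (1 : R ⧸ p) ⊗ₜ[R] d = 0 := by
        apply Module.Flat.rTensor_preserves_injective_linearMap (M := D) j hj
        rw [map_zero, LinearMap.rTensor_tmul]
        show algebraMap (R ⧸ p) p.ResidueField 1 ⊗ₜ[R] d = 0
        rw [map_one]
        exact hd
      have h2 := congrArg (TensorProduct.quotTensorEquivQuotSMul D p) h1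
      rw [map_zero, ← map_one (Ideal.Quotient.mk p), TensorProduct.quotTensorEquivQuotSMul_mk_tmul,
        one_smul, Submodule.Quotient.mk_eq_zero, Ideal.smul_top_eq_map] at h2
      exact h2
    · show (1 : p.ResidueField) ⊗ₜ[R] algebraMap R D a = 0
      rw [← Algebra.TensorProduct.tmul_one_eq_one_tmul, Ideal.algebraMap_residueField_eq_zero.2 ha,
        TensorProduct.zero_tmul]
  rw [← hker]
  exact RingHom.ker_isPrime _

section BaseChange

variable {R : Type u} [CommRing R] {p : Ideal R} [p.IsPrime] {S : Type u} [CommRing S] [Algebra R S]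
  {N : Type u} [AddCommGroup N] [Module S N] {q : Ideal S} (E : Step R p S N q)

/-- Base change of a step along compatible flat maps. -/
theorem Step.dev_baseChange
    {R' S' D' C' : Type u} [CommRing R'] [CommRing S'] [CommRing D'] [CommRing C']
    [Algebra R R'] [Algebra.QuasiFinite R R'] (p' : Ideal R') [p'.IsPrime] [p'.LiesOver p]
    (hresp : Function.Surjective (Ideal.ResidueField.mapₐ p p' (Algebra.ofId R R') (Ideal.over_def p' p)))
    [Algebra R' S'] [Algebra S S'] [Algebra R' D'] [Algebra E.D D'] [Algebra R D']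
    [IsScalarTower R R' D'] [IsScalarTower R E.D D'] [Module.Flat E.D D']
    [Algebra S' C'] [Algebra D' C'] [Algebra E.C C'] [Algebra S C'] [Algebra E.D C']
    [IsScalarTower S S' C'] [IsScalarTower S E.C C'] [IsScalarTower E.D D' C'] [IsScalarTower E.D E.C C']
    [Algebra.IsPushout S S' E.C C'] [Algebra.IsPushout E.D D' E.C C']
    (hcomm : ∀ a : R', algebraMap S' C' (algebraMap R' S' a) = algebraMap D' C' (algebraMap R' D' a))
    [Algebra.FiniteType S S']
    (y' : Ideal D') [y'.IsPrime] [y'.LiesOver p'] [y'.LiesOver E.y]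
    (hresy : Function.Surjective (Ideal.ResidueField.mapₐ E.y y' (Algebra.ofId E.D D') (Ideal.over_def y' E.y)))
    (hsm : FlatCA.SmoothRelDim E.n R' D') (hgi : FlatCA.GeomIrredFibres R' D')
    (q' : Ideal S')
    (hq' : ∀ (z' : Ideal C') [z'.IsPrime], z'.LiesOver y' → z'.comap (algebraMap E.C C') = E.z →
      z'.comap (algebraMap S' C') = q')
    {N' : Type u} [AddCommGroup N'] [Module S' N'] [Module S N'] [IsScalarTower S S' N']
    (f : N →ₗ[S] N') (hf : IsBaseChange S' f)
    (htail : (∀ x : E.G, ∃ d : E.D, IsUnit (algebraMap E.D D' d) ∧ d • x ∈ E.M) ∨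
      ∀ (T : Type u) [AddCommGroup T] [Module D' T] [Module E.D T] [IsScalarTower E.D D' T]
      (g : (E.G ⧸ E.M) →ₗ[E.D] T), IsBaseChange D' g → Dev R' p' D' T y') :
    Dev R' p' S' N' q' := by
  classical
  have hsq : IsPullback (Spec.map (CommRingCat.ofHom (algebraMap D' C'))) (Spec.map (CommRingCat.ofHom (algebraMap E.C C')))
      (Spec.map (CommRingCat.ofHom (algebraMap E.D D'))) (Spec.map (CommRingCat.ofHom (algebraMap E.D E.C))) :=
    isPullback_SpecMap_of_isPushout _ _ _ _ (CommRingCat.isPushout_iff_isPushout.mpr ‹Algebra.IsPushout E.D D' E.C C'›)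
  obtain ⟨zz, hzy, hzz⟩ := Scheme.exists_preimage_of_isPullback hsq
    (⟨y', inferInstance⟩ : PrimeSpectrum D') (⟨E.z, inferInstance⟩ : PrimeSpectrum E.C)
    (PrimeSpectrum.ext ((Ideal.over_def y' E.y).symm.trans (Ideal.over_def E.z E.y)))
  let z' := zz.asIdeal
  haveI : z'.IsPrime := zz.isPrime
  haveI hz'y : z'.LiesOver y' := ⟨(congrArg PrimeSpectrum.asIdeal hzy).symm⟩
  have hz'z : z'.comap (algebraMap E.C C') = E.z := congrArg PrimeSpectrum.asIdeal hzz
  let G' := C' ⊗[E.C] E.G
  let eD' : G' ≃ₗ[D'] D' ⊗[E.D] E.G := Algebra.IsPushout.cancelBaseChange E.D D' E.C C' E.G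
  let fG : E.G →ₗ[E.D] G' := ((TensorProduct.mk E.C C' E.G 1).restrictScalars E.D)
  have hfG : IsBaseChange D' fG := IsBaseChange.of_equiv eD'.symm fun x => by
    rw [LinearEquiv.symm_apply_eq]
    exact (Algebra.IsPushout.cancelBaseChange_tmul E.D D' E.C C' E.G x).symm
  obtain ⟨eN⟩ := E.iso
  let eS : N' ≃ₗ[S'] G' := hf.equiv.symm.trans
    ((TensorProduct.AlgebraTensorModule.congr (LinearEquiv.refl S' S') eN).trans
      (Algebra.IsPushout.cancelBaseChange S S' E.C C' E.G).symm)
  haveI := E.finDC
  haveI := E.finCG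
  haveI := E.fp
  have hfp : Algebra.FinitePresentation S' C' := by
    haveI : Algebra.FinitePresentation S' (S' ⊗[S] E.C) := inferInstance
    exact Algebra.FinitePresentation.equiv (Algebra.IsPushout.equiv S S' E.C C')
  have hsurj : Function.Surjective (algebraMap S' C') := by
    intro c
    obtain ⟨w, rfl⟩ := (Algebra.IsPushout.equiv S S' E.C C').surjective c
    induction w using TensorProduct.induction_on with
    | zero => exact ⟨0, by simp⟩
    | tmul s c =>
      obtain ⟨t, rfl⟩ := E.surj c
      refine ⟨s * algebraMap S S' t, ?_⟩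
      rw [Algebra.IsPushout.equiv_tmul, map_mul, ← IsScalarTower.algebraMap_apply,
        ← IsScalarTower.algebraMap_apply]
    | add u v hu hv =>
      obtain ⟨a, ha⟩ := hu; obtain ⟨b, hb⟩ := hv
      exact ⟨a + b, by rw [map_add, map_add, ha, hb]⟩
  haveI hfin : Module.Finite D' C' :=
    Module.Finite.equiv (Algebra.IsPushout.equiv E.D D' E.C C').toLinearEquiv
  let v' : Fin E.r → G' := fun i => 1 ⊗ₜ E.v i
  have huniq : ∀ (z₁ : Ideal C') [z₁.IsPrime], z₁.LiesOver y' → z₁ = z' := by
    intro z₁ _ h₁
    refine eq_of_comap_eq (C₁ := E.C) E.y y' hresy z₁ z' h₁ hz'y ?_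
    rw [hz'z]
    haveI := h₁
    haveI : (z₁.comap (algebraMap E.C C')).LiesOver E.y := ⟨by
      show E.y = (z₁.comap (algebraMap E.C C')).comap (algebraMap E.D E.C)
      rw [Ideal.comap_comap, ← IsScalarTower.algebraMap_eq, IsScalarTower.algebraMap_eq E.D D' C',
        ← Ideal.comap_comap]
      exact (Ideal.over_def y' E.y).trans (congrArg (Ideal.comap _) h₁.over)⟩
    exact E.uniq _ inferInstance
  have hpt : FlatCA.PurelyTranscendental p' y' :=
    purelyTranscendental_of_bijective (S := E.D) p p' E.y y' hresp hresy E.pureTrans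
  have hbasis : ∀ (P' : Ideal D') [P'.IsPrime], P' = p'.map (algebraMap R' D') →
      ∃ b : Module.Basis (Fin E.r) P'.ResidueField (P'.ResidueField ⊗[D'] G'), ∀ i, b i = 1 ⊗ₜ v' i := by
    intro P' _ hP'
    haveI : Algebra.Smooth R E.D := smooth_of_smoothRelDim E.smooth
    haveI : Algebra.Smooth R' D' := smooth_of_smoothRelDim hsm
    haveI := DevissFreeLib.isDomain_fibre E.geomIrred p
    let P := p.map (algebraMap R E.D)
    have hPP : P'.comap (algebraMap E.D D') = P := by
      haveI : P.IsPrime := map_isPrime_of_geomIrred E.geomIrred p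
      exact (comap_generic p p' P rfl (DevissFreeLib.comap_map_eq E.geomIrred p) P' hP'
        (hP' ▸ DevissFreeLib.comap_map_eq hgi p')).symm
    haveI : (P'.comap (algebraMap E.D D')).IsPrime := inferInstance
    let K := (P'.comap (algebraMap E.D D')).ResidueField
    let K' := P'.ResidueField
    obtain ⟨b, hb⟩ := E.basis (P'.comap (algebraMap E.D D')) hPP
    letI : Algebra K K' := (Ideal.ResidueField.map _ P' (algebraMap E.D D') rfl).toAlgebra
    haveI : IsScalarTower E.D K K' := IsScalarTower.of_algebraMap_eq fun a => by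
      show _ = Ideal.ResidueField.map _ P' (algebraMap E.D D') rfl (algebraMap E.D K a)
      rw [Ideal.ResidueField.map_algebraMap, IsScalarTower.algebraMap_apply E.D D' K']
    let e₁ : K' ⊗[D'] G' ≃ₗ[K'] K' ⊗[D'] (D' ⊗[E.D] E.G) :=
      TensorProduct.AlgebraTensorModule.congr (LinearEquiv.refl K' K') eD'
    let e₂ := TensorProduct.AlgebraTensorModule.cancelBaseChange E.D D' K' K' E.G
    let e₃ := TensorProduct.AlgebraTensorModule.cancelBaseChange E.D K K' K' E.G
    refine ⟨(Algebra.TensorProduct.basis K' b).map (e₃.trans (e₂.symm.trans e₁.symm)), fun i => ?_⟩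
    rw [Module.Basis.map_apply, Algebra.TensorProduct.basis_apply, hb]
    simp only [LinearEquiv.trans_apply]
    rw [TensorProduct.AlgebraTensorModule.cancelBaseChange_tmul, one_smul,
      TensorProduct.AlgebraTensorModule.cancelBaseChange_symm_tmul, LinearEquiv.symm_apply_eq]
    show _ = (1 : K') ⊗ₜ[D'] (Algebra.IsPushout.cancelBaseChange E.D D' E.C C' E.G) (1 ⊗ₜ[E.C] E.v i)
    rw [Algebra.IsPushout.cancelBaseChange_tmul]
  let E' : Step R' p' S' N' q' :=
    { C := C', D := D', G := G', comm := hcomm, r := E.r, rpos := E.rpos, n := E.n, v := v'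
      y := y', z := z', zq := hq' z' hz'y hz'z, surj := hsurj, fp := hfp, finDC := hfin
      finCG := inferInstance, iso := ⟨eS⟩, smooth := hsm, geomIrred := hgi, pureTrans := hpt
      uniq := huniq, basis := hbasis }
  have hM : E'.M = Submodule.span D' (fG '' E.M) := by
    show Submodule.span D' (Set.range v') = _
    refine le_antisymm (Submodule.span_mono ?_) (Submodule.span_le.2 ?_)
    · rintro _ ⟨i, rfl⟩
      exact ⟨E.v i, Submodule.subset_span ⟨i, rfl⟩, rfl⟩
    · rintro _ ⟨m, hm, rfl⟩
      exact (Submodule.span_le (p := ((Submodule.span D' (Set.range v')).restrictScalars E.D).comap fG)).2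
        (by rintro _ ⟨i, rfl⟩; exact Submodule.subset_span ⟨i, rfl⟩) hm
  rcases htail with h | h
  · refine .last S' N' q' E' (eq_top_iff.2 fun x _ => ?_)
    rw [hM]
    refine hfG.inductionOn x _ (zero_mem _) (fun m => ?_)
      (fun c n hn => Submodule.smul_mem _ c hn) (fun _ _ => add_mem)
    obtain ⟨d, ⟨w, hw⟩, hd⟩ := h m
    rw [show fG m = (↑w⁻¹ : D') • fG (d • m) by
      rw [map_smul, ← algebraMap_smul D' d, smul_smul, ← hw, Units.inv_mul, one_smul]]
    exact Submodule.smul_mem _ _ (Submodule.subset_span ⟨d • m, hd, rfl⟩)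
  · obtain ⟨g, hg, -⟩ := isBaseChange_quotient fG hfG E.M E'.M hM
    exact .cons S' N' q' E' (h _ g hg)

end BaseChange

end DevissExLib
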