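import Groth.Prelude
import Groth.Agent.DevissExLib.Chain
import Mathlib

/-!
# Base change of chains of dévissage steps along étale neighbourhoods of the base
-/

set_option autoImplicit false
set_option linter.all false

universe u

open CategoryTheory CategoryTheory.Limits AlgebraicGeometry
open scoped TensorProduct

namespace DevissExLib

theorem smoothRelDim_tensor {R D : Type u} [CommRing R] [CommRing D] [Algebra R D] {n : ℕ}
    (R' : Type u) [CommRing R'] [Algebra R R'] (h : FlatCA.SmoothRelDim n R D) :
    FlatCA.SmoothRelDim n R' (R' ⊗[R] D) := by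
  haveI := smoothOfRelativeDimension_isStableUnderBaseChange (n := n)
  exact MorphismProperty.of_isPullback (P := @SmoothOfRelativeDimension n)
    (isPullback_SpecMap_of_isPushout _ _ _ _ (CommRingCat.isPushout_tensorProduct R R' D)).flip h

theorem exists_prime_tensor {R R' D : Type u} [CommRing R] [CommRing R'] [CommRing D] [Algebra R R']
    [Algebra R D] (p : Ideal R) (p' : Ideal R') (y : Ideal D) [p.IsPrime] [p'.IsPrime] [y.IsPrime]
    [p'.LiesOver p] [y.LiesOver p]
    (hres : Function.Surjective (Ideal.ResidueField.mapₐ p p' (Algebra.ofId R R') (Ideal.over_def p' p))) :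
    ∃ (y' : Ideal (R' ⊗[R] D)) (_ : y'.IsPrime) (_ : y'.LiesOver p')
      (hy : y = y'.comap (Algebra.TensorProduct.includeRight : D →ₐ[R] R' ⊗[R] D).toRingHom),
      Function.Surjective (Ideal.ResidueField.map y y'
        (Algebra.TensorProduct.includeRight : D →ₐ[R] R' ⊗[R] D).toRingHom hy) := by
  obtain ⟨w, h1, h2⟩ := Scheme.exists_preimage_of_isPullback
    (isPullback_SpecMap_of_isPushout _ _ _ _ (CommRingCat.isPushout_tensorProduct R R' D))
    (⟨p', inferInstance⟩ : PrimeSpectrum R') (⟨y, inferInstance⟩ : PrimeSpectrum D)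
    (PrimeSpectrum.ext ((Ideal.over_def p' p).symm.trans (Ideal.over_def y p)))
  haveI : w.asIdeal.IsPrime := w.isPrime
  have hy : y = w.asIdeal.comap (Algebra.TensorProduct.includeRight : D →ₐ[R] R' ⊗[R] D).toRingHom :=
    (congrArg PrimeSpectrum.asIdeal h2).symm
  exact ⟨w.asIdeal, inferInstance, ⟨(congrArg PrimeSpectrum.asIdeal h1).symm⟩, hy,
    surjective_residue_of_range _ fun a =>
      mem_range_residue_tensor p p' y hres w.asIdeal (congrArg PrimeSpectrum.asIdeal h1) hy a⟩

/-- Dévissages are stable under étale neighbourhoods of the base. -/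
theorem Dev.baseChange {R : Type u} [CommRing R] {p : Ideal R} [p.IsPrime] {S : Type u} [CommRing S]
    [Algebra R S] {N : Type u} [AddCommGroup N] [Module S N] {q : Ideal S} (h : Dev R p S N q)
    {R' : Type u} [CommRing R'] [Algebra R R'] (p' : Ideal R') [p'.IsPrime] (hR' : FlatCA.IsEtaleNhd R R' p p')
    (S' : Type u) [CommRing S'] [Algebra R' S'] [Algebra S S'] [Algebra R S'] [IsScalarTower R R' S']
    [IsScalarTower R S S'] [Algebra.IsPushout R R' S S'] (q' : Ideal S') [q'.IsPrime]
    (hq'p : q'.comap (algebraMap R' S') = p') (hq'q : q'.comap (algebraMap S S') = q)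
    {N' : Type u} [AddCommGroup N'] [Module S' N'] [Module S N'] [IsScalarTower S S' N']
    (f : N →ₗ[S] N') (hf : IsBaseChange S' f) : Dev R' p' S' N' q' := by
  induction h generalizing S' N' with
  | last S N q E hE =>
    obtain ⟨het, hover, hbij⟩ := hR'
    exact step_bc E p' het hover hbij S' q' hq'p hq'q f hf (Or.inl hE)
  | cons S N q E hE ih =>
    obtain ⟨het, hover, hbij⟩ := hR'
    refine step_bc E p' het hover hbij S' q' hq'p hq'q f hf (Or.inr ?_)
    intro D' _ _ _ _ _ _ _ y' _ hy'p hy'y T _ _ _ _ g hg
    exact ih D' y' hy'p hy'y g hg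
where
  step_bc {R : Type u} [CommRing R] {p : Ideal R} [p.IsPrime] {S : Type u} [CommRing S] [Algebra R S]
    {N : Type u} [AddCommGroup N] [Module S N] {q : Ideal S} (E : Step R p S N q)
    {R' : Type u} [CommRing R'] [Algebra R R'] (p' : Ideal R') [p'.IsPrime] (het : Algebra.Etale R R')
    (hover : p'.LiesOver p)
    (hbij : Function.Bijective (Ideal.ResidueField.mapₐ p p' (Algebra.ofId R R') hover.over))
    (S' : Type u) [CommRing S'] [Algebra R' S'] [Algebra S S'] [Algebra R S'] [IsScalarTower R R' S']
    [IsScalarTower R S S'] [Algebra.IsPushout R R' S S'] (q' : Ideal S') [q'.IsPrime]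
    (hq'p : q'.comap (algebraMap R' S') = p') (hq'q : q'.comap (algebraMap S S') = q)
    {N' : Type u} [AddCommGroup N'] [Module S' N'] [Module S N'] [IsScalarTower S S' N']
    (f : N →ₗ[S] N') (hf : IsBaseChange S' f)
    (htail : E.M = ⊤ ∨ ∀ (D' : Type u) [CommRing D'] [Algebra R' D'] [Algebra E.D D'] [Algebra R D']
      [IsScalarTower R R' D'] [IsScalarTower R E.D D'] [Algebra.IsPushout R R' E.D D'] (y' : Ideal D')
      [y'.IsPrime], y'.comap (algebraMap R' D') = p' → y'.comap (algebraMap E.D D') = E.y →
      ∀ (T : Type u) [AddCommGroup T] [Module D' T] [Module E.D T] [IsScalarTower E.D D' T]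
        (g : (E.G ⧸ E.M) →ₗ[E.D] T), IsBaseChange D' g → Dev R' p' D' T y') :
      Dev R' p' S' N' q' := by
    haveI := het
    haveI := hover
    let D' := R' ⊗[R] E.D
    obtain ⟨y', hy'I, hy'p, hy, hsurj⟩ := exists_prime_tensor p p' E.y hbij.2
    haveI := hy'I
    haveI := hy'p
    letI aDD' : Algebra E.D D' := Algebra.TensorProduct.rightAlgebra
    haveI : IsScalarTower R E.D D' := IsScalarTower.of_algebraMap_eq fun a =>
      ((Algebra.TensorProduct.includeRight : E.D →ₐ[R] D').commutes a).symm
    haveI hpD : Algebra.IsPushout R R' E.D D' := inferInstanceAs (Algebra.IsPushout R R' E.D (R' ⊗[R] E.D))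
    haveI : Algebra.Etale E.D D' := RingHom.etale_algebraMap.1
      (RingHom.Etale.isStableUnderBaseChange R R' E.D D' (RingHom.etale_algebraMap.2 inferInstance))
    haveI : Algebra.Etale S S' := RingHom.etale_algebraMap.1
      (RingHom.Etale.isStableUnderBaseChange R R' S S' (RingHom.etale_algebraMap.2 inferInstance))
    haveI hyy : y'.LiesOver E.y := ⟨hy⟩
    have hresy : Function.Surjective
        (Ideal.ResidueField.mapₐ E.y y' (Algebra.ofId E.D D') (Ideal.over_def y' E.y)) := by
      intro w
      obtain ⟨c, hc⟩ := hsurj w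
      exact ⟨c, hc⟩
    let C' := S' ⊗[S] E.C
    letI aRC : Algebra R E.C := ((algebraMap S E.C).comp (algebraMap R S)).toAlgebra
    haveI : IsScalarTower R S E.C := IsScalarTower.of_algebraMap_eq fun _ => rfl
    haveI : IsScalarTower R E.D E.C := IsScalarTower.of_algebraMap_eq fun a => E.comm a
    letI aCC' : Algebra E.C C' := Algebra.TensorProduct.rightAlgebra
    haveI : IsScalarTower S E.C C' := IsScalarTower.of_algebraMap_eq fun a =>
      ((Algebra.TensorProduct.includeRight : E.C →ₐ[S] C').commutes a).symm
    haveI hpC : Algebra.IsPushout S S' E.C C' := inferInstanceAs (Algebra.IsPushout S S' E.C (S' ⊗[S] E.C))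
    haveI : IsScalarTower R S C' := inferInstanceAs (IsScalarTower R S (S' ⊗[S] E.C))
    haveI : IsScalarTower R R' C' := inferInstanceAs (IsScalarTower R R' (S' ⊗[S] E.C))
    haveI : IsScalarTower R S' C' := inferInstanceAs (IsScalarTower R S' (S' ⊗[S] E.C))
    haveI : IsScalarTower R' S' C' := inferInstanceAs (IsScalarTower R' S' (S' ⊗[S] E.C))
    haveI : IsScalarTower R E.C C' := IsScalarTower.of_algebraMap_eq fun a => by
      rw [IsScalarTower.algebraMap_apply R S C', IsScalarTower.algebraMap_apply S E.C C',
        ← IsScalarTower.algebraMap_apply R S E.C]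
    let ψ : D' →ₐ[R'] C' := Algebra.TensorProduct.lift (Algebra.ofId R' C')
      ((IsScalarTower.toAlgHom R E.C C').comp (IsScalarTower.toAlgHom R E.D E.C))
      (fun _ _ => Commute.all _ _)
    letI aD'C' : Algebra D' C' := ψ.toRingHom.toAlgebra
    haveI : IsScalarTower R' D' C' := IsScalarTower.of_algebraMap_eq fun a => (ψ.commutes a).symm
    letI aDC' : Algebra E.D C' := ((algebraMap E.C C').comp (algebraMap E.D E.C)).toAlgebra
    haveI : IsScalarTower E.D E.C C' := IsScalarTower.of_algebraMap_eq fun _ => rfl
    haveI : IsScalarTower E.D D' C' := IsScalarTower.of_algebraMap_eq fun d => by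
      show _ = ψ ((1 : R') ⊗ₜ[R] d)
      rw [Algebra.TensorProduct.lift_tmul, map_one, one_mul]
      rfl
    haveI : IsScalarTower R E.D C' := IsScalarTower.of_algebraMap_eq fun a => by
      show _ = algebraMap E.C C' (algebraMap E.D E.C (algebraMap R E.D a))
      rw [← E.comm, ← IsScalarTower.algebraMap_apply R S E.C, ← IsScalarTower.algebraMap_apply R E.C C']
    haveI : IsScalarTower R D' C' := IsScalarTower.of_algebraMap_eq fun a => by
      rw [IsScalarTower.algebraMap_apply R E.D D', ← IsScalarTower.algebraMap_apply E.D D' C',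
        ← IsScalarTower.algebraMap_apply]
    haveI hCR : Algebra.IsPushout R E.C R' C' := by
      haveI : Algebra.IsPushout R S R' S' := Algebra.IsPushout.symm inferInstance
      exact (Algebra.IsPushout.comp_iff R S R' S').2 (Algebra.IsPushout.symm hpC)
    haveI : Algebra.IsPushout E.D D' E.C C' := by
      haveI : Algebra.IsPushout R E.D R' D' := Algebra.IsPushout.symm hpD
      exact Algebra.IsPushout.symm ((Algebra.IsPushout.comp_iff R E.D R' D').1 hCR)
    refine E.dev_baseChange (R' := R') (S' := S') (D' := D') (C' := C') p' hbij.2 ?_ y' hresy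
      (smoothRelDim_tensor R' E.smooth) (DevissFreeLib.geomIrred_baseChange R' E.geomIrred) q' ?_ f hf ?_
    · intro a
      rw [← IsScalarTower.algebraMap_apply, ← IsScalarTower.algebraMap_apply]
    · intro z' _ hz' hz'z
      haveI : (z'.comap (algebraMap S' C')).LiesOver p' := ⟨by
        show p' = (z'.comap (algebraMap S' C')).comap (algebraMap R' S')
        rw [Ideal.comap_comap, ← IsScalarTower.algebraMap_eq, IsScalarTower.algebraMap_eq R' D' C',
          ← Ideal.comap_comap]
        exact (Ideal.over_def y' p').trans (congrArg (Ideal.comap _) hz'.over)⟩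
      refine eq_of_comap_eq (C₁ := S) p p' hbij.2 _ q' inferInstance ⟨hq'p.symm⟩ ?_
      rw [hq'q, Ideal.comap_comap, ← IsScalarTower.algebraMap_eq, IsScalarTower.algebraMap_eq S E.C C',
        ← Ideal.comap_comap, hz'z]
      exact E.zq
    · rcases htail with h | h
      · exact Or.inl fun x => ⟨1, by rw [map_one]; exact isUnit_one, h ▸ Submodule.mem_top⟩
      · exact Or.inr fun T => h D' y' (Ideal.over_def y' p').symm hy.symm T

end DevissExLib
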