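import Groth.Prelude
import Groth.Agent.DevissExLib.ChainBC
import Mathlib

/-!
# Localisation of chains of dévissage steps
-/

set_option autoImplicit false
set_option linter.all false

universe u

open CategoryTheory CategoryTheory.Limits AlgebraicGeometry
open scoped TensorProduct

namespace DevissExLib

/-- Geometric irreducibility of a principal open meeting all fibres. -/
theorem geomIrred_localization {R D : Type u} [CommRing R] [CommRing D] [Algebra R D] (g : R) (h : D)
    (hD : FlatCA.GeomIrredFibres R D)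
    (hsub : ∀ t : PrimeSpectrum R, g ∉ t.asIdeal →
      ∃ x : PrimeSpectrum D, x.asIdeal.comap (algebraMap R D) = t.asIdeal ∧ h ∉ x.asIdeal)
    (R' D' : Type u) [CommRing R'] [CommRing D'] [Algebra R R'] [Algebra R' D'] [Algebra D D'] [Algebra R D']
    [IsScalarTower R R' D'] [IsScalarTower R D D'] [IsLocalization.Away g R']
    [IsLocalization.Away (h * algebraMap R D g) D'] : FlatCA.GeomIrredFibres R' D' := by
  let f := Spec.map (CommRingCat.ofHom (algebraMap R D))
  haveI : GeometricallyIrreducible f := hD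
  refine ⟨geometrically_iff_of_commRing_of_isClosedUnderIsomorphisms.mpr fun K _ _ => ?_⟩
  let h₂ := Spec.map (CommRingCat.ofHom (algebraMap R' D'))
  let jγ := Spec.map (CommRingCat.ofHom (algebraMap R R'))
  haveI : IsOpenImmersion jγ := IsOpenImmersion.of_isLocalization g
  let ιD := Spec.map (CommRingCat.ofHom (algebraMap D D'))
  haveI : IsOpenImmersion ιD := IsOpenImmersion.of_isLocalization (h * algebraMap R D g)
  have hcomm : h₂ ≫ jγ = ιD ≫ f := by
    simp only [h₂, jγ, ιD, f, ← Spec.map_comp, ← CommRingCat.ofHom_comp, ← IsScalarTower.algebraMap_eq]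
  let t := Spec.map (CommRingCat.ofHom (algebraMap R' K))
  let t₁ := t ≫ jγ
  haveI hI : IrreducibleSpace ↥(pullback f t₁) :=
    GeometricallyIrreducible.geometrically_irreducibleSpace t₁ _ _ (IsPullback.of_hasPullback f t₁)
  let c : pullback h₂ t ⟶ pullback f t₁ :=
    pullback.lift (pullback.fst h₂ t ≫ ιD) (pullback.snd h₂ t) (by
      rw [Category.assoc, ← hcomm, pullback.condition_assoc])
  have hmono : IsPullback t (𝟙 _) jγ t₁ := IsPullback.of_vert_isIso_mono ⟨by simp [t₁]⟩
  have hc : IsPullback (pullback.fst h₂ t) c ιD (pullback.fst f t₁) := by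
    refine IsPullback.of_bot ?_ (pullback.lift_fst _ _ _).symm (IsPullback.of_hasPullback f t₁)
    rw [show c ≫ pullback.snd f t₁ = pullback.snd h₂ t from pullback.lift_snd _ _ _, ← hcomm]
    simpa using (IsPullback.of_hasPullback h₂ t).paste_vert hmono
  haveI : IsOpenImmersion c := MorphismProperty.of_isPullback (P := @IsOpenImmersion) hc inferInstance
  haveI : Nonempty ↥(pullback h₂ t) := by
    let s := t₁ (IsLocalRing.closedPoint K)
    have hgs : g ∉ s.asIdeal := fun hm =>
      (t (IsLocalRing.closedPoint K)).isPrime.ne_top (Ideal.eq_top_of_isUnit_mem _ hm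
        (IsLocalization.Away.algebraMap_isUnit g))
    obtain ⟨x, hx, hxh⟩ := hsub s hgs
    obtain ⟨x', hx'⟩ : x ∈ Set.range ιD := by
      show x ∈ Set.range (PrimeSpectrum.comap (algebraMap D D'))
      rw [PrimeSpectrum.localization_away_comap_range D' (h * algebraMap R D g)]
      refine fun hm => (x.isPrime.mem_or_mem hm).elim hxh fun hg => hgs ?_
      rw [← hx]; exact hg
    obtain ⟨v, hv⟩ := Scheme.exists_preimage_of_isPullback (IsPullback.of_hasPullback f t₁) x
      (IsLocalRing.closedPoint K) (PrimeSpectrum.ext hx)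
    obtain ⟨v', -, -⟩ := Scheme.exists_preimage_of_isPullback hc x' v (hx'.trans hv.1.symm)
    exact ⟨v'⟩
  show IrreducibleSpace ↥(pullback h₂ t)
  haveI : PreirreducibleSpace ↥(pullback h₂ t) := c.isOpenEmbedding.preirreducibleSpace
  exact ⟨inferInstance⟩

theorem smoothRelDim_localization {R D : Type u} [CommRing R] [CommRing D] [Algebra R D] {n : ℕ}
    (hn : FlatCA.SmoothRelDim n R D) (g : R)
    (R' D' : Type u) [CommRing R'] [CommRing D'] [Algebra R R'] [Algebra R' D'] [Algebra D D'] [Algebra R D']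
    [IsScalarTower R R' D'] [IsScalarTower R D D'] [IsLocalization.Away g R'] [Algebra.Etale D D'] :
    FlatCA.SmoothRelDim n R' D' := by
  haveI := smoothOfRelativeDimension_isStableUnderBaseChange (n := n)
  let h₂ := Spec.map (CommRingCat.ofHom (algebraMap R' D'))
  let jγ := Spec.map (CommRingCat.ofHom (algebraMap R R'))
  haveI : IsOpenImmersion jγ := IsOpenImmersion.of_isLocalization g
  have h1 : SmoothOfRelativeDimension n (h₂ ≫ jγ) := by
    have := smoothRelDim_comp_etale (S := D) (S' := D') n hn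
    simp only [h₂, jγ, ← Spec.map_comp, ← CommRingCat.ofHom_comp, ← IsScalarTower.algebraMap_eq]
    exact this
  have hsqj : IsPullback (𝟙 _) h₂ (h₂ ≫ jγ) jγ :=
    (IsPullback.of_vert_isIso_mono (fst := h₂) (snd := 𝟙 _) (f := jγ) (g := h₂ ≫ jγ) ⟨by simp⟩).flip
  exact MorphismProperty.of_isPullback (P := @SmoothOfRelativeDimension n) hsqj h1

theorem away_of_dvd {A B : Type u} [CommRing A] [CommRing B] [Algebra A B] (x y : A) (hxy : y ∣ x)
    [IsLocalization.Away (y * x) B] : IsLocalization.Away x B := by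
  let N := Submonoid.powers x ⊔ Submonoid.powers (y * x)
  have h1 : IsLocalization N B := by
    refine (IsLocalization.iff_of_le_of_exists_dvd (Submonoid.powers (y * x)) N le_sup_right fun n hn => ?_).1 ‹_›
    obtain ⟨_, ⟨a, rfl⟩, _, ⟨b, rfl⟩, rfl⟩ := Submonoid.mem_sup.1 hn
    refine ⟨(y * x) ^ (a + b), ⟨_, rfl⟩, ?_⟩
    rw [pow_add]
    exact mul_dvd_mul_right (pow_dvd_pow_of_dvd (dvd_mul_left x y) a) _
  refine (IsLocalization.iff_of_le_of_exists_dvd (Submonoid.powers x) N le_sup_left fun n hn => ?_).2 h1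
  obtain ⟨_, ⟨a, rfl⟩, _, ⟨b, rfl⟩, rfl⟩ := Submonoid.mem_sup.1 hn
  refine ⟨x ^ (a + (b + b)), ⟨_, rfl⟩, ?_⟩
  rw [pow_add]
  refine mul_dvd_mul_left _ ?_
  show (y * x) ^ b ∣ _
  rw [mul_pow]
  rw [pow_add]
  exact mul_dvd_mul_right (pow_dvd_pow_of_dvd hxy b) _

/-- The recursion hypothesis on a chain after localisation. -/
def LocAt (R : Type u) [CommRing R] (p : Ideal R) [p.IsPrime] (S : Type u) [CommRing S] [Algebra R S]
    (N : Type u) [AddCommGroup N] [Module S N] (q : Ideal S) (f' : S) (g : R) : Prop :=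
  ∀ g₂ : R, g ∣ g₂ → g₂ ∉ p → ∀ (R' : Type u) [CommRing R'] [Algebra R R'] [IsLocalization.Away g₂ R']
    (p' : Ideal R') [p'.IsPrime], p'.comap (algebraMap R R') = p →
  ∀ (S' : Type u) [CommRing S'] [Algebra R' S'] [Algebra S S'] [Algebra R S'] [IsScalarTower R R' S']
    [IsScalarTower R S S'] [IsLocalization.Away (f' * algebraMap R S g₂) S'] (q' : Ideal S') [q'.IsPrime],
    q'.comap (algebraMap S S') = q →
  ∀ (N' : Type u) [AddCommGroup N'] [Module S' N'] [Module S N'] [IsScalarTower S S' N'] (f : N →ₗ[S] N'),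
    IsBaseChange S' f → Dev R' p' S' N' q'

/-- Dévissages are stable under shrinking to smaller principal opens. -/
theorem Dev.exists_localize {R : Type u} [CommRing R] {p : Ideal R} [p.IsPrime] {S : Type u} [CommRing S]
    [Algebra R S] {N : Type u} [AddCommGroup N] [Module S N] {q : Ideal S} (h : Dev R p S N q) :
    ∀ f : S, f ∉ q → ∃ f', f ∣ f' ∧ f' ∉ q ∧ ∃ g, g ∉ p ∧ LocAt R p S N q f' g := by
  induction h with
  | last S N q E hE => exact fun f hf => step_loc E (Or.inl hE) f hf
  | cons S N q E hE ih => exact fun f hf => step_loc E (Or.inr ih) f hf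
where
  step_loc {R : Type u} [CommRing R] {p : Ideal R} [p.IsPrime] {S : Type u} [CommRing S] [Algebra R S]
    {N : Type u} [AddCommGroup N] [Module S N] {q : Ideal S} (E : Step R p S N q)
    (htail : E.M = ⊤ ∨ ∀ f : E.D, f ∉ E.y → ∃ f', f ∣ f' ∧ f' ∉ E.y ∧
      ∃ g, g ∉ p ∧ LocAt R p E.D (E.G ⧸ E.M) E.y f' g)
    (f : S) (hf : f ∉ q) : ∃ f', f ∣ f' ∧ f' ∉ q ∧ ∃ g, g ∉ p ∧ LocAt R p S N q f' g := by
    classical
    haveI := E.finDC
    have hfz : algebraMap S E.C f ∉ E.z := fun hm => hf (by rw [← E.zq]; exact hm)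
    obtain ⟨h₀, hh₀, hh₀y⟩ : ∃ h₀, h₀ ∈ (Ideal.span {algebraMap S E.C f}).comap (algebraMap E.D E.C) ∧
        h₀ ∉ E.y := by
      by_contra hcon
      push_neg at hcon
      obtain ⟨z₁, hz₁, hz₁p, hz₁y⟩ := Ideal.exists_ideal_over_prime_of_isIntegral E.y
        (Ideal.span {algebraMap S E.C f}) (fun x hx => hcon x hx)
      haveI := hz₁p
      refine hfz (E.uniq z₁ ⟨hz₁y.symm⟩ ▸ ?_)
      exact hz₁ (Ideal.mem_span_singleton_self _)
    obtain ⟨h', hh', hh'y, g₁, hg₁, hloc⟩ : ∃ h', h₀ ∣ h' ∧ h' ∉ E.y ∧ ∃ g₁, g₁ ∉ p ∧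
        (E.M = ⊤ ∨ LocAt R p E.D (E.G ⧸ E.M) E.y h' g₁) := by
      rcases htail with h | h
      · exact ⟨h₀, dvd_refl _, hh₀y, 1,
          fun h1 => (inferInstance : p.IsPrime).ne_top ((Ideal.eq_top_iff_one p).2 h1), Or.inl h⟩
      · obtain ⟨h', h1, h2, g₁, h3, h4⟩ := h h₀ hh₀y
        exact ⟨h', h1, h2, g₁, h3, Or.inr h4⟩
    haveI : Algebra.Smooth R E.D := smooth_of_smoothRelDim E.smooth
    let U := PrimeSpectrum.comap (algebraMap R E.D) '' (PrimeSpectrum.basicOpen h' : Set (PrimeSpectrum E.D))
    have hU : IsOpen U := by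
      haveI : Smooth (Spec.map (CommRingCat.ofHom (algebraMap R E.D))) := by
        rw [HasRingHomProperty.Spec_iff (P := @Smooth)]
        exact RingHom.smooth_algebraMap.2 inferInstance
      exact (Spec.map (CommRingCat.ofHom (algebraMap R E.D))).isOpenMap _ (PrimeSpectrum.basicOpen h').isOpen
    obtain ⟨_, ⟨g₀, rfl⟩, hg₀p, hg₀U⟩ :=
      PrimeSpectrum.isTopologicalBasis_basic_opens.exists_subset_of_mem_open
        (⟨⟨E.y, inferInstance⟩, hh'y, PrimeSpectrum.ext (Ideal.over_def E.y p).symm⟩ :
          (⟨p, inferInstance⟩ : PrimeSpectrum R) ∈ U) hU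
    obtain ⟨f₀, hf₀⟩ := E.surj (algebraMap E.D E.C h')
    have hf₀q : f₀ ∉ q := fun hm => hh'y (by
      rw [← E.zq, Ideal.mem_comap, hf₀] at hm
      rw [Ideal.over_def E.z E.y]
      exact hm)
    haveI hqp : q.IsPrime := by rw [← E.zq]; exact Ideal.IsPrime.comap _
    refine ⟨f * f₀, dvd_mul_right _ _, fun hm => (hqp.mem_or_mem hm).elim hf hf₀q, g₁ * g₀,
      fun hm => ((inferInstance : p.IsPrime).mem_or_mem hm).elim hg₁ hg₀p, ?_⟩
    intro g₂ hg₂ hg₂p R' _ _ _ p' _ hp'p S' _ _ _ _ _ _ _ q' _ hq'q N' _ _ _ _ φ hφ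
    haveI : p'.LiesOver p := ⟨hp'p.symm⟩
    haveI : Algebra.Etale R R' := Algebra.Etale.of_isLocalizationAway g₂
    let hg := h' * algebraMap R E.D g₂
    let D' := Localization.Away hg
    letI : Algebra R' D' := (IsLocalization.Away.lift g₂ (g := algebraMap R D') (by
      rw [IsScalarTower.algebraMap_apply R E.D D']
      exact isUnit_of_dvd_unit (map_dvd _ (dvd_mul_left _ h')) (IsLocalization.Away.algebraMap_isUnit hg))).toAlgebra
    haveI : IsScalarTower R R' D' := IsScalarTower.of_algebraMap_eq fun a =>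
      (IsLocalization.Away.lift_eq g₂ _ a).symm
    haveI : Algebra.Etale E.D D' := Algebra.Etale.of_isLocalizationAway hg
    have hhgy : hg ∉ E.y := fun hm => ((inferInstance : E.y.IsPrime).mem_or_mem hm).elim hh'y fun h1 =>
      hg₂p (by rw [Ideal.over_def E.y p]; exact h1)
    have hdisj : Disjoint (Submonoid.powers hg : Set E.D) (E.y : Set E.D) :=
      (Ideal.disjoint_powers_iff_notMem_of_isPrime _).2 hhgy
    let y' := E.y.map (algebraMap E.D D')
    haveI : y'.IsPrime := IsLocalization.isPrime_of_isPrime_disjoint _ D' E.y (inferInstance : E.y.IsPrime) hdisj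
    have hy'y : y'.comap (algebraMap E.D D') = E.y :=
      IsLocalization.comap_map_of_isPrime_disjoint _ D' (inferInstance : E.y.IsPrime) hdisj
    haveI hyy : y'.LiesOver E.y := ⟨hy'y.symm⟩
    haveI hy'p : y'.LiesOver p' := ⟨(IsLocalization.orderEmbedding (Submonoid.powers g₂) R').injective (by
      show p'.comap (algebraMap R R') = (y'.comap (algebraMap R' D')).comap (algebraMap R R')
      rw [Ideal.comap_comap, ← IsScalarTower.algebraMap_eq, IsScalarTower.algebraMap_eq R E.D D',
        ← Ideal.comap_comap, hy'y, hp'p]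
      exact Ideal.over_def E.y p)⟩
    have hresy : Function.Surjective
        (Ideal.ResidueField.mapₐ E.y y' (Algebra.ofId E.D D') (Ideal.over_def y' E.y)) :=
      ((RingHom.surjectiveOnStalks_of_isLocalization (Submonoid.powers hg) D').residueFieldMap_bijective
        E.y y' (Ideal.over_def y' E.y)).2
    have hresp : Function.Surjective
        (Ideal.ResidueField.mapₐ p p' (Algebra.ofId R R') (Ideal.over_def p' p)) :=
      ((RingHom.surjectiveOnStalks_of_isLocalization (Submonoid.powers g₂) R').residueFieldMap_bijective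
        p p' (Ideal.over_def p' p)).2
    let sg := f * f₀ * algebraMap R S g₂
    haveI : Algebra.Etale S S' := Algebra.Etale.of_isLocalizationAway sg
    let C' := S' ⊗[S] E.C
    letI aCC' : Algebra E.C C' := Algebra.TensorProduct.rightAlgebra
    haveI : IsScalarTower S E.C C' := IsScalarTower.of_algebraMap_eq fun a =>
      ((Algebra.TensorProduct.includeRight : E.C →ₐ[S] C').commutes a).symm
    haveI hpC : Algebra.IsPushout S S' E.C C' := inferInstanceAs (Algebra.IsPushout S S' E.C (S' ⊗[S] E.C))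
    haveI hCloc : IsLocalization.Away (algebraMap S E.C f * algebraMap E.D E.C hg) C' := by
      have h1 : IsLocalization (Algebra.algebraMapSubmonoid E.C (Submonoid.powers sg)) C' :=
        (Algebra.isLocalization_iff_isPushout (Submonoid.powers sg) S').2 (Algebra.IsPushout.symm hpC)
      rw [Algebra.algebraMapSubmonoid_powers] at h1
      have e : algebraMap S E.C sg = algebraMap S E.C f * algebraMap E.D E.C hg := by
        simp only [sg, hg, map_mul, hf₀, E.comm, mul_assoc]
      rwa [e] at h1
    haveI : IsLocalization.Away (algebraMap E.D E.C hg) C' := away_of_dvd _ (algebraMap S E.C f)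
      ((Ideal.mem_span_singleton.1 hh₀).trans (map_dvd _ (hh'.trans (dvd_mul_right _ _))))
    letI aDC' : Algebra E.D C' := ((algebraMap E.C C').comp (algebraMap E.D E.C)).toAlgebra
    haveI : IsScalarTower E.D E.C C' := IsScalarTower.of_algebraMap_eq fun _ => rfl
    letI aD'C' : Algebra D' C' := (IsLocalization.Away.lift hg (g := algebraMap E.D C')
      (IsLocalization.Away.algebraMap_isUnit (algebraMap E.D E.C hg))).toAlgebra
    haveI : IsScalarTower E.D D' C' := IsScalarTower.of_algebraMap_eq fun a =>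
      (IsLocalization.Away.lift_eq hg _ a).symm
    haveI : Algebra.IsPushout E.D D' E.C C' := by
      haveI : IsLocalization (Algebra.algebraMapSubmonoid E.C (Submonoid.powers hg)) C' := by
        rw [Algebra.algebraMapSubmonoid_powers]; infer_instance
      exact Algebra.IsPushout.symm (Algebra.isPushout_of_isLocalization (Submonoid.powers hg) D' E.C C')
    refine E.dev_baseChange (R' := R') (S' := S') (D' := D') (C' := C') p' hresp ?_ y' hresy
      (smoothRelDim_localization E.smooth g₂ R' D') ?_ q' ?_ φ hφ ?_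
    · intro a
      have key : (algebraMap S' C').comp (algebraMap R' S') = (algebraMap D' C').comp (algebraMap R' D') := by
        refine IsLocalization.ringHom_ext (Submonoid.powers g₂) (RingHom.ext fun b => ?_)
        simp only [RingHom.comp_apply]
        rw [← IsScalarTower.algebraMap_apply R R' S', ← IsScalarTower.algebraMap_apply R R' D',
          IsScalarTower.algebraMap_apply R S S', IsScalarTower.algebraMap_apply R E.D D',
          ← IsScalarTower.algebraMap_apply S S' C', ← IsScalarTower.algebraMap_apply E.D D' C',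
          IsScalarTower.algebraMap_apply S E.C C', IsScalarTower.algebraMap_apply E.D E.C C', E.comm]
      exact RingHom.congr_fun key a
    · refine geomIrred_localization g₂ h' E.geomIrred (fun t ht => ?_) R' D'
      obtain ⟨x, hx, hxt⟩ := hg₀U (show t ∈ PrimeSpectrum.basicOpen g₀ from fun hm => ht
        (Ideal.mem_of_dvd _ ((dvd_mul_left g₀ g₁).trans hg₂) hm))
      exact ⟨x, congrArg PrimeSpectrum.asIdeal hxt, hx⟩
    · intro z' _ hz' hz'z
      refine (IsLocalization.orderEmbedding (Submonoid.powers sg) S').injective ?_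
      show (z'.comap (algebraMap S' C')).comap (algebraMap S S') = q'.comap (algebraMap S S')
      rw [hq'q, Ideal.comap_comap, ← IsScalarTower.algebraMap_eq, IsScalarTower.algebraMap_eq S E.C C',
        ← Ideal.comap_comap, hz'z]
      exact E.zq
    · rcases hloc with h | h
      · exact Or.inl fun x => ⟨1, by rw [map_one]; exact isUnit_one, h ▸ Submodule.mem_top⟩
      · exact Or.inr fun T _ _ _ _ g hg' =>
          h g₂ ((dvd_mul_right g₁ g₀).trans hg₂) hg₂p R' p' hp'p D' y' hy'y T g hg'

end DevissExLib
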