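import Groth.Prelude
import Groth.Agent.DevissExLib.GeomIrredNhd
import Groth.Agent.DevissExLib.ChainLoc
import Mathlib

/-!
# An open of an étale base change with geometrically irreducible fibres
-/

set_option autoImplicit false
set_option linter.all false

universe u

open CategoryTheory CategoryTheory.Limits AlgebraicGeometry TopologicalSpace
open scoped TensorProduct

namespace DevissExLib

variable {R D : Type u} [CommRing R] [CommRing D] [Algebra R D]

theorem exists_geomIrred_open [Algebra.Smooth R D] (p : Ideal R) [p.IsPrime] (y : Ideal D) [y.IsPrime]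
    [y.LiesOver p] (hy : FlatCA.PurelyTranscendental p y) :
    ∃ (R₁ : Type u) (_ : CommRing R₁) (_ : Algebra R R₁) (P : Ideal R₁) (_ : P.IsPrime),
      FlatCA.IsEtaleNhd R R₁ p P ∧
    ∃ (y₁ : PrimeSpectrum (R₁ ⊗[R] D)) (U : (Spec (CommRingCat.of (R₁ ⊗[R] D))).Opens)
      (V : (Spec (CommRingCat.of R₁)).Opens),
      y₁ ∈ U ∧ (⟨P, inferInstance⟩ : PrimeSpectrum R₁) ∈ V ∧
      y₁.asIdeal.comap (algebraMap R₁ (R₁ ⊗[R] D)) = P ∧
      y₁.asIdeal.comap (Algebra.TensorProduct.includeRight : D →ₐ[R] R₁ ⊗[R] D).toRingHom = y ∧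
      ∀ (K : Type u) [Field K] (t : Spec (CommRingCat.of K) ⟶ Spec (CommRingCat.of R₁)),
        (∀ v, t v ∈ V) → IrreducibleSpace
          ↥(pullback.fst (Spec.map (CommRingCat.ofHom (algebraMap R₁ (R₁ ⊗[R] D)))) t ⁻¹ᵁ U) := by
  classical
  obtain ⟨C, hCdef, ⟨w₀, hw₀, hw₀C⟩, hC⟩ := component_geometric p y hy
  -- a quasi-section through the component
  let f₀ := Spec.map (CommRingCat.ofHom (algebraMap R (Localization.Away w₀)))
  haveI : Algebra.Smooth D (Localization.Away w₀) := inferInstance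
  haveI : Algebra.Smooth R (Localization.Away w₀) := Algebra.Smooth.comp R D _
  haveI : Smooth f₀ := by
    rw [HasRingHomProperty.Spec_iff (P := @Smooth)]
    exact RingHom.smooth_algebraMap.2 inferInstance
  have hyw : Disjoint (Submonoid.powers w₀ : Set D) (y : Set D) :=
    (Ideal.disjoint_powers_iff_notMem_of_isPrime _).2 hw₀
  haveI hy₀ := IsLocalization.isPrime_of_isPrime_disjoint (Submonoid.powers w₀) (Localization.Away w₀) y ‹_› hyw
  obtain ⟨S', gS, s', hgS, hs', h, hh⟩ := Groth.Agent.S0412.result f₀ (⟨p, inferInstance⟩ : PrimeSpectrum R)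
    ⟨⟨y.map (algebraMap D (Localization.Away w₀)), hy₀⟩, PrimeSpectrum.ext (by
      show Ideal.comap (algebraMap R (Localization.Away w₀)) (y.map (algebraMap D (Localization.Away w₀))) = p
      rw [IsScalarTower.algebraMap_eq R D (Localization.Away w₀), ← Ideal.comap_comap,
        show Ideal.comap (algebraMap D (Localization.Away w₀)) (y.map (algebraMap D (Localization.Away w₀))) = y from
          IsLocalization.comap_map_of_isPrime_disjoint _ _ ‹_› hyw]
      exact (Ideal.over_def y p).symm)⟩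
  obtain ⟨W, hW, hs'W, -⟩ := exists_isAffineOpen_mem_and_subset (x := s') (U := ⊤) trivial
  let A : Type u := Γ(S', W)
  let a : Spec (CommRingCat.of A) ⟶ Spec (CommRingCat.of R) := hW.fromSpec ≫ gS
  let ψ : R →+* A := (Spec.preimage a).hom
  have hψ : Spec.map (CommRingCat.ofHom ψ) = a := Spec.map_preimage a
  letI : Algebra R A := ψ.toAlgebra
  haveI : Algebra.Etale R A := by
    have h1 : Etale (Spec.map (CommRingCat.ofHom ψ)) := by
      rw [hψ]; haveI := hgS; infer_instance
    rw [HasRingHomProperty.Spec_iff (P := @Etale)] at h1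
    exact RingHom.etale_algebraMap.1 h1
  let b : Spec (CommRingCat.of A) ⟶ Spec (CommRingCat.of D) :=
    hW.fromSpec ≫ h ≫ Spec.map (CommRingCat.ofHom (algebraMap D (Localization.Away w₀)))
  have hbR : (Spec.preimage b).hom.comp (algebraMap R D) = ψ := by
    have h1 : b ≫ Spec.map (CommRingCat.ofHom (algebraMap R D)) = a := by
      show (hW.fromSpec ≫ h ≫ _) ≫ _ = hW.fromSpec ≫ gS
      rw [Category.assoc, Category.assoc, ← Spec.map_comp, ← CommRingCat.ofHom_comp,
        ← IsScalarTower.algebraMap_eq, hh]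
    rw [← Spec.map_preimage b, ← hψ, ← Spec.map_comp, Spec.map_inj] at h1
    exact congrArg CommRingCat.Hom.hom h1
  let σ₀ : D →ₐ[R] A :=
    { __ := (Spec.preimage b).hom, commutes' := fun r => RingHom.congr_fun hbR r }
  obtain ⟨z, hz⟩ : ∃ z, hW.fromSpec z = s' := by
    rw [← Set.mem_range, hW.range_fromSpec]; exact hs'W
  have hzp : z.asIdeal.comap (algebraMap R A) = p := by
    have h1 : Spec.map (CommRingCat.ofHom ψ) z = (⟨p, inferInstance⟩ : PrimeSpectrum R) := by
      rw [hψ]; show gS (hW.fromSpec z) = _; rw [hz, hs']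
    exact congrArg PrimeSpectrum.asIdeal h1
  have hzC : (⟨z.asIdeal.comap σ₀.toRingHom, inferInstance⟩ : PrimeSpectrum D) ∈ C := by
    refine hw₀C _ ?_ ?_
    · show (z.asIdeal.comap σ₀.toRingHom).comap (algebraMap R D) = p
      rw [Ideal.comap_comap, show σ₀.toRingHom.comp (algebraMap R D) = algebraMap R A from σ₀.comp_algebraMap]; exact hzp
    · have h1 : Spec.map (Spec.preimage b) z =
          Spec.map (CommRingCat.ofHom (algebraMap D (Localization.Away w₀))) (h (hW.fromSpec z)) := by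
        rw [Spec.map_preimage]; rfl
      intro hw
      have h2 : w₀ ∈ (Spec.map (Spec.preimage b) z).asIdeal := hw
      rw [h1] at h2
      exact (h (hW.fromSpec z)).isPrime.ne_top (Ideal.eq_top_of_isUnit_mem _ h2
        (IsLocalization.Away.algebraMap_isUnit w₀))
  haveI : z.asIdeal.LiesOver p := ⟨hzp.symm⟩
  haveI : Algebra.QuasiFinite R A := inferInstance
  -- make it finite
  obtain ⟨R₁, _, _, _, P, _, _, e, he, P', _, _, hP'z, heP', hres, hfin, huniq⟩ :=
    Algebra.exists_etale_isIdempotentElem_forall_liesOver_eq p z.asIdeal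
  haveI := hfin
  let A₁ := Localization.Away e
  haveI : Algebra.Etale R₁ A₁ := Algebra.Etale.comp R₁ (R₁ ⊗[R] A) A₁
  let D₁ := R₁ ⊗[R] D
  let σ₁ : D₁ →ₐ[R₁] A₁ := (IsScalarTower.toAlgHom R₁ (R₁ ⊗[R] A) A₁).comp
    (Algebra.TensorProduct.map (AlgHom.id R₁ R₁) σ₀)
  let f := Spec.map (CommRingCat.ofHom (algebraMap R D))
  let g₁ := Spec.map (CommRingCat.ofHom (algebraMap R R₁))
  let f₁ := Spec.map (CommRingCat.ofHom (algebraMap R₁ D₁))
  let pr : Spec (CommRingCat.of D₁) ⟶ Spec (CommRingCat.of D) :=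
    Spec.map (CommRingCat.ofHom (Algebra.TensorProduct.includeRight.toRingHom : D →+* D₁))
  have hsq : IsPullback f₁ pr g₁ f :=
    isPullback_SpecMap_of_isPushout _ _ _ _ (CommRingCat.isPushout_tensorProduct R R₁ D)
  let gA := Spec.map (CommRingCat.ofHom (algebraMap R₁ A₁))
  let eA : Spec (CommRingCat.of A₁) ⟶ Spec (CommRingCat.of D₁) := Spec.map (CommRingCat.ofHom σ₁.toRingHom)
  have heA : eA ≫ f₁ = gA := by
    simp only [eA, f₁, gA, ← Spec.map_comp, ← CommRingCat.ofHom_comp]
    congr 2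
    exact σ₁.comp_algebraMap
  haveI : IsFinite gA := by
    rw [IsFinite.SpecMap_iff]
    exact RingHom.finite_algebraMap.2 inferInstance
  haveI : Etale gA := by
    rw [HasRingHomProperty.Spec_iff (P := @Etale)]
    exact RingHom.etale_algebraMap.2 inferInstance
  haveI : Smooth f := by
    rw [HasRingHomProperty.Spec_iff (P := @Smooth)]
    exact RingHom.smooth_algebraMap.2 inferInstance
  haveI : Smooth f₁ := MorphismProperty.of_isPullback (P := @Smooth) hsq.flip inferInstance
  let sP : PrimeSpectrum R₁ := ⟨P, inferInstance⟩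
  have hgP : g₁ sP = (⟨p, inferInstance⟩ : PrimeSpectrum R) := PrimeSpectrum.ext (Ideal.over_def P p).symm
  obtain ⟨y₁, hy₁P, hy₁y⟩ := Scheme.exists_preimage_of_isPullback hsq sP (⟨y, inferInstance⟩ : PrimeSpectrum D)
    (hgP.trans (PrimeSpectrum.ext (Ideal.over_def y p)))
  let C₁ := connectedComponentIn (f₁ ⁻¹' {sP}) y₁
  have hprC : ∀ x ∈ C₁, pr x ∈ C := by
    have h1 : pr '' C₁ ⊆ C := by
      rw [hCdef]
      refine (isPreconnected_connectedComponentIn.image pr pr.continuous.continuousOn).subset_connectedComponentIn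
        ⟨y₁, mem_connectedComponentIn hy₁P, hy₁y⟩ ?_
      rintro _ ⟨x, hx, rfl⟩
      show f (pr x) = _
      rw [← Scheme.Hom.comp_apply, ← hsq.w, Scheme.Hom.comp_apply,
        show f₁ x = sP from (connectedComponentIn_subset _ _ hx :)]
      exact hgP
    exact fun x hx => h1 ⟨x, hx, rfl⟩
  have hpre : ∀ (K : Type u) [Field K] (t : Spec (CommRingCat.of K) ⟶ Spec (CommRingCat.of R₁)),
      (∀ w, t w = sP) → _root_.IsPreconnected (pullback.fst f₁ t ⁻¹' (pr ⁻¹' C)) := by
    intro K _ t ht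
    let j : pullback f₁ t ⟶ pullback f (t ≫ g₁) :=
      pullback.lift (pullback.fst f₁ t ≫ pr) (pullback.snd f₁ t) (by
        rw [Category.assoc, ← hsq.w, pullback.condition_assoc])
    haveI : IsIso j := by
      have hb := (IsPullback.of_hasPullback f₁ t).paste_horiz hsq.flip
      have hj : j = hb.isoPullback.hom := by
        apply pullback.hom_ext
        · rw [hb.isoPullback_hom_fst]; exact pullback.lift_fst _ _ _
        · rw [hb.isoPullback_hom_snd]; exact pullback.lift_snd _ _ _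
      rw [hj]; infer_instance
    have h1 := hC K (t ≫ g₁) fun w => by rw [Scheme.Hom.comp_apply, ht]; exact hgP
    have heq : pullback.fst f₁ t ⁻¹' (pr ⁻¹' C) = inv j '' (pullback.fst f (t ≫ g₁) ⁻¹' C) := by
      ext u
      constructor
      · intro hu
        refine ⟨j u, ?_, by rw [← Scheme.Hom.comp_apply, IsIso.hom_inv_id]; rfl⟩
        show pullback.fst f (t ≫ g₁) (j u) ∈ C
        rw [← Scheme.Hom.comp_apply, show j ≫ pullback.fst f (t ≫ g₁) = _ from pullback.lift_fst _ _ _]
        exact hu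
      · rintro ⟨v, hv, rfl⟩
        show pr (pullback.fst f₁ t (inv j v)) ∈ C
        rw [← Scheme.Hom.comp_apply, ← show j ≫ pullback.fst f (t ≫ g₁) = _ from pullback.lift_fst _ _ _,
          ← Scheme.Hom.comp_apply, IsIso.inv_hom_id_assoc]
        exact hv
    rw [heq]
    exact h1.image _ (inv j).continuous.continuousOn
  have hC₁ : ∀ x, f₁ x = sP → pr x ∈ C → x ∈ C₁ := by
    intro x hx hxC
    let t := (Spec (CommRingCat.of R₁)).fromSpecResidueField sP
    have ht : ∀ w, t w = sP := fun w => Scheme.fromSpecResidueField_apply ..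
    have h1 := hpre ((Spec (CommRingCat.of R₁)).residueField sP) t ht
    have hsurj : ∀ c, f₁ c = sP → ∃ v, pullback.fst f₁ t v = c := fun c hc => by
      obtain ⟨v, hv, -⟩ := Scheme.exists_preimage_of_isPullback (IsPullback.of_hasPullback f₁ t) c
        (IsLocalRing.closedPoint _) (hc.trans (ht _).symm)
      exact ⟨v, hv⟩
    obtain ⟨v, rfl⟩ := hsurj x hx
    obtain ⟨v₁, hv₁⟩ := hsurj y₁ hy₁P
    refine (h1.image (pullback.fst f₁ t) (pullback.fst f₁ t).continuous.continuousOn).subset_connectedComponentIn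
      ⟨v₁, ?_, hv₁⟩ ?_ ⟨v, hxC, rfl⟩
    · show pr (pullback.fst f₁ t v₁) ∈ C
      rw [hv₁, hy₁y, hCdef]
      exact mem_connectedComponentIn (PrimeSpectrum.ext (Ideal.over_def y p).symm)
    · rintro _ ⟨c, -, rfl⟩
      show f₁ (pullback.fst f₁ t c) = sP
      rw [← Scheme.Hom.comp_apply, pullback.condition, Scheme.Hom.comp_apply]
      exact ht _
  have hne : sP ∈ Set.range gA := by
    have hd : Disjoint (Submonoid.powers e : Set (R₁ ⊗[R] A)) (P' : Set (R₁ ⊗[R] A)) :=
      (Ideal.disjoint_powers_iff_notMem_of_isPrime _).2 heP'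
    refine ⟨⟨P'.map (algebraMap _ A₁), IsLocalization.isPrime_of_isPrime_disjoint (Submonoid.powers e) A₁ P' ‹_› hd⟩,
      PrimeSpectrum.ext ?_⟩
    show Ideal.comap (algebraMap R₁ A₁) (P'.map (algebraMap _ A₁)) = P
    rw [IsScalarTower.algebraMap_eq R₁ (R₁ ⊗[R] A) A₁, ← Ideal.comap_comap,
      show Ideal.comap (algebraMap (R₁ ⊗[R] A) A₁) (P'.map (algebraMap _ A₁)) = P' from
        IsLocalization.comap_map_of_isPrime_disjoint _ _ ‹_› hd]
    exact (Ideal.over_def P' P).symm
  obtain ⟨U, V, hyU, hPV, hirr⟩ := exists_open_geomIrred f₁ gA eA heA sP y₁ hy₁P hne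
    (fun q hq => by
      refine hC₁ _ (by rw [← Scheme.Hom.comp_apply, heA]; exact hq) ?_
      let Q := q.asIdeal.comap (algebraMap (R₁ ⊗[R] A) A₁)
      haveI : Q.LiesOver P := ⟨by
        show P = Ideal.comap _ (Ideal.comap _ q.asIdeal)
        rw [Ideal.comap_comap, ← IsScalarTower.algebraMap_eq]
        exact (congrArg PrimeSpectrum.asIdeal hq).symm⟩
      have hQ : Q = P' := huniq Q inferInstance inferInstance fun he' =>
        q.isPrime.ne_top (Ideal.eq_top_of_isUnit_mem _ he' (IsLocalization.Away.algebraMap_isUnit e))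
      have hpq : pr (eA q) = (⟨z.asIdeal.comap σ₀.toRingHom, inferInstance⟩ : PrimeSpectrum D) := by
        refine PrimeSpectrum.ext ?_
        show Ideal.comap _ (Ideal.comap σ₁.toRingHom q.asIdeal) = z.asIdeal.comap σ₀.toRingHom
        rw [← hP'z, ← hQ]
        simp only [Q, Ideal.comap_comap]
        congr 1
      rw [hpq]; exact hzC)
    (fun K _ t ht => by
      have heq : pullback.fst f₁ t ⁻¹' C₁ = pullback.fst f₁ t ⁻¹' (pr ⁻¹' C) := by
        ext u
        refine ⟨fun hu => hprC _ hu, fun hu => hC₁ _ ?_ hu⟩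
        rw [← Scheme.Hom.comp_apply, pullback.condition, Scheme.Hom.comp_apply]
        exact ht _
      show _root_.IsPreconnected (pullback.fst f₁ t ⁻¹' C₁)
      rw [heq]; exact hpre K t ht)
  exact ⟨R₁, inferInstance, inferInstance, P, inferInstance, ⟨inferInstance, inferInstance, hres⟩, y₁, U, V,
    hyU, hPV, congrArg PrimeSpectrum.asIdeal hy₁P, congrArg PrimeSpectrum.asIdeal hy₁y, hirr⟩

/-- Geometric irreducibility of a principal open inside an open with irreducible fibres. -/
theorem geomIrred_of_open {R₁ D₁ : Type u} [CommRing R₁] [CommRing D₁] [Algebra R₁ D₁]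
    (U : (Spec (CommRingCat.of D₁)).Opens) (V : (Spec (CommRingCat.of R₁)).Opens)
    (hirr : ∀ (K : Type u) [Field K] (t : Spec (CommRingCat.of K) ⟶ Spec (CommRingCat.of R₁)),
      (∀ v, t v ∈ V) → IrreducibleSpace
        ↥(pullback.fst (Spec.map (CommRingCat.ofHom (algebraMap R₁ D₁))) t ⁻¹ᵁ U))
    (g : R₁) (h : D₁) (hgV : ∀ t : PrimeSpectrum R₁, g ∉ t.asIdeal → t ∈ V)
    (hhU : ∀ x : PrimeSpectrum D₁, h ∉ x.asIdeal → x ∈ U)
    (hsub : ∀ t : PrimeSpectrum R₁, g ∉ t.asIdeal →
      ∃ x : PrimeSpectrum D₁, x.asIdeal.comap (algebraMap R₁ D₁) = t.asIdeal ∧ h ∉ x.asIdeal)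
    (R' D' : Type u) [CommRing R'] [CommRing D'] [Algebra R₁ R'] [Algebra R' D'] [Algebra D₁ D'] [Algebra R₁ D']
    [IsScalarTower R₁ R' D'] [IsScalarTower R₁ D₁ D'] [IsLocalization.Away g R']
    [IsLocalization.Away (h * algebraMap R₁ D₁ g) D'] : FlatCA.GeomIrredFibres R' D' := by
  let f := Spec.map (CommRingCat.ofHom (algebraMap R₁ D₁))
  refine ⟨geometrically_iff_of_commRing_of_isClosedUnderIsomorphisms.mpr fun K _ _ => ?_⟩
  let h₂ := Spec.map (CommRingCat.ofHom (algebraMap R' D'))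
  let jγ := Spec.map (CommRingCat.ofHom (algebraMap R₁ R'))
  haveI : IsOpenImmersion jγ := IsOpenImmersion.of_isLocalization g
  let ιD := Spec.map (CommRingCat.ofHom (algebraMap D₁ D'))
  haveI : IsOpenImmersion ιD := IsOpenImmersion.of_isLocalization (h * algebraMap R₁ D₁ g)
  have hcomm : h₂ ≫ jγ = ιD ≫ f := by
    simp only [h₂, jγ, ιD, f, ← Spec.map_comp, ← CommRingCat.ofHom_comp, ← IsScalarTower.algebraMap_eq]
  let t := Spec.map (CommRingCat.ofHom (algebraMap R' K))
  let t₁ := t ≫ jγ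
  haveI hI : IrreducibleSpace ↥(pullback.fst f t₁ ⁻¹ᵁ U) := hirr K t₁ fun v => hgV _ fun hm =>
    (t v).isPrime.ne_top (Ideal.eq_top_of_isUnit_mem _ hm (IsLocalization.Away.algebraMap_isUnit g))
  let c : pullback h₂ t ⟶ pullback f t₁ :=
    pullback.lift (pullback.fst h₂ t ≫ ιD) (pullback.snd h₂ t) (by
      rw [Category.assoc, ← hcomm, pullback.condition_assoc])
  have hmono : IsPullback t (𝟙 _) jγ t₁ := IsPullback.of_vert_isIso_mono ⟨by simp [t₁]⟩
  have hc : IsPullback (pullback.fst h₂ t) c ιD (pullback.fst f t₁) := by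
    refine IsPullback.of_bot ?_ (pullback.lift_fst _ _ _).symm (IsPullback.of_hasPullback f t₁)
    rw [show c ≫ pullback.snd f t₁ = pullback.snd h₂ t from pullback.lift_snd _ _ _, ← hcomm]
    simpa using (IsPullback.of_hasPullback h₂ t).paste_vert hmono
  haveI : IsOpenImmersion c := MorphismProperty.of_isPullback (P := @IsOpenImmersion) hc inferInstance
  haveI : Nonempty ↥(pullback h₂ t) := by
    let s := t₁ (IsLocalRing.closedPoint K)
    have hgs : g ∉ s.asIdeal := fun hm =>
      (t (IsLocalRing.closedPoint K)).isPrime.ne_top (Ideal.eq_top_of_isUnit_mem _ hm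
        (IsLocalization.Away.algebraMap_isUnit g))
    obtain ⟨x, hx, hxh⟩ := hsub s hgs
    obtain ⟨x', hx'⟩ : x ∈ Set.range ιD := by
      show x ∈ Set.range (PrimeSpectrum.comap (algebraMap D₁ D'))
      rw [PrimeSpectrum.localization_away_comap_range D' (h * algebraMap R₁ D₁ g)]
      refine fun hm => (x.isPrime.mem_or_mem hm).elim hxh fun hg => hgs ?_
      rw [← hx]; exact hg
    obtain ⟨v, hv⟩ := Scheme.exists_preimage_of_isPullback (IsPullback.of_hasPullback f t₁) x
      (IsLocalRing.closedPoint K) (PrimeSpectrum.ext hx)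
    obtain ⟨v', -, -⟩ := Scheme.exists_preimage_of_isPullback hc x' v (hx'.trans hv.1.symm)
    exact ⟨v'⟩
  show IrreducibleSpace ↥(pullback h₂ t)
  have hrng : Set.range c ⊆ (pullback.fst f t₁ ⁻¹ᵁ U : Set _) := by
    rintro _ ⟨v, rfl⟩
    show pullback.fst f t₁ (c v) ∈ U
    rw [← Scheme.Hom.comp_apply, ← hc.w, Scheme.Hom.comp_apply]
    refine hhU _ ?_
    exact fun hm => (pullback.fst h₂ t v).isPrime.ne_top (Ideal.eq_top_of_isUnit_mem _ hm
      (isUnit_of_dvd_unit (map_dvd _ (dvd_mul_right h _))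
        (IsLocalization.Away.algebraMap_isUnit (h * algebraMap R₁ D₁ g))))
  let e' := IsOpenImmersion.lift (pullback.fst f t₁ ⁻¹ᵁ U).ι c (by rw [Scheme.Opens.range_ι]; exact hrng)
  haveI : IsOpenImmersion e' := by
    haveI : IsOpenImmersion (e' ≫ (pullback.fst f t₁ ⁻¹ᵁ U).ι) := by
      rw [IsOpenImmersion.lift_fac]; infer_instance
    exact IsOpenImmersion.of_comp e' (pullback.fst f t₁ ⁻¹ᵁ U).ι
  haveI : PreirreducibleSpace ↥((pullback.fst f t₁ ⁻¹ᵁ U).toScheme) := hI.toPreirreducibleSpace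
  haveI : PreirreducibleSpace ↥(pullback h₂ t) := e'.isOpenEmbedding.preirreducibleSpace
  exact ⟨inferInstance⟩

end DevissExLib
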