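import Groth.Prelude
import Groth.Agent.DevissExLib.Chain
import Groth.Agent.S9436
import Mathlib

/-!
# Lifting étale algebras along a closed immersion, over an étale base change
-/

set_option autoImplicit false
set_option linter.all false

universe u

open scoped TensorProduct

namespace DevissExLib

/-- A surjection with kernel extended from the base is a base change. -/
theorem isPushout_of_ker {S S'' C C'' : Type u} [CommRing S] [CommRing S''] [CommRing C] [CommRing C'']
    [Algebra S S''] [Algebra S C] [Algebra S'' C''] [Algebra C C''] [Algebra S C''] [IsScalarTower S S'' C'']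
    [IsScalarTower S C C''] (h : Function.Surjective (algebraMap S C))
    (h' : Function.Surjective (algebraMap S'' C''))
    (hker : RingHom.ker (algebraMap S'' C'') = (RingHom.ker (algebraMap S C)).map (algebraMap S S'')) :
    Algebra.IsPushout S S'' C C'' := by
  let f : S →ₗ[S] S'' := Algebra.linearMap S S''
  have hf : IsBaseChange S'' f := IsBaseChange.of_equiv (TensorProduct.AlgebraTensorModule.rid S S'' S'')
    fun x => by simp [f, Algebra.smul_def]
  let K : Submodule S S := RingHom.ker (algebraMap S C)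
  let K' : Submodule S'' S'' := RingHom.ker (algebraMap S'' C'')
  obtain ⟨g, hg, hgm⟩ := isBaseChange_quotient f hf K K' (by
    show RingHom.ker (algebraMap S'' C'') = _
    rw [hker]
    rfl)
  let e₁ : (S ⧸ K) ≃ₗ[S] C := LinearEquiv.ofBijective (K.liftQ (Algebra.linearMap S C) le_rfl)
    ⟨LinearMap.ker_eq_bot.1 (Submodule.ker_liftQ_eq_bot _ _ _ le_rfl),
      fun c => by obtain ⟨s, hs⟩ := h c; exact ⟨Submodule.Quotient.mk s, hs⟩⟩
  let e₂ : (S'' ⧸ K') ≃ₗ[S''] C'' := LinearEquiv.ofBijective (K'.liftQ (Algebra.linearMap S'' C'') le_rfl)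
    ⟨LinearMap.ker_eq_bot.1 (Submodule.ker_liftQ_eq_bot _ _ _ le_rfl),
      fun c => by obtain ⟨s, hs⟩ := h' c; exact ⟨Submodule.Quotient.mk s, hs⟩⟩
  rw [Algebra.isPushout_iff]
  refine IsBaseChange.of_equiv ((TensorProduct.AlgebraTensorModule.congr (LinearEquiv.refl S'' S'') e₁.symm).trans
    (hg.equiv.trans e₂)) fun c => ?_
  obtain ⟨s, rfl⟩ := h c
  simp only [LinearEquiv.trans_apply, TensorProduct.AlgebraTensorModule.congr_tmul, LinearEquiv.refl_apply]
  rw [show e₁.symm (algebraMap S C s) = Submodule.Quotient.mk s from e₁.injective ((e₁.apply_symm_apply _).trans rfl),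
    IsBaseChange.equiv_tmul, one_smul, hgm]
  show algebraMap S'' C'' (algebraMap S S'' s) = algebraMap C C'' (algebraMap S C s)
  rw [← IsScalarTower.algebraMap_apply, ← IsScalarTower.algebraMap_apply]

/-- Étale algebras over a closed subscheme of a base change lift. -/
theorem exists_etale_lift {R R'' S C C'' : Type u} [CommRing R] [CommRing R''] [CommRing S] [CommRing C]
    [CommRing C''] [Algebra R R''] [Algebra R S] [Algebra S C] [Algebra C C''] [Algebra R'' C'']
    [Algebra.Etale R R''] [Algebra.Etale C C''] (hsurj : Function.Surjective (algebraMap S C))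
    (hfp : Algebra.FinitePresentation S C)
    (hcomm : ∀ a : R, algebraMap R'' C'' (algebraMap R R'' a) =
      algebraMap C C'' (algebraMap S C (algebraMap R S a))) :
    ∃ (S'' : Type u) (_ : CommRing S'') (_ : Algebra S S'') (_ : Algebra R'' S'') (_ : Algebra R S'')
      (_ : IsScalarTower R R'' S'') (_ : IsScalarTower R S S'') (_ : Algebra S'' C'') (_ : Algebra S C'')
      (_ : IsScalarTower S S'' C'') (_ : IsScalarTower S C C''),
      Algebra.Etale S S'' ∧ Algebra.IsPushout S S'' C C'' ∧
      ∀ a : R'', algebraMap S'' C'' (algebraMap R'' S'' a) = algebraMap R'' C'' a := by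
  let J := RingHom.ker (algebraMap S C)
  have hJfg : J.FG := Algebra.FinitePresentation.ker_fG_of_surjective (Algebra.ofId S C) hsurj
  letI algSC'' : Algebra S C'' := ((algebraMap C C'').comp (algebraMap S C)).toAlgebra
  haveI : IsScalarTower S C C'' := IsScalarTower.of_algebraMap_eq fun _ => rfl
  letI algRC'' : Algebra R C'' := ((algebraMap S C'').comp (algebraMap R S)).toAlgebra
  haveI : IsScalarTower R S C'' := IsScalarTower.of_algebraMap_eq fun _ => rfl
  haveI : IsScalarTower R R'' C'' := IsScalarTower.of_algebraMap_eq fun a => (hcomm a).symm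
  let SR := S ⊗[R] R''
  letI algR''SR : Algebra R'' SR := Algebra.TensorProduct.rightAlgebra
  let θ : SR →ₐ[R] C'' := Algebra.TensorProduct.lift (IsScalarTower.toAlgHom R S C'')
    (IsScalarTower.toAlgHom R R'' C'') (fun _ _ => Commute.all _ _)
  let I : Ideal SR := J.map (algebraMap S SR)
  have hI : ∀ a ∈ I, θ a = 0 := fun a ha => by
    have hle : I ≤ RingHom.ker θ.toRingHom := Ideal.map_le_iff_le_comap.2 fun j hj => by
      show θ (j ⊗ₜ[R] 1) = 0
      rw [Algebra.TensorProduct.lift_tmul, map_one, mul_one]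
      show algebraMap C C'' (algebraMap S C j) = 0
      rw [RingHom.mem_ker.1 hj, map_zero]
    exact hle ha
  letI algIC : Algebra (SR ⧸ I) C'' := (Ideal.Quotient.lift I θ.toRingHom hI).toAlgebra
  let e := RingHom.quotientKerEquivOfSurjective hsurj
  let χ : C →+* SR ⧸ I := (Ideal.quotientMap I (algebraMap S SR) Ideal.le_comap_map).comp e.symm.toRingHom
  letI algCI : Algebra C (SR ⧸ I) := χ.toAlgebra
  have hχ : ∀ s : S, algebraMap C (SR ⧸ I) (algebraMap S C s) = Ideal.Quotient.mk I (s ⊗ₜ[R] 1) := fun s => by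
    show (Ideal.quotientMap I (algebraMap S SR) Ideal.le_comap_map) (e.symm (algebraMap S C s)) = _
    rw [show e.symm (algebraMap S C s) = Ideal.Quotient.mk J s from
      e.injective (by rw [e.apply_symm_apply]; rfl), Ideal.quotientMap_mk]
    rfl
  haveI : IsScalarTower S C (SR ⧸ I) := IsScalarTower.of_algebraMap_eq fun s => (hχ s).symm
  haveI : IsScalarTower C (SR ⧸ I) C'' := IsScalarTower.of_algebraMap_eq fun c => by
    obtain ⟨s, rfl⟩ := hsurj c
    show _ = Ideal.Quotient.lift I θ.toRingHom hI (algebraMap C (SR ⧸ I) (algebraMap S C s))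
    rw [hχ, Ideal.Quotient.lift_mk]
    show _ = θ (s ⊗ₜ[R] 1)
    rw [Algebra.TensorProduct.lift_tmul, map_one, mul_one]
    rfl
  haveI : Algebra.IsPushout R S R'' SR := inferInstanceAs (Algebra.IsPushout R S R'' (S ⊗[R] R''))
  haveI : Algebra.Etale S SR := inferInstanceAs (Algebra.Etale S (S ⊗[R] R''))
  haveI : Algebra.FormallyUnramified SR (SR ⧸ I) :=
    Algebra.FormallyUnramified.of_surjective (IsScalarTower.toAlgHom SR SR (SR ⧸ I)) Ideal.Quotient.mk_surjective
  haveI : Algebra.FormallyUnramified S (SR ⧸ I) := Algebra.FormallyUnramified.comp S SR (SR ⧸ I)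
  haveI : Algebra.FormallyUnramified C (SR ⧸ I) := Algebra.FormallyUnramified.of_restrictScalars S C _
  haveI : Algebra.FiniteType S (SR ⧸ I) := Algebra.FiniteType.trans (S := SR) inferInstance inferInstance
  haveI : Algebra.FiniteType C (SR ⧸ I) := Algebra.FiniteType.of_restrictScalars_finiteType S C _
  haveI : Algebra.FormallyEtale (SR ⧸ I) C'' := Algebra.FormallyEtale.of_restrictScalars (R := C)
  haveI : Algebra.FinitePresentation (SR ⧸ I) C'' :=
    Algebra.FinitePresentation.of_restrict_scalars_finitePresentation C (SR ⧸ I) C''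
  haveI : Algebra.Etale (SR ⧸ I) C'' := ⟨inferInstance, inferInstance⟩
  obtain ⟨S'', _, _, hetS'', ⟨ψ⟩⟩ := Groth.Agent.S9436.result SR I C''
  haveI := hetS''
  let ξ : S'' →+* C'' := ψ.toAlgHom.toRingHom.comp
    (Algebra.TensorProduct.includeRight : S'' →ₐ[SR] (SR ⧸ I) ⊗[SR] S'').toRingHom
  letI algS''C : Algebra S'' C'' := ξ.toAlgebra
  have hξSR : ∀ a : SR, ξ (algebraMap SR S'' a) = θ a := fun a => by
    show ψ ((Algebra.TensorProduct.includeRight : S'' →ₐ[SR] (SR ⧸ I) ⊗[SR] S'') (algebraMap SR S'' a)) = _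
    rw [AlgHom.commutes, IsScalarTower.algebraMap_apply SR (SR ⧸ I) ((SR ⧸ I) ⊗[SR] S''), AlgEquiv.commutes]
    rfl
  have hsurjC : Function.Surjective (algebraMap S'' C'') := by
    intro c
    obtain ⟨w, rfl⟩ := ψ.surjective c
    induction w using TensorProduct.induction_on with
    | zero => exact ⟨0, by simp⟩
    | tmul a s =>
      obtain ⟨a, rfl⟩ := Ideal.Quotient.mk_surjective a
      refine ⟨a • s, ?_⟩
      show ψ ((1 : SR ⧸ I) ⊗ₜ[SR] (a • s)) = _
      rw [← TensorProduct.smul_tmul]
      congr 2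
      exact (Algebra.algebraMap_eq_smul_one a).symm
    | add u v hu hv =>
      obtain ⟨s, hs⟩ := hu; obtain ⟨t, ht⟩ := hv
      exact ⟨s + t, by rw [map_add, map_add, hs, ht]⟩
  letI algSS'' : Algebra S S'' := ((algebraMap SR S'').comp (algebraMap S SR)).toAlgebra
  haveI : IsScalarTower S SR S'' := IsScalarTower.of_algebraMap_eq fun _ => rfl
  letI algR''S'' : Algebra R'' S'' := ((algebraMap SR S'').comp (algebraMap R'' SR)).toAlgebra
  letI algRS'' : Algebra R S'' := ((algebraMap S S'').comp (algebraMap R S)).toAlgebra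
  haveI : IsScalarTower R S S'' := IsScalarTower.of_algebraMap_eq fun _ => rfl
  haveI : IsScalarTower R R'' S'' := IsScalarTower.of_algebraMap_eq fun r => by
    show algebraMap SR S'' (algebraMap R S r ⊗ₜ[R] 1) = algebraMap SR S'' ((1 : S) ⊗ₜ[R] algebraMap R R'' r)
    congr 1
    exact Algebra.TensorProduct.tmul_one_eq_one_tmul r
  haveI : IsScalarTower S S'' C'' := IsScalarTower.of_algebraMap_eq fun s => by
    show algebraMap S C'' s = ξ (algebraMap SR S'' (s ⊗ₜ[R] 1))
    rw [hξSR, Algebra.TensorProduct.lift_tmul, map_one, mul_one]; rfl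
  have hker : RingHom.ker (algebraMap S'' C'') = J.map (algebraMap S S'') := by
    refine le_antisymm (fun k hk => ?_) (Ideal.map_le_iff_le_comap.2 fun j hj => ?_)
    · have h1 : (1 : SR ⧸ I) ⊗ₜ[SR] k = 0 := ψ.injective ((RingHom.mem_ker.1 hk).trans (map_zero ψ).symm)
      have h2 := congrArg (TensorProduct.quotTensorEquivQuotSMul S'' I) h1
      rw [map_zero, ← map_one (Ideal.Quotient.mk I), TensorProduct.quotTensorEquivQuotSMul_mk_tmul,
        one_smul, Submodule.Quotient.mk_eq_zero, Ideal.smul_top_eq_map] at h2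
      rw [IsScalarTower.algebraMap_eq S SR S'', ← Ideal.map_map]
      exact h2
    · show algebraMap S'' C'' (algebraMap S S'' j) = 0
      rw [← IsScalarTower.algebraMap_apply, IsScalarTower.algebraMap_apply S C C'', RingHom.mem_ker.1 hj, map_zero]
  refine ⟨S'', inferInstance, algSS'', algR''S'', algRS'', inferInstance, inferInstance, algS''C, algSC'',
    inferInstance, inferInstance, Algebra.Etale.comp S SR S'', isPushout_of_ker hsurj hsurjC hker, fun a => ?_⟩
  show ξ (algebraMap SR S'' ((1 : S) ⊗ₜ[R] a)) = _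
  rw [hξSR, Algebra.TensorProduct.lift_tmul, map_one, one_mul]
  rfl

end DevissExLib
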