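import Groth.Prelude
import Groth.Agent.DevissExLib.Elem
import Groth.Agent.FlatInjLib.GenericFibre
import Groth.Agent.FibDimLib.Formula
import Groth.Agent.S6284
import Mathlib

/-!
# The generic point of the fibre lies in the support along an elementary dévissage
-/

set_option autoImplicit false
set_option linter.all false

universe u

open CategoryTheory CategoryTheory.Limits AlgebraicGeometry
open scoped TensorProduct

namespace DevissExLib

/-- The transcendence degree of a residue field over the residue field below. -/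
noncomputable def trd {R S : Type u} [CommRing R] [CommRing S] [Algebra R S] (p : Ideal R) [p.IsPrime]
    (Q : Ideal S) [Q.IsPrime] [h : Q.LiesOver p] : Cardinal.{u} :=
  letI : Algebra p.ResidueField Q.ResidueField :=
    (Ideal.ResidueField.map p Q (algebraMap R S) h.over).toAlgebra
  Algebra.trdeg p.ResidueField Q.ResidueField

theorem isAlgebraic_residue {A B : Type u} [CommRing A] [CommRing B] [Algebra A B] [Algebra.QuasiFinite A B]
    (P : Ideal A) (Q : Ideal B) [P.IsPrime] [Q.IsPrime] [h : Q.LiesOver P] :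
    letI : Algebra P.ResidueField Q.ResidueField :=
      (Ideal.ResidueField.map P Q (algebraMap A B) h.over).toAlgebra
    Algebra.IsAlgebraic P.ResidueField Q.ResidueField := by
  letI : Algebra P.ResidueField Q.ResidueField :=
    (Ideal.ResidueField.map P Q (algebraMap A B) h.over).toAlgebra
  haveI : IsScalarTower A P.ResidueField Q.ResidueField := IsScalarTower.of_algebraMap_eq fun a => by
    show _ = Ideal.ResidueField.map P Q (algebraMap A B) h.over (algebraMap A _ a)
    rw [Ideal.ResidueField.map_algebraMap, IsScalarTower.algebraMap_apply A B Q.ResidueField]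
  let ψ : P.Fiber B →ₐ[P.ResidueField] Q.ResidueField :=
    Algebra.TensorProduct.lift (Algebra.ofId _ _) (IsScalarTower.toAlgHom A B Q.ResidueField)
      (fun _ _ => Commute.all _ _)
  haveI : Module.Finite P.ResidueField (P.Fiber B) := Algebra.QuasiFinite.finite_fiber P
  let E := algebraicClosure P.ResidueField Q.ResidueField
  have hmem : ∀ b : B, algebraMap B Q.ResidueField b ∈ E := fun b => by
    show algebraMap B Q.ResidueField b ∈ algebraicClosure P.ResidueField Q.ResidueField
    rw [mem_algebraicClosure_iff]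
    have h1 : IsIntegral P.ResidueField (ψ ((1 : P.ResidueField) ⊗ₜ[A] b)) :=
      (Algebra.IsIntegral.isIntegral _).map ψ
    rw [show ψ ((1 : P.ResidueField) ⊗ₜ[A] b) = algebraMap B Q.ResidueField b from
      (Algebra.TensorProduct.lift_tmul _ _ _ _ _).trans (by rw [map_one, one_mul]; rfl)] at h1
    exact h1.isAlgebraic
  have hsurj : Function.Surjective E.val.toRingHom := surjective_residue_of_range _ fun b => ⟨⟨_, hmem b⟩, rfl⟩
  refine ⟨fun z => ?_⟩
  obtain ⟨⟨w, hw⟩, rfl⟩ := hsurj z
  exact mem_algebraicClosure_iff.1 hw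

theorem trd_eq_of_algebraic {R A B : Type u} [CommRing R] [CommRing A] [CommRing B] [Algebra R A] [Algebra A B]
    [Algebra R B] [IsScalarTower R A B] (p : Ideal R) [p.IsPrime] (Q : Ideal A) (Q' : Ideal B) [Q.IsPrime]
    [Q'.IsPrime] [Q.LiesOver p] [Q'.LiesOver p] [h : Q'.LiesOver Q]
    (halg : letI : Algebra Q.ResidueField Q'.ResidueField :=
        (Ideal.ResidueField.map Q Q' (algebraMap A B) h.over).toAlgebra
      Algebra.IsAlgebraic Q.ResidueField Q'.ResidueField) : trd p Q' = trd p Q := by
  letI : Algebra Q.ResidueField Q'.ResidueField :=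
    (Ideal.ResidueField.map Q Q' (algebraMap A B) h.over).toAlgebra
  letI : Algebra p.ResidueField Q.ResidueField :=
    (Ideal.ResidueField.map p Q (algebraMap R A) (Ideal.over_def Q p)).toAlgebra
  letI : Algebra p.ResidueField Q'.ResidueField :=
    (Ideal.ResidueField.map p Q' (algebraMap R B) (Ideal.over_def Q' p)).toAlgebra
  haveI := halg
  haveI : IsScalarTower p.ResidueField Q.ResidueField Q'.ResidueField :=
    IsScalarTower.of_algebraMap_eq' (Ideal.ResidueField.ringHom_ext (RingHom.ext fun a => by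
      show Ideal.ResidueField.map p Q' (algebraMap R B) (Ideal.over_def Q' p) (algebraMap R _ a) =
        Ideal.ResidueField.map Q Q' (algebraMap A B) h.over
          (Ideal.ResidueField.map p Q (algebraMap R A) (Ideal.over_def Q p) (algebraMap R _ a))
      rw [Ideal.ResidueField.map_algebraMap, Ideal.ResidueField.map_algebraMap,
        Ideal.ResidueField.map_algebraMap, ← IsScalarTower.algebraMap_apply R A B]))
  show Algebra.trdeg p.ResidueField Q'.ResidueField = Algebra.trdeg p.ResidueField Q.ResidueField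
  rw [← trdeg_add_eq p.ResidueField Q.ResidueField (A := Q'.ResidueField), trdeg_eq_zero (R := Q.ResidueField), add_zero]

theorem trd_eq_of_surjective {R A B : Type u} [CommRing R] [CommRing A] [CommRing B] [Algebra R A] [Algebra A B]
    [Algebra R B] [IsScalarTower R A B] (p : Ideal R) [p.IsPrime] (Q : Ideal A) (Q' : Ideal B) [Q.IsPrime]
    [Q'.IsPrime] [Q.LiesOver p] [Q'.LiesOver p] [h : Q'.LiesOver Q]
    (hs : Function.Surjective (Ideal.ResidueField.map Q Q' (algebraMap A B) h.over)) : trd p Q' = trd p Q := by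
  refine trd_eq_of_algebraic p Q Q' ?_
  letI : Algebra Q.ResidueField Q'.ResidueField :=
    (Ideal.ResidueField.map Q Q' (algebraMap A B) h.over).toAlgebra
  refine ⟨fun z => ?_⟩
  obtain ⟨w, rfl⟩ := hs z
  exact isAlgebraic_algebraMap w

theorem trd_base {R R' B : Type u} [CommRing R] [CommRing R'] [CommRing B] [Algebra R R'] [Algebra R' B]
    [Algebra R B] [IsScalarTower R R' B] (p : Ideal R) [p.IsPrime] (p' : Ideal R') (Q : Ideal B) [p'.IsPrime]
    [Q.IsPrime] [Q.LiesOver p] [Q.LiesOver p'] [hp : p'.LiesOver p]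
    (hs : Function.Surjective (Ideal.ResidueField.map p p' (algebraMap R R') hp.over)) : trd p Q = trd p' Q := by
  letI : Algebra p.ResidueField p'.ResidueField :=
    (Ideal.ResidueField.map p p' (algebraMap R R') hp.over).toAlgebra
  letI : Algebra p'.ResidueField Q.ResidueField :=
    (Ideal.ResidueField.map p' Q (algebraMap R' B) (Ideal.over_def Q p')).toAlgebra
  letI : Algebra p.ResidueField Q.ResidueField :=
    (Ideal.ResidueField.map p Q (algebraMap R B) (Ideal.over_def Q p)).toAlgebra
  haveI : IsScalarTower p.ResidueField p'.ResidueField Q.ResidueField :=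
    IsScalarTower.of_algebraMap_eq' (Ideal.ResidueField.ringHom_ext (RingHom.ext fun a => by
      show Ideal.ResidueField.map p Q (algebraMap R B) (Ideal.over_def Q p) (algebraMap R _ a) =
        Ideal.ResidueField.map p' Q (algebraMap R' B) (Ideal.over_def Q p')
          (Ideal.ResidueField.map p p' (algebraMap R R') hp.over (algebraMap R _ a))
      rw [Ideal.ResidueField.map_algebraMap, Ideal.ResidueField.map_algebraMap,
        Ideal.ResidueField.map_algebraMap, ← IsScalarTower.algebraMap_apply R R' B]))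
  haveI : Algebra.IsAlgebraic p.ResidueField p'.ResidueField := ⟨fun z => by
    obtain ⟨w, rfl⟩ := hs z
    exact isAlgebraic_algebraMap w⟩
  show Algebra.trdeg p.ResidueField Q.ResidueField = Algebra.trdeg p'.ResidueField Q.ResidueField
  rw [← trdeg_add_eq p.ResidueField p'.ResidueField (A := Q.ResidueField),
    trdeg_eq_zero (R := p.ResidueField) (A := p'.ResidueField), zero_add]

attribute [-instance] IsLocalRing.ResidueField.instAlgebra in
/-- Dimensions of closures of points of a fibre. -/
theorem exists_dim_eq_trd {R A : Type u} [CommRing R] [CommRing A] [Algebra R A] [Algebra.FiniteType R A]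
    (p : Ideal R) [p.IsPrime] (g : Ideal (p.Fiber A)) [g.IsPrime] (Q : Ideal A) [Q.IsPrime] [Q.LiesOver p]
    (hQ : Q = g.comap (Algebra.TensorProduct.includeRight : A →ₐ[R] p.Fiber A).toRingHom) :
    ∃ s : ℕ, ringKrullDim (p.Fiber A ⧸ g) = s ∧ trd p Q = s := by
  obtain ⟨s, hs, hs'⟩ := FibDimLib.ringKrullDim_quotient_eq_trdeg p.ResidueField g
  refine ⟨s, hs, ?_⟩
  let ι := (Algebra.TensorProduct.includeRight : A →ₐ[R] p.Fiber A)
  let φ := Ideal.ResidueField.map Q g ι.toRingHom hQ
  let f := Ideal.ResidueField.map p Q (algebraMap R A) (Ideal.over_def Q p)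
  letI : Algebra p.ResidueField Q.ResidueField := f.toAlgebra
  have hcomm : φ.comp f = algebraMap p.ResidueField g.ResidueField :=
    Ideal.ResidueField.ringHom_ext (RingHom.ext fun a => by
      simp only [φ, f, RingHom.comp_apply, Ideal.ResidueField.map_algebraMap]
      rw [show ι.toRingHom (algebraMap R A a) = algebraMap R (p.Fiber A) a from ι.commutes a,
        ← IsScalarTower.algebraMap_apply R (p.Fiber A) g.ResidueField,
        IsScalarTower.algebraMap_apply R p.ResidueField g.ResidueField])
  have hsurj : Function.Surjective φ := surjective_residue_of_range _ fun z => by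
    induction z using TensorProduct.induction_on with
    | zero => rw [map_zero]; exact zero_mem _
    | add a b ha hb => rw [map_add]; exact add_mem ha hb
    | tmul a b =>
      rw [show a ⊗ₜ[R] b = algebraMap p.ResidueField (p.Fiber A) a * ι b by
        show _ = _ * ((1 : p.ResidueField) ⊗ₜ[R] b)
        rw [Algebra.TensorProduct.algebraMap_apply, Algebra.TensorProduct.tmul_mul_tmul,
          Algebra.algebraMap_self, RingHom.id_apply, mul_one, one_mul], map_mul,
        ← IsScalarTower.algebraMap_apply]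
      refine mul_mem ⟨f a, ?_⟩ ⟨algebraMap A Q.ResidueField b, Ideal.ResidueField.map_algebraMap _ _ _ _ _⟩
      rw [← RingHom.comp_apply, hcomm]
  let e : Q.ResidueField ≃ₐ[p.ResidueField] g.ResidueField :=
    AlgEquiv.ofBijective { __ := φ, commutes' := fun c => RingHom.congr_fun hcomm c }
      ⟨φ.injective, hsurj⟩
  show Algebra.trdeg p.ResidueField Q.ResidueField = s
  exact e.trdeg_eq.trans hs'

attribute [local instance] Algebra.TensorProduct.rightAlgebra in
theorem mem_support_fiberMod_iff {R S : Type u} [CommRing R] [CommRing S] [Algebra R S] (N : Type u)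
    [AddCommGroup N] [Module S N] [Module.Finite S N] (p : Ideal R) [p.IsPrime] (x : PrimeSpectrum (p.Fiber S)) :
    x ∈ Module.support (p.Fiber S) (FlatCA.fiberMod p S N) ↔
      PrimeSpectrum.comap (algebraMap S (p.Fiber S)) x ∈ Module.support S N := by
  show x ∈ Module.support (p.Fiber S) (p.Fiber S ⊗[S] N) ↔ _
  rw [Groth.Agent.S6284.result N]
  rfl

theorem generic_mem_support {R S : Type u} [CommRing R] [CommRing S] [Algebra R S] [Algebra.FiniteType R S]
    {N : Type u} [AddCommGroup N] [Module S N] [Module R N] [IsScalarTower R S N] [Module.Finite S N]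
    {p : Ideal R} [p.IsPrime] {q : Ideal S} [q.IsPrime] [q.LiesOver p] {n : ℕ}
    (x : PrimeSpectrum (p.Fiber S)) (hxq : x.asIdeal = FlatCA.fiberIdeal p q)
    (hx : x ∈ Module.support (p.Fiber S) (FlatCA.fiberMod p S N))
    (hn : FlatMor.localDim (Module.support (p.Fiber S) (FlatCA.fiberMod p S N)) ⟨x, hx⟩ = n)
    (E : FlatCA.ElemDevissage R S N p q n) (P : Ideal E.D) [P.IsPrime]
    (hP : P = E.p'.map (algebraMap E.R' E.D)) :
    (⟨P, inferInstance⟩ : PrimeSpectrum E.D) ∈ Module.support E.D E.G := by
  classical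
  obtain ⟨J, hJfg, hJann, hJs⟩ := Groth.Agent.S1276.result (A := R) (B := S) N p
  obtain ⟨hJq, Q₀, hQ₀, hdim⟩ := exists_fibre_quotient_point N p q J hJs n x hxq hx hn
  let F₀ := p.Fiber (S ⧸ J)
  let str := Spec.map (CommRingCat.ofHom (algebraMap p.ResidueField F₀))
  haveI : LocallyOfFiniteType str := by
    rw [HasRingHomProperty.Spec_iff (P := @LocallyOfFiniteType)]
    exact RingHom.finiteType_algebraMap.mpr inferInstance
  obtain ⟨g, -, hgQ, hgd⟩ := FibDimLib.exists_generic_localDim str (Q₀ : Spec (CommRingCat.of F₀))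
  haveI : g.asIdeal.IsPrime := g.isPrime
  let Qb : Ideal (S ⧸ J) := g.asIdeal.comap (Algebra.TensorProduct.includeRight : (S ⧸ J) →ₐ[R] F₀).toRingHom
  haveI : Qb.IsPrime := Ideal.IsPrime.comap _
  haveI : Qb.LiesOver p := ⟨by
    show p = Ideal.comap _ (Ideal.comap _ g.asIdeal)
    rw [Ideal.comap_comap,
      show (Algebra.TensorProduct.includeRight : (S ⧸ J) →ₐ[R] F₀).toRingHom.comp (algebraMap R (S ⧸ J)) =
        (algebraMap p.ResidueField F₀).comp (algebraMap R p.ResidueField) from RingHom.ext fun a => by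
          show _ = algebraMap p.ResidueField F₀ (algebraMap R p.ResidueField a)
          rw [← IsScalarTower.algebraMap_apply]
          exact (Algebra.TensorProduct.includeRight : (S ⧸ J) →ₐ[R] F₀).commutes a,
      ← Ideal.comap_comap,
      show Ideal.comap (algebraMap p.ResidueField F₀) g.asIdeal = ⊥ from
        (Ideal.eq_bot_or_top _).resolve_right (Ideal.IsPrime.comap _).ne_top]
    exact p.ker_algebraMap_residueField.symm⟩
  obtain ⟨s, hs, hsQ⟩ := exists_dim_eq_trd p g.asIdeal Qb rfl
  rw [show topologicalKrullDim (closure ({g} : Set (Spec (CommRingCat.of F₀)))) = ringKrullDim (F₀ ⧸ g.asIdeal) from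
    FibDimLib.topologicalKrullDim_closure_prime g, hs] at hgd
  have hsn : s = n := by
    rw [show FlatMor.localDim (Spec (CommRingCat.of F₀)) Q₀ = (n : WithBot ℕ∞) from hdim] at hgd
    exact_mod_cast hgd.symm
  subst hsn
  let P₀ := Qb.comap (Ideal.Quotient.mk J)
  haveI : P₀.IsPrime := Ideal.IsPrime.comap _
  haveI : Qb.LiesOver P₀ := ⟨rfl⟩
  haveI hP₀p : P₀.LiesOver p := ⟨by
    show p = Ideal.comap (algebraMap R S) (Qb.comap (Ideal.Quotient.mk J))
    rw [Ideal.comap_comap, ← Ideal.Quotient.algebraMap_eq, ← IsScalarTower.algebraMap_eq]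
    exact Ideal.over_def Qb p⟩
  have htrd₀ : trd p P₀ = s := by
    rw [← hsQ]
    refine (trd_eq_of_surjective p P₀ Qb (surjective_residue_of_range _ fun c => ?_)).symm
    obtain ⟨c, rfl⟩ := Ideal.Quotient.mk_surjective c
    exact ⟨algebraMap S _ c, Ideal.ResidueField.map_algebraMap _ _ _ _ _⟩
  have hP₀q : P₀ ≤ q := by
    rw [← hQ₀]
    exact Ideal.comap_mono (Ideal.comap_mono ((PrimeSpectrum.le_iff_specializes _ _).2 hgQ))
  have hP₀N : (⟨P₀, inferInstance⟩ : PrimeSpectrum S) ∈ Module.support S N := by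
    let e := PrimeSpectrum.preimageEquivFiber R S ⟨p, inferInstance⟩
    let xP := e ⟨⟨P₀, inferInstance⟩, PrimeSpectrum.ext (Ideal.over_def P₀ p).symm⟩
    have h1 : xP.asIdeal.comap (Algebra.TensorProduct.includeRight : S →ₐ[R] p.Fiber S).toRingHom = P₀ :=
      congrArg (fun y => y.1.asIdeal) (e.symm_apply_apply _)
    have h2 : FlatCA.fiberIdeal p J ≤ xP.asIdeal := Ideal.map_le_iff_le_comap.2 (by
      rw [h1]
      exact (Ideal.mk_ker (I := J)).ge.trans (Ideal.comap_mono bot_le))
    have h3 := (mem_support_fiberMod_iff N p xP).1 ((hJs xP).1 h2)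
    convert! h3 using 1
    exact PrimeSpectrum.ext h1.symm
  -- going down to the étale neighbourhood
  obtain ⟨hetS, hq'q, -⟩ := E.etaleS
  obtain ⟨hetR, hp'p, hbR⟩ := E.etaleR
  haveI := hetS
  haveI := hetR
  haveI := hq'q
  haveI := hp'p
  haveI := E.finiteDC
  haveI := E.finiteG
  obtain ⟨P', hP'le, hP'prime, hP'over⟩ := Ideal.exists_ideal_le_liesOver_of_le (R := S) (S := E.S')
    (p := P₀) (q := q) E.q' hP₀q
  haveI := hP'prime
  haveI := hP'over
  haveI hP'p : P'.LiesOver p := Ideal.LiesOver.trans P' P₀ p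
  haveI hP'p' : P'.LiesOver E.p' := ⟨by
    refine (Algebra.QuasiFinite.eq_of_le_of_under_eq (R := R) _ E.p' ?_ ?_).symm
    · exact (Ideal.comap_mono hP'le).trans (Ideal.over_def E.q' E.p').ge
    · show (P'.comap (algebraMap E.R' E.S')).comap (algebraMap R E.R') = E.p'.comap (algebraMap R E.R')
      rw [Ideal.comap_comap, ← IsScalarTower.algebraMap_eq]
      exact (Ideal.over_def P' p).symm.trans (Ideal.over_def E.p' p)⟩
  haveI : Module.Finite E.S' E.N' := Module.Finite.equiv E.isBaseChange.equiv
  haveI : Module.Finite E.S' E.G := Module.Finite.equiv E.iso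
  have hP'N : (⟨P', inferInstance⟩ : PrimeSpectrum E.S') ∈ Module.support E.S' E.G := by
    rw [← E.iso.support_eq, ← E.isBaseChange.equiv.support_eq, Groth.Agent.S6284.result N]
    show PrimeSpectrum.comap (algebraMap S E.S') ⟨P', inferInstance⟩ ∈ Module.support S N
    convert! hP₀N using 1
    exact PrimeSpectrum.ext (Ideal.over_def P' P₀).symm
  rw [Module.support_eq_zeroLocus, PrimeSpectrum.mem_zeroLocus, SetLike.coe_subset_coe] at hP'N
  have hker : RingHom.ker (algebraMap E.S' E.C) ≤ P' := fun k hk => hP'N <| Module.mem_annihilator.2 fun m => by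
    rw [← algebraMap_smul E.C k m, RingHom.mem_ker.1 hk, zero_smul]
  let Pc : Ideal E.C := P'.map (algebraMap E.S' E.C)
  haveI : Pc.IsPrime := Ideal.map_isPrime_of_surjective E.surjC hker
  haveI hPcP' : Pc.LiesOver P' := ⟨by
    show P' = (P'.map (algebraMap E.S' E.C)).comap (algebraMap E.S' E.C)
    rw [Ideal.comap_map_of_surjective _ E.surjC, ← RingHom.ker_eq_comap_bot, sup_eq_left.2 hker]⟩
  haveI : Pc.LiesOver E.p' := Ideal.LiesOver.trans Pc P' E.p'
  let Pd : Ideal E.D := Pc.comap (algebraMap E.D E.C)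
  haveI : Pd.IsPrime := Ideal.IsPrime.comap _
  haveI : Pc.LiesOver Pd := ⟨rfl⟩
  haveI hPdp : Pd.LiesOver E.p' := ⟨by
    show E.p' = (Pc.comap (algebraMap E.D E.C)).comap (algebraMap E.R' E.D)
    rw [Ideal.comap_comap, ← IsScalarTower.algebraMap_eq]
    exact Ideal.over_def Pc E.p'⟩
  haveI : Module.Finite E.D E.G := Module.Finite.trans E.C E.G
  have hPd : (⟨Pd, inferInstance⟩ : PrimeSpectrum E.D) ∈ Module.support E.D E.G := by
    rw [Module.support_eq_zeroLocus, PrimeSpectrum.mem_zeroLocus, SetLike.coe_subset_coe]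
    intro d hd
    obtain ⟨k, hk⟩ := E.surjC (algebraMap E.D E.C d)
    show algebraMap E.D E.C d ∈ Pc
    rw [← hk]
    refine Ideal.mem_map_of_mem _ (hP'N (Module.mem_annihilator.2 fun m => ?_))
    rw [← algebraMap_smul E.C k m, hk, algebraMap_smul]
    exact Module.mem_annihilator.1 hd m
  -- the transcendence degree
  have hbR' : Function.Surjective (Ideal.ResidueField.map p E.p' (algebraMap R E.R') hp'p.over) := hbR.2
  have h1 : trd p P' = s := (trd_eq_of_algebraic p P₀ P' (isAlgebraic_residue P₀ P')).trans htrd₀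
  have h2 : trd E.p' P' = s := (trd_base p E.p' P' hbR').symm.trans h1
  have h3 : trd E.p' Pc = s := (trd_eq_of_surjective E.p' P' Pc (surjective_residue_of_range _ fun c => by
    obtain ⟨k, rfl⟩ := E.surjC c
    exact ⟨algebraMap E.S' _ k, Ideal.ResidueField.map_algebraMap _ _ _ _ _⟩)).trans h2
  have h4 : trd E.p' Pd = s := (trd_eq_of_algebraic E.p' Pd Pc (isAlgebraic_residue Pd Pc)).symm.trans h3
  -- it is the generic point
  suffices hh : Pd = P by
    convert! hPd using 1
    exact PrimeSpectrum.ext hh.symm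
  haveI : Algebra.Smooth E.R' E.D := smooth_of_smoothRelDim E.smooth
  haveI hgeom : GeometricallyIntegral (Spec.map (CommRingCat.ofHom (algebraMap E.R' E.D))) := E.geomInt
  have hirr : FlatCA.GeomIrredFibres E.R' E.D :=
    (inferInstance : GeometricallyIrreducible (Spec.map (CommRingCat.ofHom (algebraMap E.R' E.D))))
  haveI : (E.p'.map (algebraMap E.R' E.D)).IsPrime := hP ▸ ‹P.IsPrime›
  obtain ⟨hdom, hne⟩ := FlatInjLib.fibre_isDomain hirr E.p'
  haveI := hdom
  let e := PrimeSpectrum.preimageEquivFiber E.R' E.D ⟨E.p', inferInstance⟩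
  let xd := e ⟨⟨Pd, inferInstance⟩, PrimeSpectrum.ext (Ideal.over_def Pd E.p').symm⟩
  haveI := xd.isPrime
  have hxd : Pd = xd.asIdeal.comap (Algebra.TensorProduct.includeRight : E.D →ₐ[E.R'] E.p'.Fiber E.D).toRingHom :=
    (congrArg (fun y => y.1.asIdeal) (e.symm_apply_apply ⟨⟨Pd, inferInstance⟩, PrimeSpectrum.ext (Ideal.over_def Pd E.p').symm⟩)).symm
  obtain ⟨t, ht, htQ⟩ := exists_dim_eq_trd E.p' xd.asIdeal Pd hxd
  have hts : t = s := by exact_mod_cast htQ.symm.trans h4
  subst hts
  refine le_antisymm (fun d hd => ?_) ?_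
  · by_contra hdP
    have hd' : FibAssLib.incl E.D E.p' d ∈ xd.asIdeal := by
      rw [hxd] at hd
      exact hd
    have hlt := FlatInjLib.ringKrullDim_quotient_lt (FlatInjLib.ringKrullDim_fibre_le E.smooth E.p')
      (hne d (hP ▸ hdP))
    have hspan : Ideal.span {FibAssLib.incl E.D E.p' d} ≤ xd.asIdeal :=
      (Ideal.span_singleton_le_iff_mem _).2 hd'
    have hle : ringKrullDim (E.p'.Fiber E.D ⧸ xd.asIdeal) ≤
        ringKrullDim (E.p'.Fiber E.D ⧸ Ideal.span {FibAssLib.incl E.D E.p' d}) :=
      ringKrullDim_le_of_surjective (Ideal.Quotient.factor hspan) (Ideal.Quotient.factor_surjective hspan)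
    exact absurd (ht ▸ hle.trans_lt hlt) (lt_irrefl _)
  · rw [hP, Ideal.map_le_iff_le_comap]
    exact (Ideal.over_def Pd E.p').le

end DevissExLib
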