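import Groth.Prelude
import Groth.Agent.DevissExLib.Support
import Groth.Agent.DevissExLib.ChainLoc
import Mathlib

/-!
# The first step of a dévissage
-/

set_option autoImplicit false
set_option linter.all false

universe u

open CategoryTheory CategoryTheory.Limits AlgebraicGeometry
open scoped TensorProduct

namespace DevissExLib

/-- The standard basis at the generic point of a fibre of a module in the support. -/
theorem exists_basis_at {D G : Type u} [CommRing D] [AddCommGroup G] [Module D G] [Module.Finite D G]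
    (P : Ideal D) [P.IsPrime] (hP : (⟨P, inferInstance⟩ : PrimeSpectrum D) ∈ Module.support D G) :
    ∃ (r : ℕ) (v : Fin r → G), 0 < r ∧
      ∃ b : Module.Basis (Fin r) P.ResidueField (P.ResidueField ⊗[D] G), ∀ i, b i = 1 ⊗ₜ v i := by
  classical
  let K := P.ResidueField
  let S₀ : Set (K ⊗[D] G) := Set.range fun x : G => (1 : K) ⊗ₜ[D] x
  have hspan : Submodule.span K S₀ = ⊤ := by
    rw [eq_top_iff]
    intro z hz
    clear hz
    induction z using TensorProduct.induction_on with
    | zero => exact zero_mem _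
    | add a b ha hb => exact add_mem ha hb
    | tmul k x =>
      rw [show k ⊗ₜ[D] x = k • ((1 : K) ⊗ₜ[D] x) by rw [TensorProduct.smul_tmul', smul_eq_mul, mul_one]]
      exact Submodule.smul_mem _ k (Submodule.subset_span ⟨x, rfl⟩)
  obtain ⟨b, hb1, hb2, hb3⟩ := exists_linearIndependent K S₀
  haveI : Finite b := hb3.finite
  let bb : Module.Basis b K (K ⊗[D] G) := Module.Basis.mk hb3 (by rw [Subtype.range_coe, hb2, hspan])
  letI : Fintype b := Fintype.ofFinite b
  let ε := Fintype.equivFin b
  choose v hv using fun i : Fin (Fintype.card b) => hb1 (ε.symm i).2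
  refine ⟨Fintype.card b, v, ?_, bb.reindex ε, fun i => by simp [bb, ← hv i]⟩
  have hnt : Nontrivial (K ⊗[D] G) := (Module.mem_support_iff_nontrivial_residueField_tensorProduct _).1 hP
  by_contra hr
  haveI : IsEmpty (Fin (Fintype.card b)) := ⟨fun i => hr (Nat.lt_of_le_of_lt (Nat.zero_le _) i.2)⟩
  exact not_subsingleton _ (bb.reindex ε).repr.toEquiv.subsingleton

/-- The first step attached to an elementary dévissage. -/
theorem exists_step {R S : Type u} [CommRing R] [CommRing S] [Algebra R S] [Algebra.FiniteType R S]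
    {N : Type u} [AddCommGroup N] [Module S N] [Module R N] [IsScalarTower R S N] [Module.Finite S N]
    {p : Ideal R} [p.IsPrime] {q : Ideal S} [q.IsPrime] [q.LiesOver p] {n : ℕ}
    (x : PrimeSpectrum (p.Fiber S)) (hxq : x.asIdeal = FlatCA.fiberIdeal p q)
    (hx : x ∈ Module.support (p.Fiber S) (FlatCA.fiberMod p S N))
    (hn : FlatMor.localDim (Module.support (p.Fiber S) (FlatCA.fiberMod p S N)) ⟨x, hx⟩ = n)
    (E : FlatCA.ElemDevissage R S N p q n) :
    ∃ E0 : Step E.R' E.p' E.S' E.N' E.q', E0.n = n := by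
  haveI : Algebra.Smooth E.R' E.D := smooth_of_smoothRelDim E.smooth
  haveI hgeom : GeometricallyIntegral (Spec.map (CommRingCat.ofHom (algebraMap E.R' E.D))) := E.geomInt
  have hirr : FlatCA.GeomIrredFibres E.R' E.D :=
    (inferInstance : GeometricallyIrreducible (Spec.map (CommRingCat.ofHom (algebraMap E.R' E.D))))
  haveI := map_isPrime_of_geomIrred hirr E.p'
  haveI := E.finiteG
  haveI := E.finiteDC
  haveI : Module.Finite E.D E.G := Module.Finite.trans E.C E.G
  obtain ⟨r, v, hr, b, hb⟩ := exists_basis_at (E.p'.map (algebraMap E.R' E.D))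
    (generic_mem_support x hxq hx hn E _ rfl)
  exact ⟨{
    C := E.C, D := E.D, G := E.G
    comm := fun a => by rw [← IsScalarTower.algebraMap_apply, ← IsScalarTower.algebraMap_apply]
    r := r, rpos := hr, n := n, v := v, y := E.y, z := E.z
    zq := (Ideal.over_def E.z E.q').symm
    surj := E.surjC, fp := E.fpC, finDC := E.finiteDC, finCG := E.finiteG, iso := ⟨E.iso⟩
    smooth := E.smooth, geomIrred := hirr, pureTrans := E.pureTrans, uniq := E.uniq
    basis := fun P _ hP => by subst hP; exact ⟨b, hb⟩ }, rfl⟩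

variable {R : Type u} [CommRing R] {p : Ideal R} [p.IsPrime] {S : Type u} [CommRing S] [Algebra R S]
  {N : Type u} [AddCommGroup N] [Module S N] {q : Ideal S} (E : Step R p S N q)

theorem Step.finiteQ : Module.Finite E.D (E.G ⧸ E.M) :=
  haveI := E.finDC
  haveI := E.finCG
  haveI : Module.Finite E.D E.G := Module.Finite.trans E.C E.G
  inferInstance

/-- The cokernel of a step is killed by an element off the generic point of the fibre. -/
theorem Step.exists_kill : ∃ d : E.D, d ∉ p.map (algebraMap R E.D) ∧ ∀ x : E.G, d • x ∈ E.M := by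
  haveI : Algebra.Smooth R E.D := smooth_of_smoothRelDim E.smooth
  haveI := map_isPrime_of_geomIrred E.geomIrred p
  haveI := E.finiteQ
  let P := p.map (algebraMap R E.D)
  obtain ⟨b, hb⟩ := E.basis P rfl
  have hnot : (⟨P, inferInstance⟩ : PrimeSpectrum E.D) ∉ Module.support E.D (E.G ⧸ E.M) := fun hmem => by
    have hnt := (Module.mem_support_iff_nontrivial_residueField_tensorProduct _).1 hmem
    refine not_subsingleton (P.ResidueField ⊗[E.D] (E.G ⧸ E.M)) (subsingleton_of_forall_eq 0 fun z => ?_)
    obtain ⟨w, rfl⟩ := LinearMap.lTensor_surjective P.ResidueField (g := E.M.mkQ) (Submodule.mkQ_surjective _) z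
    show E.M.mkQ.baseChange P.ResidueField w = 0
    suffices h : E.M.mkQ.baseChange P.ResidueField = 0 by rw [h, LinearMap.zero_apply]
    refine b.ext fun i => ?_
    rw [hb, LinearMap.baseChange_tmul, LinearMap.zero_apply, Submodule.mkQ_apply,
      (Submodule.Quotient.mk_eq_zero E.M).2 (Submodule.subset_span ⟨i, rfl⟩), TensorProduct.tmul_zero]
  rw [Module.support_eq_zeroLocus, PrimeSpectrum.mem_zeroLocus, SetLike.coe_subset_coe,
    SetLike.not_le_iff_exists] at hnot
  obtain ⟨d, hd, hdP⟩ := hnot
  exact ⟨d, hdP, fun x => (Submodule.Quotient.mk_eq_zero E.M).1 (by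
    rw [Submodule.Quotient.mk_smul]; exact Module.mem_annihilator.1 hd _)⟩

/-- Either the cokernel vanishes at the point or the dimension drops. -/
theorem Step.kill_or_drop :
    (∃ d : E.D, d ∉ E.y ∧ ∀ x : E.G, d • x ∈ E.M) ∨
    ∃ (x : PrimeSpectrum (p.Fiber E.D)) (hx : x ∈ Module.support (p.Fiber E.D) (FlatCA.fiberMod p E.D (E.G ⧸ E.M))),
      x.asIdeal = FlatCA.fiberIdeal p E.y ∧ ∃ m : ℕ, m < E.n ∧
        FlatMor.localDim (Module.support (p.Fiber E.D) (FlatCA.fiberMod p E.D (E.G ⧸ E.M))) ⟨x, hx⟩ = m := by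
  classical
  haveI := E.finiteQ
  haveI : Algebra.Smooth R E.D := smooth_of_smoothRelDim E.smooth
  haveI := map_isPrime_of_geomIrred E.geomIrred p
  let Q := E.G ⧸ E.M
  by_cases hy : (⟨E.y, inferInstance⟩ : PrimeSpectrum E.D) ∈ Module.support E.D Q
  swap
  · rw [Module.support_eq_zeroLocus, PrimeSpectrum.mem_zeroLocus, SetLike.coe_subset_coe,
      SetLike.not_le_iff_exists] at hy
    obtain ⟨d, hd, hdy⟩ := hy
    exact Or.inl ⟨d, hdy, fun x => (Submodule.Quotient.mk_eq_zero E.M).1 (by
      rw [Submodule.Quotient.mk_smul]; exact Module.mem_annihilator.1 hd _)⟩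
  right
  let F := p.Fiber E.D
  let e := PrimeSpectrum.preimageEquivFiber R E.D ⟨p, inferInstance⟩
  let x : PrimeSpectrum F := e ⟨⟨E.y, inferInstance⟩, PrimeSpectrum.ext (Ideal.over_def E.y p).symm⟩
  let ι : E.D →ₐ[R] F := Algebra.TensorProduct.includeRight
  have hxy : x.asIdeal.comap ι.toRingHom = E.y := congrArg (fun w => w.1.asIdeal) (e.symm_apply_apply _)
  have hxf : x.asIdeal = FlatCA.fiberIdeal p E.y := by
    refine le_antisymm (fun f hf => ?_) (Ideal.map_le_iff_le_comap.2 hxy.ge)
    obtain ⟨t, ht, s, hs⟩ := FibAssLib.exists_incl_eq p f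
    have hs' : s ∈ E.y := by
      rw [← hxy]
      show FibAssLib.incl E.D p s ∈ x.asIdeal
      rw [← hs]
      exact x.asIdeal.mul_mem_left _ hf
    refine (Ideal.unit_mul_mem_iff_mem _ (FibAssLib.isUnit_incl p ht)).1 ?_
    rw [hs]
    exact Ideal.mem_map_of_mem _ hs'
  have hx : x ∈ Module.support F (FlatCA.fiberMod p E.D Q) :=
    (mem_support_fiberMod_iff Q p x).2 (by convert! hy using 1; exact PrimeSpectrum.ext hxy)
  refine ⟨x, hx, hxf, ?_⟩
  haveI : Module.Finite F (FlatCA.fiberMod p E.D Q) := by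
    letI : Algebra E.D F := Algebra.TensorProduct.rightAlgebra
    exact Module.Finite.base_change E.D F Q
  let I : Ideal F := Module.annihilator F (FlatCA.fiberMod p E.D Q)
  letI : CommRing (F ⧸ I) := Ideal.Quotient.commRing I
  let c := PrimeSpectrum.comap (R := F) (S := F ⧸ I) (Ideal.Quotient.mk I)
  have hc : Topology.IsEmbedding c :=
    (PrimeSpectrum.isClosedEmbedding_comap_of_surjective _ _ Ideal.Quotient.mk_surjective).isEmbedding
  have hrange : Set.range c = Module.support F (FlatCA.fiberMod p E.D Q) := by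
    rw [Module.support_eq_zeroLocus, range_comap_of_surjective _ _ Ideal.Quotient.mk_surjective, Ideal.mk_ker]
  obtain ⟨x₀, hx₀⟩ : x ∈ Set.range c := hrange ▸ hx
  let h := hc.toHomeomorph.trans (Homeomorph.setCongr hrange)
  have hh : h x₀ = ⟨x, hx⟩ := Subtype.ext hx₀
  rw [← hh, FibDimLib.localDim_eq_of_isOpenEmbedding h.isOpenEmbedding x₀] at *
  let str := Spec.map (CommRingCat.ofHom (algebraMap p.ResidueField (F ⧸ I)))
  haveI : LocallyOfFiniteType str := by
    rw [HasRingHomProperty.Spec_iff (P := @LocallyOfFiniteType)]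
    exact RingHom.finiteType_algebraMap.mpr inferInstance
  obtain ⟨m, hm⟩ := FibDimLib.exists_localDim_eq_nat str (x₀ : Spec (CommRingCat.of (F ⧸ I)))
  refine ⟨m, ?_, ?_⟩
  · obtain ⟨d, hdP, hd⟩ := E.exists_kill
    obtain ⟨hdom, hne⟩ := FlatInjLib.fibre_isDomain E.geomIrred p
    haveI := hdom
    have hlt := FlatInjLib.ringKrullDim_quotient_lt (FlatInjLib.ringKrullDim_fibre_le E.smooth p) (hne d hdP)
    letI : Module R Q := Module.compHom Q (algebraMap R E.D)
    haveI : IsScalarTower R E.D Q := IsScalarTower.of_algebraMap_smul fun _ _ => rfl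
    have hspan : Ideal.span {FibAssLib.incl E.D p d} ≤ I :=
      (Ideal.span_singleton_le_iff_mem _).2 (Module.mem_annihilator.2 (FlatInjLib.incl_smul_eq_zero p d fun w => by
        obtain ⟨g, rfl⟩ := Submodule.Quotient.mk_surjective E.M w
        rw [← Submodule.Quotient.mk_smul, Submodule.Quotient.mk_eq_zero]
        exact hd g))
    have hle : ringKrullDim (F ⧸ I) ≤ ringKrullDim (F ⧸ Ideal.span {FibAssLib.incl E.D p d}) :=
      ringKrullDim_le_of_surjective (Ideal.Quotient.factor hspan) (Ideal.Quotient.factor_surjective hspan)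
    have h1 : (m : WithBot ℕ∞) ≤ ringKrullDim (F ⧸ I) := by
      rw [← hm, ← PrimeSpectrum.topologicalKrullDim_eq_ringKrullDim]
      exact FibDimLib.localDim_le _
    exact_mod_cast (h1.trans hle).trans_lt hlt
  · exact hm

end DevissExLib
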