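import Groth.Prelude
import Groth.Agent.DevissExLib.StepExist
import Groth.Agent.DevissExLib.GeomIrredOpen
import Groth.Agent.DevissExLib.Lift
import Mathlib

/-!
# Existence of complete dévissages after étale localisation
-/

set_option autoImplicit false
set_option linter.all false

universe u

open CategoryTheory CategoryTheory.Limits AlgebraicGeometry
open scoped TensorProduct

namespace DevissExLib

/-- Residue surjectivity composes. -/
theorem surjective_mapₐ_comp {A B C : Type u} [CommRing A] [CommRing B] [CommRing C] [Algebra A B] [Algebra B C]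
    [Algebra A C] [IsScalarTower A B C] (a : Ideal A) (b : Ideal B) (c : Ideal C) [a.IsPrime] [b.IsPrime] [c.IsPrime]
    [hab : b.LiesOver a] [hbc : c.LiesOver b] [hac : c.LiesOver a]
    (h1 : Function.Surjective (Ideal.ResidueField.mapₐ a b (Algebra.ofId A B) hab.over))
    (h2 : Function.Surjective (Ideal.ResidueField.mapₐ b c (Algebra.ofId B C) hbc.over)) :
    Function.Surjective (Ideal.ResidueField.mapₐ a c (Algebra.ofId A C) hac.over) := by
  intro z
  obtain ⟨w, rfl⟩ := h2 z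
  obtain ⟨v, rfl⟩ := h1 w
  refine ⟨v, ?_⟩
  have hext : (Ideal.ResidueField.mapₐ a c (Algebra.ofId A C) hac.over).toRingHom =
      (Ideal.ResidueField.mapₐ b c (Algebra.ofId B C) hbc.over).toRingHom.comp
        (Ideal.ResidueField.mapₐ a b (Algebra.ofId A B) hab.over).toRingHom :=
    Ideal.ResidueField.ringHom_ext (RingHom.ext fun r => by
      simp only [RingHom.comp_apply, AlgHom.toRingHom_eq_coe, RingHom.coe_coe, AlgHom.commutes]
      rw [IsScalarTower.algebraMap_apply A B b.ResidueField, AlgHom.commutes,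
        IsScalarTower.algebraMap_apply A C c.ResidueField, IsScalarTower.algebraMap_apply B C c.ResidueField,
        ← IsScalarTower.algebraMap_apply A B C])
  exact RingHom.congr_fun hext v

/-- The head of a dévissage over good étale neighbourhoods. -/
theorem exists_head {R : Type u} [CommRing R] {p : Ideal R} [p.IsPrime] {S : Type u} [CommRing S] [Algebra R S]
    {N : Type u} [AddCommGroup N] [Module S N] {q : Ideal S} [q.IsPrime] (E : Step R p S N q)
    (R₂ : Type u) [CommRing R₂] [Algebra R R₂] [Algebra.Etale R R₂] (P₂ : Ideal R₂) [P₂.IsPrime] [P₂.LiesOver p]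
    (hresp : Function.Surjective (Ideal.ResidueField.mapₐ p P₂ (Algebra.ofId R R₂) (Ideal.over_def P₂ p)))
    (D₂ : Type u) [CommRing D₂] [Algebra R₂ D₂] [Algebra E.D D₂] [Algebra R D₂] [IsScalarTower R R₂ D₂]
    [IsScalarTower R E.D D₂] [Algebra.Etale E.D D₂] (y₂ : Ideal D₂) [y₂.IsPrime] [y₂.LiesOver P₂]
    [y₂.LiesOver E.y]
    (hresy : Function.Surjective (Ideal.ResidueField.mapₐ E.y y₂ (Algebra.ofId E.D D₂) (Ideal.over_def y₂ E.y)))
    (hsm : FlatCA.SmoothRelDim E.n R₂ D₂) (hgi : FlatCA.GeomIrredFibres R₂ D₂)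
    (htail : (∀ x : E.G, ∃ d : E.D, IsUnit (algebraMap E.D D₂ d) ∧ d • x ∈ E.M) ∨
      ∀ (T : Type u) [AddCommGroup T] [Module D₂ T] [Module E.D T] [IsScalarTower E.D D₂ T]
      (g : (E.G ⧸ E.M) →ₗ[E.D] T), IsBaseChange D₂ g → Dev R₂ P₂ D₂ T y₂) :
    ∃ (S₂ : Type u) (_ : CommRing S₂) (_ : Algebra S S₂) (_ : Algebra R₂ S₂) (_ : Algebra R S₂)
      (_ : IsScalarTower R R₂ S₂) (_ : IsScalarTower R S S₂) (q₂ : Ideal S₂) (_ : q₂.IsPrime),
      FlatCA.IsEtaleNhd S S₂ q q₂ ∧ q₂.LiesOver P₂ ∧ Dev R₂ P₂ S₂ (S₂ ⊗[S] N) q₂ := by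
  let C₂ := D₂ ⊗[E.D] E.C
  letI algCC : Algebra E.C C₂ := Algebra.TensorProduct.rightAlgebra
  haveI hpD : Algebra.IsPushout E.D D₂ E.C C₂ := inferInstanceAs (Algebra.IsPushout E.D D₂ E.C (D₂ ⊗[E.D] E.C))
  haveI : IsScalarTower E.D E.C C₂ := IsScalarTower.of_algebraMap_eq fun a =>
    ((Algebra.TensorProduct.includeRight : E.C →ₐ[E.D] C₂).commutes a).symm
  haveI : Algebra.Etale E.C C₂ := RingHom.etale_algebraMap.1
    (RingHom.Etale.isStableUnderBaseChange E.D D₂ E.C C₂ (RingHom.etale_algebraMap.2 inferInstance))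
  haveI : IsScalarTower R₂ D₂ C₂ := inferInstanceAs (IsScalarTower R₂ D₂ (D₂ ⊗[E.D] E.C))
  obtain ⟨S₂, _, _, _, _, _, _, _, _, _, _, hetS, hpS, hcomm⟩ :=
    exists_etale_lift (R := R) (R'' := R₂) (S := S) (C := E.C) (C'' := C₂) E.surj E.fp (fun a => by
      rw [E.comm, ← IsScalarTower.algebraMap_apply E.D E.C C₂, IsScalarTower.algebraMap_apply R₂ D₂ C₂,
        ← IsScalarTower.algebraMap_apply R R₂ D₂, IsScalarTower.algebraMap_apply R E.D D₂,
        ← IsScalarTower.algebraMap_apply E.D D₂ C₂])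
  haveI := hetS
  haveI := hpS
  have hsq : IsPullback (Spec.map (CommRingCat.ofHom (algebraMap D₂ C₂))) (Spec.map (CommRingCat.ofHom (algebraMap E.C C₂)))
      (Spec.map (CommRingCat.ofHom (algebraMap E.D D₂))) (Spec.map (CommRingCat.ofHom (algebraMap E.D E.C))) :=
    isPullback_SpecMap_of_isPushout _ _ _ _ (CommRingCat.isPushout_iff_isPushout.mpr hpD)
  obtain ⟨zz, hzy, hzz⟩ := Scheme.exists_preimage_of_isPullback hsq
    (⟨y₂, inferInstance⟩ : PrimeSpectrum D₂) (⟨E.z, inferInstance⟩ : PrimeSpectrum E.C)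
    (PrimeSpectrum.ext ((Ideal.over_def y₂ E.y).symm.trans (Ideal.over_def E.z E.y)))
  let z₂ := zz.asIdeal
  haveI : z₂.IsPrime := zz.isPrime
  haveI hz₂y : z₂.LiesOver y₂ := ⟨(congrArg PrimeSpectrum.asIdeal hzy).symm⟩
  have hz₂z : z₂.comap (algebraMap E.C C₂) = E.z := congrArg PrimeSpectrum.asIdeal hzz
  let q₂ := z₂.comap (algebraMap S₂ C₂)
  haveI : q₂.IsPrime := Ideal.IsPrime.comap _
  haveI hq₂q : q₂.LiesOver q := ⟨by
    show q = (z₂.comap (algebraMap S₂ C₂)).comap (algebraMap S S₂)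
    rw [Ideal.comap_comap, ← IsScalarTower.algebraMap_eq, IsScalarTower.algebraMap_eq S E.C C₂,
      ← Ideal.comap_comap, hz₂z]
    exact E.zq.symm⟩
  haveI hq₂P : q₂.LiesOver P₂ := ⟨by
    show P₂ = (z₂.comap (algebraMap S₂ C₂)).comap (algebraMap R₂ S₂)
    rw [Ideal.comap_comap, show (algebraMap S₂ C₂).comp (algebraMap R₂ S₂) =
      (algebraMap D₂ C₂).comp (algebraMap R₂ D₂) from RingHom.ext fun a => by
        rw [RingHom.comp_apply, RingHom.comp_apply, hcomm, ← IsScalarTower.algebraMap_apply],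
      ← Ideal.comap_comap]
    exact (Ideal.over_def y₂ P₂).trans (congrArg (Ideal.comap _) hz₂y.over)⟩
  have hnS : FlatCA.IsEtaleNhd S S₂ q q₂ := by
    refine ⟨inferInstance, hq₂q, bijective_mapₐ_of_surjective hq₂q fun w => ?_⟩
    let μ := Ideal.ResidueField.map q₂ z₂ (algebraMap S₂ C₂) rfl
    have hsurjz : Function.Surjective (Ideal.ResidueField.map E.z z₂ (algebraMap E.C C₂) hz₂z.symm) :=
      surjective_residue_of_range _ fun a =>
        mem_range_residue_tensor E.y y₂ E.z hresy z₂ hz₂y.over.symm hz₂z.symm a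
    have hsurjq : Function.Surjective (Ideal.ResidueField.map q E.z (algebraMap S E.C) E.zq.symm) :=
      surjective_residue_of_range _ fun c => by
        obtain ⟨s, rfl⟩ := E.surj c
        exact ⟨algebraMap S _ s, Ideal.ResidueField.map_algebraMap _ _ _ _ _⟩
    obtain ⟨w₁, hw₁⟩ := hsurjz (μ w)
    obtain ⟨w₀, hw₀⟩ := hsurjq w₁
    refine ⟨w₀, μ.injective ?_⟩
    have hext : μ.comp (Ideal.ResidueField.mapₐ q q₂ (Algebra.ofId S S₂) hq₂q.over).toRingHom =
        (Ideal.ResidueField.map E.z z₂ (algebraMap E.C C₂) hz₂z.symm).comp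
          (Ideal.ResidueField.map q E.z (algebraMap S E.C) E.zq.symm) :=
      Ideal.ResidueField.ringHom_ext (RingHom.ext fun s => by
        simp only [RingHom.comp_apply, AlgHom.toRingHom_eq_coe, RingHom.coe_coe, AlgHom.commutes,
          Ideal.ResidueField.map_algebraMap, μ]
        rw [IsScalarTower.algebraMap_apply S S₂ q₂.ResidueField, Ideal.ResidueField.map_algebraMap,
          ← IsScalarTower.algebraMap_apply S S₂ C₂, ← IsScalarTower.algebraMap_apply S E.C C₂])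
    have h := RingHom.congr_fun hext w₀
    simp only [RingHom.comp_apply, AlgHom.toRingHom_eq_coe, RingHom.coe_coe] at h
    rw [h, hw₀, hw₁]
  refine ⟨S₂, inferInstance, inferInstance, inferInstance, inferInstance, inferInstance, inferInstance, q₂,
    inferInstance, hnS, hq₂P, ?_⟩
  refine E.dev_baseChange (R' := R₂) (S' := S₂) (D' := D₂) (C' := C₂) P₂ hresp ?_ y₂ hresy hsm hgi q₂ ?_
    (TensorProduct.mk S S₂ N 1) (TensorProduct.isBaseChange S N S₂) htail
  · intro a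
    rw [hcomm, ← IsScalarTower.algebraMap_apply]
  · intro z' _ hz' hz'z
    rw [eq_of_comap_eq (C₁ := E.C) E.y y₂ hresy z' z₂ hz' hz₂y (hz'z.trans hz₂z.symm)]

/-- A tail becomes usable after a further étale localisation. -/
theorem exists_good_nhd {R D : Type u} [CommRing R] [CommRing D] [Algebra R D] {n : ℕ}
    (hsm : FlatCA.SmoothRelDim n R D) {p : Ideal R} [p.IsPrime] {y : Ideal D} [y.IsPrime] [y.LiesOver p]
    (hy : FlatCA.PurelyTranscendental p y) (Q : Type u) [AddCommGroup Q] [Module D Q]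
    (R' : Type u) [CommRing R'] [Algebra R R'] (p' : Ideal R') [p'.IsPrime] (hR' : FlatCA.IsEtaleNhd R R' p p')
    (D' : Type u) [CommRing D'] [Algebra D D'] [Algebra R' D'] [Algebra R D'] [IsScalarTower R R' D']
    [IsScalarTower R D D'] (y' : Ideal D') [y'.IsPrime] (hD' : FlatCA.IsEtaleNhd D D' y y') [y'.LiesOver p']
    (hdev : Dev R' p' D' (D' ⊗[D] Q) y') :
    ∃ (R₂ : Type u) (_ : CommRing R₂) (_ : Algebra R R₂) (P₂ : Ideal R₂) (_ : P₂.IsPrime),
      FlatCA.IsEtaleNhd R R₂ p P₂ ∧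
    ∃ (D₂ : Type u) (_ : CommRing D₂) (_ : Algebra D D₂) (_ : Algebra R₂ D₂) (_ : Algebra R D₂)
      (_ : IsScalarTower R R₂ D₂) (_ : IsScalarTower R D D₂) (y₂ : Ideal D₂) (_ : y₂.IsPrime),
      FlatCA.IsEtaleNhd D D₂ y y₂ ∧ y₂.LiesOver P₂ ∧ FlatCA.SmoothRelDim n R₂ D₂ ∧
      FlatCA.GeomIrredFibres R₂ D₂ ∧
      ∀ (T : Type u) [AddCommGroup T] [Module D₂ T] [Module D T] [IsScalarTower D D₂ T]
        (g : Q →ₗ[D] T), IsBaseChange D₂ g → Dev R₂ P₂ D₂ T y₂ := by
  classical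
  obtain ⟨hetR, hp'p, hbR⟩ := hR'
  obtain ⟨hetD, hy'y, hbD⟩ := hD'
  haveI := hetR
  haveI := hetD
  haveI := hp'p
  haveI := hy'y
  -- smoothness over the new base
  let M := R' ⊗[R] D'
  let π : M →ₐ[R'] D' := Algebra.TensorProduct.lift (Algebra.ofId R' D') (AlgHom.id R D') (fun _ _ => Commute.all _ _)
  letI algD'M : Algebra D' M := Algebra.TensorProduct.rightAlgebra
  letI algMD' : Algebra M D' := π.toRingHom.toAlgebra
  haveI : IsScalarTower R' M D' := IsScalarTower.of_algebraMap_eq fun a => (π.commutes a).symm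
  haveI : IsScalarTower D' M D' := IsScalarTower.of_algebraMap_eq fun a => by
    show a = π ((1 : R') ⊗ₜ[R] a)
    rw [Algebra.TensorProduct.lift_tmul, map_one, one_mul]
    rfl
  haveI : Algebra.IsPushout R R' D' M := inferInstanceAs (Algebra.IsPushout R R' D' (R' ⊗[R] D'))
  haveI : Algebra.Etale D' M := RingHom.etale_algebraMap.1
    (RingHom.Etale.isStableUnderBaseChange R R' D' M (RingHom.etale_algebraMap.2 inferInstance))
  haveI : Algebra.FormallyEtale M D' := Algebra.FormallyEtale.of_restrictScalars (R := D')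
  haveI : Algebra.FinitePresentation M D' :=
    Algebra.FinitePresentation.of_restrict_scalars_finitePresentation D' M D'
  haveI : Algebra.Etale M D' := ⟨inferInstance, inferInstance⟩
  have hsm' : FlatCA.SmoothRelDim n R' D' :=
    smoothRelDim_comp_etale (S := M) n (smoothRelDim_tensor R' (smoothRelDim_comp_etale (S := D) n hsm))
  haveI : Algebra.Smooth R' D' := smooth_of_smoothRelDim hsm'
  have hy' : FlatCA.PurelyTranscendental p' y' :=
    purelyTranscendental_of_bijective (S := D) p p' y y' hbR.2 hbD.2 hy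
  obtain ⟨R₁, _, _, P, _, hnR₁, y₁, U, V, hyU, hPV, hy₁P, hy₁y, hirr⟩ := exists_geomIrred_open p' y' hy'
  obtain ⟨hetR₁, hPp', hbR₁⟩ := hnR₁
  haveI := hetR₁
  haveI := hPp'
  let D₁ := R₁ ⊗[R'] D'
  letI algD'D₁ : Algebra D' D₁ := Algebra.TensorProduct.rightAlgebra
  haveI : Algebra.IsPushout R' R₁ D' D₁ := inferInstanceAs (Algebra.IsPushout R' R₁ D' (R₁ ⊗[R'] D'))
  haveI : IsScalarTower R' D' D₁ := IsScalarTower.of_algebraMap_eq fun a =>
    ((Algebra.TensorProduct.includeRight : D' →ₐ[R'] D₁).commutes a).symm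
  haveI : Algebra.Etale D' D₁ := RingHom.etale_algebraMap.1
    (RingHom.Etale.isStableUnderBaseChange R' R₁ D' D₁ (RingHom.etale_algebraMap.2 inferInstance))
  haveI := y₁.isPrime
  haveI : y₁.asIdeal.LiesOver P := ⟨hy₁P.symm⟩
  haveI : y₁.asIdeal.LiesOver y' := ⟨hy₁y.symm⟩
  have hdev₁ : Dev R₁ P D₁ (D₁ ⊗[D'] (D' ⊗[D] Q)) y₁.asIdeal :=
    hdev.baseChange P ⟨hetR₁, hPp', hbR₁⟩ D₁ y₁.asIdeal hy₁P hy₁y
      (TensorProduct.mk D' D₁ (D' ⊗[D] Q) 1) (TensorProduct.isBaseChange D' (D' ⊗[D] Q) D₁)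
  let f₁ := Spec.map (CommRingCat.ofHom (algebraMap R₁ D₁))
  obtain ⟨_, ⟨w, rfl⟩, hwy, hwU⟩ := PrimeSpectrum.isTopologicalBasis_basic_opens.exists_subset_of_mem_open
    (show y₁ ∈ (U : Set _) ∩ f₁ ⁻¹' V from
      ⟨hyU, by
        show f₁ y₁ ∈ V
        rw [show f₁ y₁ = (⟨P, inferInstance⟩ : PrimeSpectrum R₁) from PrimeSpectrum.ext hy₁P]
        exact hPV⟩)
    (U.isOpen.inter (V.isOpen.preimage f₁.continuous))
  obtain ⟨h', hwh', hh'y, g₁, hg₁, hloc⟩ := hdev₁.exists_localize w hwy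
  have hh'U : ∀ x : PrimeSpectrum D₁, h' ∉ x.asIdeal → x ∈ U ∧ f₁ x ∈ V := fun x hx =>
    hwU (show x ∈ PrimeSpectrum.basicOpen w from fun hm => hx (Ideal.mem_of_dvd _ hwh' hm))
  haveI : Algebra.Smooth R₁ D₁ := inferInstanceAs (Algebra.Smooth R₁ (R₁ ⊗[R'] D'))
  haveI : Smooth f₁ := by
    rw [HasRingHomProperty.Spec_iff (P := @Smooth)]
    exact RingHom.smooth_algebraMap.2 inferInstance
  obtain ⟨_, ⟨g₀, rfl⟩, hg₀P, hg₀sub⟩ := PrimeSpectrum.isTopologicalBasis_basic_opens.exists_subset_of_mem_open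
    (show (⟨P, inferInstance⟩ : PrimeSpectrum R₁) ∈ f₁ '' (PrimeSpectrum.basicOpen h' : Set (PrimeSpectrum D₁)) from
      ⟨y₁, hh'y, PrimeSpectrum.ext hy₁P⟩)
    (f₁.isOpenMap _ (PrimeSpectrum.basicOpen h').isOpen)
  let g₂ := g₁ * g₀
  have hg₂P : g₂ ∉ P := fun hm => ((inferInstance : P.IsPrime).mem_or_mem hm).elim hg₁ hg₀P
  let R₂ := Localization.Away g₂
  let hg := h' * algebraMap R₁ D₁ g₂
  let D₂ := Localization.Away hg
  letI : Algebra R₂ D₂ := (IsLocalization.Away.lift g₂ (g := algebraMap R₁ D₂) (by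
    rw [IsScalarTower.algebraMap_apply R₁ D₁ D₂]
    exact isUnit_of_dvd_unit (map_dvd _ (dvd_mul_left _ h')) (IsLocalization.Away.algebraMap_isUnit hg))).toAlgebra
  haveI : IsScalarTower R₁ R₂ D₂ := IsScalarTower.of_algebraMap_eq fun a =>
    (IsLocalization.Away.lift_eq g₂ _ a).symm
  haveI : Algebra.Etale R₁ R₂ := Algebra.Etale.of_isLocalizationAway g₂
  haveI : Algebra.Etale D₁ D₂ := Algebra.Etale.of_isLocalizationAway hg
  have hPd : Disjoint (Submonoid.powers g₂ : Set R₁) (P : Set R₁) :=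
    (Ideal.disjoint_powers_iff_notMem_of_isPrime _).2 hg₂P
  let P₂ := P.map (algebraMap R₁ R₂)
  haveI : P₂.IsPrime := IsLocalization.isPrime_of_isPrime_disjoint _ R₂ P ‹_› hPd
  have hP₂P : P₂.comap (algebraMap R₁ R₂) = P := IsLocalization.comap_map_of_isPrime_disjoint _ R₂ ‹_› hPd
  haveI : P₂.LiesOver P := ⟨hP₂P.symm⟩
  have hhgy : hg ∉ y₁.asIdeal := fun hm => (y₁.isPrime.mem_or_mem hm).elim hh'y fun h1 =>
    hg₂P (hy₁P.le h1)
  have hyd : Disjoint (Submonoid.powers hg : Set D₁) (y₁.asIdeal : Set D₁) :=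
    (Ideal.disjoint_powers_iff_notMem_of_isPrime _).2 hhgy
  let y₂ := y₁.asIdeal.map (algebraMap D₁ D₂)
  haveI : y₂.IsPrime := IsLocalization.isPrime_of_isPrime_disjoint _ D₂ _ y₁.isPrime hyd
  have hy₂y₁ : y₂.comap (algebraMap D₁ D₂) = y₁.asIdeal :=
    IsLocalization.comap_map_of_isPrime_disjoint _ D₂ y₁.isPrime hyd
  haveI : y₂.LiesOver y₁.asIdeal := ⟨hy₂y₁.symm⟩
  haveI hy₂P₂ : y₂.LiesOver P₂ := ⟨(IsLocalization.orderEmbedding (Submonoid.powers g₂) R₂).injective (by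
    show P₂.comap (algebraMap R₁ R₂) = (y₂.comap (algebraMap R₂ D₂)).comap (algebraMap R₁ R₂)
    rw [Ideal.comap_comap, ← IsScalarTower.algebraMap_eq, IsScalarTower.algebraMap_eq R₁ D₁ D₂,
      ← Ideal.comap_comap, hy₂y₁, hP₂P, hy₁P])⟩
  have hgi : FlatCA.GeomIrredFibres R₂ D₂ := by
    refine geomIrred_of_open U V hirr g₂ h' (fun t ht => ?_) (fun x hx => (hh'U x hx).1) (fun t ht => ?_) R₂ D₂
    all_goals
      obtain ⟨x, hx, hxt⟩ := hg₀sub (show t ∈ PrimeSpectrum.basicOpen g₀ from fun hm => ht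
        (Ideal.mem_of_dvd _ (dvd_mul_left g₀ g₁) hm))
    · rw [← hxt]; exact (hh'U x hx).2
    · exact ⟨x, congrArg PrimeSpectrum.asIdeal hxt, hx⟩
  have hsm₂ : FlatCA.SmoothRelDim n R₂ D₂ :=
    smoothRelDim_localization (smoothRelDim_tensor R₁ hsm') g₂ R₂ D₂
  -- assemble the towers
  letI algRR₁ : Algebra R R₁ := ((algebraMap R' R₁).comp (algebraMap R R')).toAlgebra
  haveI : IsScalarTower R R' R₁ := IsScalarTower.of_algebraMap_eq fun _ => rfl
  haveI : IsScalarTower R R₁ R₂ := inferInstance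
  letI algDD₁ : Algebra D D₁ := ((algebraMap D' D₁).comp (algebraMap D D')).toAlgebra
  haveI : IsScalarTower D D' D₁ := IsScalarTower.of_algebraMap_eq fun _ => rfl
  haveI : IsScalarTower D D₁ D₂ := inferInstance
  haveI : IsScalarTower R R₂ D₂ := IsScalarTower.of_algebraMap_eq (R := R) (S := R₂) (A := D₂) fun a => by
    rw [IsScalarTower.algebraMap_apply R R₁ R₂, ← IsScalarTower.algebraMap_apply R₁ R₂ D₂,
      IsScalarTower.algebraMap_apply R₁ D₁ D₂, IsScalarTower.algebraMap_apply R D₁ D₂,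
      IsScalarTower.algebraMap_apply R R₁ D₁]
  haveI : IsScalarTower R D D₂ := IsScalarTower.of_algebraMap_eq (R := R) (S := D) (A := D₂) fun a => by
    rw [IsScalarTower.algebraMap_apply D D₁ D₂, IsScalarTower.algebraMap_apply D D' D₁,
      ← IsScalarTower.algebraMap_apply R D D', IsScalarTower.algebraMap_apply R R' D',
      ← IsScalarTower.algebraMap_apply R' D' D₁, IsScalarTower.algebraMap_apply R' R₁ D₁,
      ← IsScalarTower.algebraMap_apply R R' R₁, ← IsScalarTower.algebraMap_apply R R₁ D₁,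
      ← IsScalarTower.algebraMap_apply R D₁ D₂]
  have hnR₂ : FlatCA.IsEtaleNhd R R₂ p P₂ :=
    isEtaleNhd_trans (isEtaleNhd_trans ⟨hetR, hp'p, hbR⟩ ⟨hetR₁, hPp', hbR₁⟩)
      ⟨inferInstance, inferInstance,
        (RingHom.surjectiveOnStalks_of_isLocalization (Submonoid.powers g₂) R₂).residueFieldMap_bijective _ _ _⟩
  have hnD₂ : FlatCA.IsEtaleNhd D D₂ y y₂ := by
    refine isEtaleNhd_trans (isEtaleNhd_trans ⟨hetD, hy'y, hbD⟩ (R'' := D₁) (p'' := y₁.asIdeal)
      ⟨inferInstance, inferInstance, RingHom.injective _, surjective_residue_of_range _ fun a => ?_⟩)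
      ⟨inferInstance, inferInstance,
        (RingHom.surjectiveOnStalks_of_isLocalization (Submonoid.powers hg) D₂).residueFieldMap_bijective _ _ _⟩
    exact mem_range_residue_tensor p' P y' hbR₁.2 y₁.asIdeal hy₁P hy₁y.symm a
  refine ⟨R₂, inferInstance, inferInstance, P₂, inferInstance, hnR₂, D₂, inferInstance, inferInstance, inferInstance, inferInstance,
    inferInstance, inferInstance, y₂, inferInstance, hnD₂, hy₂P₂, hsm₂, hgi, ?_⟩
  intro T _ _ _ _ g hg'
  let T₁ := D₁ ⊗[D'] (D' ⊗[D] Q)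
  have hT₂ : Dev R₂ P₂ D₂ (D₂ ⊗[D₁] T₁) y₂ :=
    hloc g₂ (dvd_mul_right g₁ g₀) hg₂P R₂ P₂ hP₂P D₂ y₂ hy₂y₁ _ (TensorProduct.mk D₁ D₂ T₁ 1)
      (TensorProduct.isBaseChange D₁ T₁ D₂)
  have h01 := (TensorProduct.isBaseChange D Q D').comp (TensorProduct.isBaseChange D' (D' ⊗[D] Q) D₁)
  have h02 := h01.comp (TensorProduct.isBaseChange D₁ T₁ D₂)
  exact hT₂.congr (h02.equiv.symm.trans hg'.equiv)

/-- Complete dévissages exist after étale localisation. -/
theorem exists_dev (n : ℕ) : ∀ {R S : Type u} [CommRing R] [CommRing S] [Algebra R S] [Algebra.FiniteType R S]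
    (N : Type u) [AddCommGroup N] [Module S N] [Module R N] [IsScalarTower R S N] [Module.Finite S N]
    (p : Ideal R) [p.IsPrime] (q : Ideal S) [q.IsPrime] [q.LiesOver p]
    (x : PrimeSpectrum (p.Fiber S)) (hxq : x.asIdeal = FlatCA.fiberIdeal p q)
    (hx : x ∈ Module.support (p.Fiber S) (FlatCA.fiberMod p S N))
    (hn : FlatMor.localDim (Module.support (p.Fiber S) (FlatCA.fiberMod p S N)) ⟨x, hx⟩ = n),
    ∃ (R' S' : Type u) (_ : CommRing R') (_ : CommRing S') (_ : Algebra R R') (_ : Algebra S S') (_ : Algebra R' S')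
      (_ : Algebra R S') (_ : IsScalarTower R R' S') (_ : IsScalarTower R S S')
      (p' : Ideal R') (q' : Ideal S') (_ : p'.IsPrime) (_ : q'.IsPrime),
      FlatCA.IsEtaleNhd R R' p p' ∧ FlatCA.IsEtaleNhd S S' q q' ∧ q'.LiesOver p' ∧
      Dev R' p' S' (S' ⊗[S] N) q' := by
  induction n using Nat.strong_induction_on with
  | _ n ih =>
  intro R S _ _ _ _ N _ _ _ _ _ p _ q _ _ x hxq hx hn
  obtain ⟨E⟩ := nonempty_elemDevissage N p q n x hxq hx hn
  obtain ⟨E0, hE0⟩ := exists_step x hxq hx hn E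
  obtain ⟨hetR, hp'p, hbR⟩ := E.etaleR
  obtain ⟨R₂, _, _, P₂, _, hnR₂, D₂, _, _, _, _, _, _, y₂, _, hnD₂, hy₂P₂, hsm₂, hgi₂, htail⟩ :
      ∃ (R₂ : Type u) (_ : CommRing R₂) (_ : Algebra E.R' R₂) (P₂ : Ideal R₂) (_ : P₂.IsPrime),
        FlatCA.IsEtaleNhd E.R' R₂ E.p' P₂ ∧
      ∃ (D₂ : Type u) (_ : CommRing D₂) (_ : Algebra E0.D D₂) (_ : Algebra R₂ D₂) (_ : Algebra E.R' D₂)
        (_ : IsScalarTower E.R' R₂ D₂) (_ : IsScalarTower E.R' E0.D D₂) (y₂ : Ideal D₂) (_ : y₂.IsPrime),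
        FlatCA.IsEtaleNhd E0.D D₂ E0.y y₂ ∧ y₂.LiesOver P₂ ∧ FlatCA.SmoothRelDim E0.n R₂ D₂ ∧
        FlatCA.GeomIrredFibres R₂ D₂ ∧
        ((∀ x : E0.G, ∃ d : E0.D, IsUnit (algebraMap E0.D D₂ d) ∧ d • x ∈ E0.M) ∨
          ∀ (T : Type u) [AddCommGroup T] [Module D₂ T] [Module E0.D T] [IsScalarTower E0.D D₂ T]
            (g : (E0.G ⧸ E0.M) →ₗ[E0.D] T), IsBaseChange D₂ g → Dev R₂ P₂ D₂ T y₂) := by
    rcases E0.kill_or_drop with ⟨d, hdy, hd⟩ | ⟨xy, hxy, hxyq, m, hm, hdim⟩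
    · haveI : Algebra.Smooth E.R' E0.D := smooth_of_smoothRelDim E0.smooth
      haveI : Smooth (Spec.map (CommRingCat.ofHom (algebraMap E.R' E0.D))) := by
        rw [HasRingHomProperty.Spec_iff (P := @Smooth)]
        exact RingHom.smooth_algebraMap.2 inferInstance
      obtain ⟨_, ⟨g, rfl⟩, hgp, hgsub⟩ := PrimeSpectrum.isTopologicalBasis_basic_opens.exists_subset_of_mem_open
        (show (⟨E.p', inferInstance⟩ : PrimeSpectrum E.R') ∈
            Spec.map (CommRingCat.ofHom (algebraMap E.R' E0.D)) '' (PrimeSpectrum.basicOpen d : Set (PrimeSpectrum E0.D)) from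
          ⟨⟨E0.y, inferInstance⟩, hdy, PrimeSpectrum.ext (Ideal.over_def E0.y E.p').symm⟩)
        ((Spec.map (CommRingCat.ofHom (algebraMap E.R' E0.D))).isOpenMap _ (PrimeSpectrum.basicOpen d).isOpen)
      let R₂ := Localization.Away g
      let hg := d * algebraMap E.R' E0.D g
      let D₂ := Localization.Away hg
      letI : Algebra R₂ D₂ := (IsLocalization.Away.lift g (g := algebraMap E.R' D₂) (by
        rw [IsScalarTower.algebraMap_apply E.R' E0.D D₂]
        exact isUnit_of_dvd_unit (map_dvd _ (dvd_mul_left _ d)) (IsLocalization.Away.algebraMap_isUnit hg))).toAlgebra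
      haveI : IsScalarTower E.R' R₂ D₂ := IsScalarTower.of_algebraMap_eq fun a =>
        (IsLocalization.Away.lift_eq g _ a).symm
      haveI : Algebra.Etale E.R' R₂ := Algebra.Etale.of_isLocalizationAway g
      haveI : Algebra.Etale E0.D D₂ := Algebra.Etale.of_isLocalizationAway hg
      have hPd : Disjoint (Submonoid.powers g : Set E.R') (E.p' : Set E.R') :=
        (Ideal.disjoint_powers_iff_notMem_of_isPrime _).2 hgp
      let P₂ := E.p'.map (algebraMap E.R' R₂)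
      haveI : P₂.IsPrime := IsLocalization.isPrime_of_isPrime_disjoint _ R₂ E.p' (inferInstance : E.p'.IsPrime) hPd
      have hP₂P : P₂.comap (algebraMap E.R' R₂) = E.p' :=
        IsLocalization.comap_map_of_isPrime_disjoint _ R₂ (inferInstance : E.p'.IsPrime) hPd
      haveI : P₂.LiesOver E.p' := ⟨hP₂P.symm⟩
      have hhgy : hg ∉ E0.y := fun hm => ((inferInstance : E0.y.IsPrime).mem_or_mem hm).elim hdy fun h1 =>
        hgp ((Ideal.over_def E0.y E.p').ge h1)
      have hyd : Disjoint (Submonoid.powers hg : Set E0.D) (E0.y : Set E0.D) :=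
        (Ideal.disjoint_powers_iff_notMem_of_isPrime _).2 hhgy
      let y₂ := E0.y.map (algebraMap E0.D D₂)
      haveI : y₂.IsPrime := IsLocalization.isPrime_of_isPrime_disjoint _ D₂ _ (inferInstance : E0.y.IsPrime) hyd
      have hy₂y : y₂.comap (algebraMap E0.D D₂) = E0.y :=
        IsLocalization.comap_map_of_isPrime_disjoint _ D₂ (inferInstance : E0.y.IsPrime) hyd
      haveI : y₂.LiesOver E0.y := ⟨hy₂y.symm⟩
      haveI hy₂P₂ : y₂.LiesOver P₂ := ⟨(IsLocalization.orderEmbedding (Submonoid.powers g) R₂).injective (by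
        show P₂.comap (algebraMap E.R' R₂) = (y₂.comap (algebraMap R₂ D₂)).comap (algebraMap E.R' R₂)
        rw [Ideal.comap_comap, ← IsScalarTower.algebraMap_eq, IsScalarTower.algebraMap_eq E.R' E0.D D₂,
          ← Ideal.comap_comap, hy₂y, hP₂P]
        exact Ideal.over_def E0.y E.p')⟩
      refine ⟨R₂, inferInstance, inferInstance, P₂, inferInstance,
        ⟨inferInstance, inferInstance,
          (RingHom.surjectiveOnStalks_of_isLocalization (Submonoid.powers g) R₂).residueFieldMap_bijective _ _ _⟩,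
        D₂, inferInstance, inferInstance, inferInstance, inferInstance, inferInstance, inferInstance, y₂, inferInstance,
        ⟨inferInstance, inferInstance,
          (RingHom.surjectiveOnStalks_of_isLocalization (Submonoid.powers hg) D₂).residueFieldMap_bijective _ _ _⟩,
        hy₂P₂, smoothRelDim_localization E0.smooth g R₂ D₂, ?_, Or.inl fun w => ⟨d, ?_, hd w⟩⟩
      · refine geomIrred_localization g d E0.geomIrred (fun t ht => ?_) R₂ D₂
        obtain ⟨v, hv, hvt⟩ := hgsub (show t ∈ PrimeSpectrum.basicOpen g from ht)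
        exact ⟨v, congrArg PrimeSpectrum.asIdeal hvt, hv⟩
      · exact isUnit_of_dvd_unit (map_dvd _ (dvd_mul_right d _)) (IsLocalization.Away.algebraMap_isUnit hg)
    · haveI : Algebra.Smooth E.R' E0.D := smooth_of_smoothRelDim E0.smooth
      haveI := E0.finiteQ
      letI : Module E.R' (E0.G ⧸ E0.M) := Module.compHom _ (algebraMap E.R' E0.D)
      haveI : IsScalarTower E.R' E0.D (E0.G ⧸ E0.M) := IsScalarTower.of_algebraMap_smul fun _ _ => rfl
      obtain ⟨R'', D', _, _, _, _, _, _, _, _, p'', y', _, _, hnR'', hnD', hyp, hdev⟩ :=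
        ih m (hE0 ▸ hm) (E0.G ⧸ E0.M) E.p' E0.y xy hxyq hxy hdim
      haveI := hyp
      obtain ⟨R₂, i1, i2, P₂, i3, h1, D₂, j1, j2, j3, j4, j5, j6, y₂, j7, h2, h3, h4, h5, h6⟩ :=
        exists_good_nhd E0.smooth E0.pureTrans (E0.G ⧸ E0.M) R'' p'' hnR'' D' y' hnD' hdev
      exact ⟨R₂, i1, i2, P₂, i3, h1, D₂, j1, j2, j3, j4, j5, j6, y₂, j7, h2, h3, h4, h5, Or.inr h6⟩
  haveI := hy₂P₂
  obtain ⟨hetR₂, hP₂p', hbR₂⟩ := hnR₂
  obtain ⟨hetD₂, hy₂y, hbD₂⟩ := hnD₂
  haveI := hetR₂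
  haveI := hetD₂
  haveI := hP₂p'
  haveI := hy₂y
  obtain ⟨S₂, _, _, _, _, _, _, q₂, _, hnS₂, hq₂P₂, hdev⟩ :=
    exists_head E0 R₂ P₂ hbR₂.2 D₂ y₂ hbD₂.2 hsm₂ hgi₂ htail
  letI algRR₂ : Algebra R R₂ := ((algebraMap E.R' R₂).comp (algebraMap R E.R')).toAlgebra
  haveI : IsScalarTower R E.R' R₂ := IsScalarTower.of_algebraMap_eq fun _ => rfl
  letI algSS₂ : Algebra S S₂ := ((algebraMap E.S' S₂).comp (algebraMap S E.S')).toAlgebra
  haveI : IsScalarTower S E.S' S₂ := IsScalarTower.of_algebraMap_eq fun _ => rfl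
  letI algRS₂ : Algebra R S₂ := ((algebraMap S S₂).comp (algebraMap R S)).toAlgebra
  haveI : IsScalarTower R S S₂ := IsScalarTower.of_algebraMap_eq fun _ => rfl
  haveI : IsScalarTower R R₂ S₂ := IsScalarTower.of_algebraMap_eq fun a => by
    show algebraMap E.S' S₂ (algebraMap S E.S' (algebraMap R S a)) =
      algebraMap R₂ S₂ (algebraMap E.R' R₂ (algebraMap R E.R' a))
    rw [← IsScalarTower.algebraMap_apply E.R' R₂ S₂, IsScalarTower.algebraMap_apply E.R' E.S' S₂,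
      ← IsScalarTower.algebraMap_apply R S E.S', ← IsScalarTower.algebraMap_apply R E.R' E.S']
  refine ⟨R₂, S₂, inferInstance, inferInstance, algRR₂, algSS₂, inferInstance, algRS₂, inferInstance, inferInstance,
    P₂, q₂, inferInstance, inferInstance, isEtaleNhd_trans E.etaleR ⟨hetR₂, hP₂p', hbR₂⟩,
    isEtaleNhd_trans E.etaleS hnS₂, hq₂P₂, hdev.congr ?_⟩
  exact (E.isBaseChange.comp (TensorProduct.isBaseChange E.S' E.N' S₂)).equiv.symm

end DevissExLib
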