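import Groth.Prelude
import Groth.Agent.DevissExLib.Exist
import Groth.Agent.TransLib.RelNhd
import Groth.Agent.FibDimLib.Smooth
import Mathlib

/-!
# From chains of steps to complete dévissages
-/

set_option autoImplicit false
set_option linter.all false

universe u

open CategoryTheory CategoryTheory.Limits AlgebraicGeometry
open scoped TensorProduct

namespace DevissExLib

variable {R : Type u} [CommRing R] {p : Ideal R} [p.IsPrime]

section StepFacts

variable {S : Type u} [CommRing S] [Algebra R S] {N : Type u} [AddCommGroup N] [Module S N] {q : Ideal S}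
  (E : Step R p S N q)

theorem Step.isPrimeMap : (p.map (algebraMap R E.D)).IsPrime :=
  haveI : Algebra.Smooth R E.D := smooth_of_smoothRelDim E.smooth
  map_isPrime_of_geomIrred E.geomIrred p

/-- The map from the free module. -/
noncomputable def Step.α : (Fin E.r → E.D) →ₗ[E.D] E.G := Fintype.linearCombination E.D E.v

theorem Step.range_α : LinearMap.range E.α = E.M := Fintype.range_linearCombination E.D E.v

theorem Step.bijective_α [(p.map (algebraMap R E.D)).IsPrime] :
    Function.Bijective (E.α.baseChange (p.map (algebraMap R E.D)).ResidueField) := by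
  classical
  obtain ⟨b, hb⟩ := E.basis _ rfl
  let K := (p.map (algebraMap R E.D)).ResidueField
  let B0 := Algebra.TensorProduct.basis K (Pi.basisFun E.D (Fin E.r))
  have he : E.α.baseChange K = (B0.equiv b (Equiv.refl _)).toLinearMap := B0.ext fun i => by
    rw [LinearEquiv.coe_coe, Module.Basis.equiv_apply, Equiv.refl_apply, hb]
    simp [B0, Step.α, Pi.basisFun_apply, Fintype.linearCombination_apply_single]
  rw [he]
  exact (B0.equiv b (Equiv.refl _)).bijective

theorem Step.locDim : ∃ (x : PrimeSpectrum (p.Fiber E.D))
    (hx : x ∈ Module.support (p.Fiber E.D) (FlatCA.fiberMod p E.D E.G)),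
    x.asIdeal = FlatCA.fiberIdeal p E.y ∧
    FlatMor.localDim (Module.support (p.Fiber E.D) (FlatCA.fiberMod p E.D E.G)) ⟨x, hx⟩ = E.n := by
  haveI := E.finDC
  haveI := E.finCG
  haveI : Module.Finite E.D E.G := Module.Finite.trans E.C E.G
  haveI := E.isPrimeMap
  let P := p.map (algebraMap R E.D)
  let F := p.Fiber E.D
  have hP : (⟨P, inferInstance⟩ : PrimeSpectrum E.D) ∈ Module.support E.D E.G := by
    obtain ⟨b, -⟩ := E.basis P rfl
    rw [Module.mem_support_iff_nontrivial_residueField_tensorProduct]
    haveI : Nonempty (Fin E.r) := ⟨⟨0, E.rpos⟩⟩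
    exact b.repr.toEquiv.nontrivial
  let e := PrimeSpectrum.preimageEquivFiber R E.D ⟨p, inferInstance⟩
  have huniv : ∀ z : PrimeSpectrum F, z ∈ Module.support F (FlatCA.fiberMod p E.D E.G) := fun z => by
    rw [mem_support_fiberMod_iff]
    refine Module.mem_support_mono ?_ hP
    show P ≤ ((e.symm z).1).asIdeal
    refine Ideal.map_le_iff_le_comap.2 ?_
    exact (congrArg PrimeSpectrum.asIdeal (e.symm z).2).ge
  let x : PrimeSpectrum F := e ⟨⟨E.y, inferInstance⟩, PrimeSpectrum.ext (Ideal.over_def E.y p).symm⟩
  let ι : E.D →ₐ[R] F := Algebra.TensorProduct.includeRight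
  have hxy : x.asIdeal.comap ι.toRingHom = E.y := congrArg (fun w => w.1.asIdeal) (e.symm_apply_apply _)
  have hxf : x.asIdeal = FlatCA.fiberIdeal p E.y := by
    refine le_antisymm (fun f hf => ?_) (Ideal.map_le_iff_le_comap.2 hxy.ge)
    obtain ⟨t, ht, s, hs⟩ := FibAssLib.exists_incl_eq p f
    have hs' : s ∈ E.y := by
      rw [← hxy]
      show FibAssLib.incl E.D p s ∈ x.asIdeal
      rw [← hs]
      exact x.asIdeal.mul_mem_left _ hf
    refine (Ideal.unit_mul_mem_iff_mem _ (FibAssLib.isUnit_incl p ht)).1 ?_
    rw [hs]
    exact Ideal.mem_map_of_mem _ hs'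
  refine ⟨x, huniv x, hxf, ?_⟩
  let h : Module.support F (FlatCA.fiberMod p E.D E.G) ≃ₜ PrimeSpectrum F :=
    (Homeomorph.setCongr (Set.eq_univ_of_forall huniv)).trans (Homeomorph.Set.univ _)
  rw [← FibDimLib.localDim_eq_of_isOpenEmbedding h.isOpenEmbedding ⟨x, huniv x⟩]
  haveI : SmoothOfRelativeDimension E.n (Spec.map (CommRingCat.ofHom (algebraMap R E.D))) := E.smooth
  have h1 := TransLib.fibreDimAt_eq_localDim E.D ⟨p, inferInstance⟩ ⟨E.y, inferInstance⟩
    (PrimeSpectrum.ext (Ideal.over_def E.y p).symm)
  rw [FibDimLib.fibreDimAt_smoothOfRelativeDimension E.n] at h1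
  exact h1.symm

end StepFacts

/-- The rings and module of a level. -/
structure Lvl (R : Type u) [CommRing R] (p : Ideal R) : Type (u + 1) where
  A : Type u
  B : Type u
  M : Type u
  r : ℕ
  [cA : CommRing A] [cB : CommRing B] [aRA : Algebra R A] [aRB : Algebra R B] [aBA : Algebra B A]
  [tRBA : IsScalarTower R B A] [gM : AddCommGroup M] [mAM : Module A M] [mBM : Module B M]
  [tBAM : IsScalarTower B A M] [mRM : Module R M] [tRBM : IsScalarTower R B M]
  [hp : (p.map (algebraMap R B)).IsPrime]
  α : (Fin r → B) →ₗ[B] M

attribute [instance] Lvl.cA Lvl.cB Lvl.aRA Lvl.aRB Lvl.aBA Lvl.tRBA Lvl.gM Lvl.mAM Lvl.mBM Lvl.tBAM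
  Lvl.mRM Lvl.tRBM Lvl.hp

section Convert

variable {S : Type u} [CommRing S] [Algebra R S] {N : Type u} [AddCommGroup N] [Module S N] {q : Ideal S}

/-- The level of a step. -/
noncomputable def Step.lvl (E : Step R p S N q) : Lvl R p :=
  letI aRA : Algebra R E.C := ((algebraMap E.D E.C).comp (algebraMap R E.D)).toAlgebra
  letI mRM : Module R E.G := Module.compHom E.G (algebraMap R E.D)
  haveI : IsScalarTower R E.D E.C := IsScalarTower.of_algebraMap_eq fun _ => rfl
  haveI : IsScalarTower R E.D E.G := IsScalarTower.of_algebraMap_smul fun _ _ => rfl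
  haveI := E.isPrimeMap
  { A := E.C, B := E.D, M := E.G, r := E.r, α := E.α }

instance (E : Step R p S N q) : Algebra S E.lvl.A := E.aSC

instance (E : Step R p S N q) : IsScalarTower R S E.lvl.A :=
  IsScalarTower.of_algebraMap_eq fun a => (E.comm a).symm

instance (E : Step R p S N q) : Module S E.lvl.M := E.mSG

instance (E : Step R p S N q) : IsScalarTower S E.lvl.A E.lvl.M := E.tSCG

/-- Prepend a level to a family. -/
@[reducible] def consFam {α : Type (u + 1)} (a : α) (f : ℕ → α) : ℕ → α
  | 0 => a
  | i + 1 => f i

/-- The complete dévissage with one step. -/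
noncomputable def completeLast (E : Step R p S N q) (h : E.M = ⊤) : FlatCA.CompleteDevissage R S N p :=
  let L : ℕ → Lvl R p := fun _ => E.lvl
  { n := 1
    pos := Nat.one_pos
    A := fun i => (L i).A, B := fun i => (L i).B, M := fun i => (L i).M, r := fun i => (L i).r
    aBA' := fun i => (L i).aBA
    tRBA' := fun i => (L i).tRBA
    mB'M := fun i => (L i).mBM
    tB'AM := fun i => (L i).tBAM
    aSA := E.aSC, tRSA := IsScalarTower.of_algebraMap_eq fun a => (E.comm a).symm
    mSM := E.mSG, tSAM := E.tSCG
    α := fun i => (L i).α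
    surjSA := E.surj, fpSA := E.fp
    surjBA' := fun i hi => absurd hi (by omega)
    fpBA' := fun i hi => absurd hi (by omega)
    finiteBA := fun i _ => E.finDC
    smooth := fun i _ => smooth_of_smoothRelDim E.smooth
    geomIrred := fun i _ => E.geomIrred
    finiteM := fun i _ => E.finCG
    isoN := E.iso.some
    isoCoker := fun i hi => absurd hi (by omega)
    fibreIso := fun i _ => haveI := E.isPrimeMap; E.bijective_α
    cokerLast := LinearMap.range_eq_top.1 (E.range_α.trans h) }

/-- The pointed version of `completeLast`. -/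
noncomputable def completeLastAt (E : Step R p S N q) (h : E.M = ⊤) [q.IsPrime] :
    FlatCA.CompleteDevissageAt R S N p q (completeLast E h) :=
  { qB := fun _ => E.y, qA := fun _ => E.z
    hqB := fun _ => E.hy, hqA := fun _ => E.hz
    overB := fun _ => E.yOver, overA := fun _ => E.zOverY
    pureTrans := fun _ _ => E.pureTrans
    uniq := fun _ _ => E.uniq
    q0 := E.zq
    qStep := fun i hi => absurd hi (by simp [completeLast])
    d := fun _ => E.n
    relDim := fun _ _ => E.smooth
    locDim := fun _ _ => E.locDim }

/-- Prepend a step to a complete dévissage of the cokernel. -/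
noncomputable def completeCons (E : Step R p S N q) (T : FlatCA.CompleteDevissage R E.D (E.G ⧸ E.M) p) :
    FlatCA.CompleteDevissage R S N p :=
  let L : ℕ → Lvl R p := consFam E.lvl fun i =>
    { A := T.A i, B := T.B i, M := T.M i, r := T.r i, α := T.α i }
  { n := T.n + 1
    pos := Nat.succ_pos _
    A := fun i => (L i).A, B := fun i => (L i).B, M := fun i => (L i).M, r := fun i => (L i).r
    aBA' := fun i => match i with
      | 0 => T.aSA
      | i + 1 => T.aBA' i
    tRBA' := fun i => match i with
      | 0 => T.tRSA
      | i + 1 => T.tRBA' i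
    mB'M := fun i => match i with
      | 0 => T.mSM
      | i + 1 => T.mB'M i
    tB'AM := fun i => match i with
      | 0 => T.tSAM
      | i + 1 => T.tB'AM i
    aSA := E.aSC, tRSA := IsScalarTower.of_algebraMap_eq fun a => (E.comm a).symm
    mSM := E.mSG, tSAM := E.tSCG
    α := fun i => (L i).α
    surjSA := E.surj, fpSA := E.fp
    surjBA' := fun i hi => match i with
      | 0 => T.surjSA
      | i + 1 => T.surjBA' i (by omega)
    fpBA' := fun i hi => match i with
      | 0 => T.fpSA
      | i + 1 => T.fpBA' i (by omega)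
    finiteBA := fun i hi => match i with
      | 0 => E.finDC
      | i + 1 => T.finiteBA i (by omega)
    smooth := fun i hi => match i with
      | 0 => smooth_of_smoothRelDim E.smooth
      | i + 1 => T.smooth i (by omega)
    geomIrred := fun i hi => match i with
      | 0 => E.geomIrred
      | i + 1 => T.geomIrred i (by omega)
    finiteM := fun i hi => match i with
      | 0 => E.finCG
      | i + 1 => T.finiteM i (by omega)
    isoN := E.iso.some
    isoCoker := fun i hi => match i with
      | 0 => ((Submodule.quotEquivOfEq (LinearMap.range E.α) E.M E.range_α).trans T.isoN :)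
      | i + 1 => T.isoCoker i (by omega)
    fibreIso := fun i hi => match i with
      | 0 => haveI := E.isPrimeMap; E.bijective_α
      | i + 1 => T.fibreIso i (by omega)
    cokerLast := by
      have hkey : ∀ i, i = T.n → Function.Surjective (L i).α := by
        intro i hi
        obtain ⟨k, rfl⟩ : ∃ k, i = k + 1 := ⟨T.n - 1, by have := T.pos; omega⟩
        have hk : k = T.n - 1 := by omega
        subst hk
        exact T.cokerLast
      exact hkey (T.n + 1 - 1) (by omega) }

/-- The pointed version of `completeCons`. -/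
noncomputable def completeConsAt (E : Step R p S N q) [q.IsPrime] (T : FlatCA.CompleteDevissage R E.D (E.G ⧸ E.M) p)
    (TA : FlatCA.CompleteDevissageAt R E.D (E.G ⧸ E.M) p E.y T) :
    FlatCA.CompleteDevissageAt R S N p q (completeCons E T) :=
  { qB := fun i => match i with
      | 0 => E.y
      | i + 1 => TA.qB i
    qA := fun i => match i with
      | 0 => E.z
      | i + 1 => TA.qA i
    hqB := fun i => match i with
      | 0 => E.hy
      | i + 1 => TA.hqB i
    hqA := fun i => match i with
      | 0 => E.hz
      | i + 1 => TA.hqA i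
    overB := fun i => match i with
      | 0 => E.yOver
      | i + 1 => TA.overB i
    overA := fun i => match i with
      | 0 => E.zOverY
      | i + 1 => TA.overA i
    pureTrans := fun i hi => match i with
      | 0 => E.pureTrans
      | i + 1 => TA.pureTrans i (Nat.lt_of_succ_lt_succ hi)
    uniq := fun i hi => match i with
      | 0 => E.uniq
      | i + 1 => TA.uniq i (Nat.lt_of_succ_lt_succ hi)
    q0 := E.zq
    qStep := fun i hi => match i with
      | 0 => TA.q0
      | i + 1 => TA.qStep i (Nat.lt_of_succ_lt_succ hi)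
    d := fun i => match i with
      | 0 => E.n
      | i + 1 => TA.d i
    relDim := fun i hi => match i with
      | 0 => E.smooth
      | i + 1 => TA.relDim i (Nat.lt_of_succ_lt_succ hi)
    locDim := fun i hi => match i with
      | 0 => E.locDim
      | i + 1 => TA.locDim i (Nat.lt_of_succ_lt_succ hi) }

end Convert

/-- A chain of steps gives a complete dévissage at the prime. -/
theorem Dev.hasCompleteDevissageAt {S : Type u} [CommRing S] [Algebra R S] {N : Type u} [AddCommGroup N]
    [Module S N] {q : Ideal S} [hq : q.IsPrime] (h : Dev R p S N q) : FlatCA.HasCompleteDevissageAt R S N p q := by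
  revert hq
  induction h with
  | last S N q E hE => intro hq; exact ⟨completeLast E hE, ⟨completeLastAt E hE⟩⟩
  | cons S N q E hE ih =>
    intro hq
    obtain ⟨T, ⟨TA⟩⟩ := ih (hq := E.hy)
    exact ⟨completeCons E T, ⟨completeConsAt E T TA⟩⟩

end DevissExLib

namespace DevissExLib

/-- Local dimensions of fibre supports are natural numbers. -/
theorem exists_localDim_support {R S : Type u} [CommRing R] [CommRing S] [Algebra R S] [Algebra.FiniteType R S]
    (N : Type u) [AddCommGroup N] [Module S N] [Module R N] [IsScalarTower R S N] [Module.Finite S N]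
    (p : Ideal R) [p.IsPrime] (x : PrimeSpectrum (p.Fiber S))
    (hx : x ∈ Module.support (p.Fiber S) (FlatCA.fiberMod p S N)) :
    ∃ n : ℕ, FlatMor.localDim (Module.support (p.Fiber S) (FlatCA.fiberMod p S N)) ⟨x, hx⟩ = n := by
  let F := p.Fiber S
  haveI : Module.Finite F (FlatCA.fiberMod p S N) := by
    letI : Algebra S F := Algebra.TensorProduct.rightAlgebra
    exact Module.Finite.base_change S F N
  let I : Ideal F := Module.annihilator F (FlatCA.fiberMod p S N)
  letI : CommRing (F ⧸ I) := Ideal.Quotient.commRing I
  let c := PrimeSpectrum.comap (R := F) (S := F ⧸ I) (Ideal.Quotient.mk I)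
  have hc : Topology.IsEmbedding c :=
    (PrimeSpectrum.isClosedEmbedding_comap_of_surjective _ _ Ideal.Quotient.mk_surjective).isEmbedding
  have hrange : Set.range c = Module.support F (FlatCA.fiberMod p S N) := by
    rw [Module.support_eq_zeroLocus, range_comap_of_surjective _ _ Ideal.Quotient.mk_surjective, Ideal.mk_ker]
  obtain ⟨x₀, hx₀⟩ : x ∈ Set.range c := hrange ▸ hx
  let h := hc.toHomeomorph.trans (Homeomorph.setCongr hrange)
  have hh : h x₀ = ⟨x, hx⟩ := Subtype.ext hx₀
  let str := Spec.map (CommRingCat.ofHom (algebraMap p.ResidueField (F ⧸ I)))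
  haveI : LocallyOfFiniteType str := by
    rw [HasRingHomProperty.Spec_iff (P := @LocallyOfFiniteType)]
    exact RingHom.finiteType_algebraMap.mpr inferInstance
  obtain ⟨m, hm⟩ := FibDimLib.exists_localDim_eq_nat str (x₀ : Spec (CommRingCat.of (F ⧸ I)))
  exact ⟨m, by rw [← hh, FibDimLib.localDim_eq_of_isOpenEmbedding h.isOpenEmbedding x₀]; exact hm⟩

end DevissExLib
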