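import Mathlib

/-!
# Flatness over an unramified extension of the base
-/

set_option autoImplicit false
set_option linter.all false

universe u

open scoped TensorProduct

namespace DevissExLib

/-- A module over an unramified algebra that is flat over the base is flat over the algebra. -/
theorem flat_of_unramified {R R' M : Type u} [CommRing R] [CommRing R'] [Algebra R R'] [Algebra.FormallyUnramified R R']
    [Algebra.EssFiniteType R R'] [AddCommGroup M] [Module R' M] [Module R M] [IsScalarTower R R' M]
    [Module.Flat R M] : Module.Flat R' M := by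
  let Φ : R' ⊗[R] R' →ₗ[R] (M →ₗ[R] R' ⊗[R] M) := TensorProduct.lift (LinearMap.mk₂ R
    (fun a b => (TensorProduct.mk R R' M a) ∘ₗ (LinearMap.lsmul R' M b).restrictScalars R)
    (fun a a' b => LinearMap.ext fun m => by simp [TensorProduct.add_tmul])
    (fun c a b => LinearMap.ext fun m => by simp [TensorProduct.smul_tmul'])
    (fun a b b' => LinearMap.ext fun m => by simp [add_smul, TensorProduct.tmul_add])
    (fun c a b => LinearMap.ext fun m => by simp [smul_assoc, TensorProduct.tmul_smul]))
  have hΦ : ∀ a b m, Φ (a ⊗ₜ b) m = a ⊗ₜ[R] (b • m) := fun a b m => by simp [Φ]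
  have h1 : ∀ (c : R') (w : R' ⊗[R] R') (m : M), Φ ((1 ⊗ₜ c) * w) m = Φ w (c • m) := fun c w m => by
    induction w using TensorProduct.induction_on with
    | zero => simp
    | tmul a b => rw [Algebra.TensorProduct.tmul_mul_tmul, one_mul, hΦ, hΦ, mul_comm, mul_smul]
    | add x y hx hy => simp only [mul_add, map_add, LinearMap.add_apply, hx, hy]
  have h2 : ∀ (c : R') (w : R' ⊗[R] R') (m : M), Φ ((c ⊗ₜ 1) * w) m = c • Φ w m := fun c w m => by
    induction w using TensorProduct.induction_on with
    | zero => simp
    | tmul a b => rw [Algebra.TensorProduct.tmul_mul_tmul, one_mul, hΦ, hΦ, TensorProduct.smul_tmul', smul_eq_mul]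
    | add x y hx hy => simp only [mul_add, map_add, LinearMap.add_apply, hx, hy, smul_add]
  let e := Algebra.FormallyUnramified.elem R R'
  let s : M →ₗ[R'] R' ⊗[R] M :=
    { toFun := fun m => Φ e m
      map_add' := fun m m' => map_add _ _ _
      map_smul' := fun c m => by
        rw [RingHom.id_apply, ← h1, ← h2, Algebra.FormallyUnramified.one_tmul_mul_elem] }
  let r : R' ⊗[R] M →ₗ[R'] M := (LinearMap.id : M →ₗ[R] M).liftBaseChange R'
  refine Module.Flat.of_retract s r (LinearMap.ext fun m => ?_)
  have h3 : ∀ w, r (Φ w m) = Algebra.TensorProduct.lmul' R w • m := fun w => by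
    induction w using TensorProduct.induction_on with
    | zero => simp
    | tmul a b => simp [r, hΦ, mul_smul]
    | add x y hx hy => simp only [map_add, LinearMap.add_apply, hx, hy, add_smul]
  show r (Φ e m) = m
  rw [h3, show Algebra.TensorProduct.lmul' R e = 1 from Algebra.FormallyUnramified.lmul_elem, one_smul]

end DevissExLib
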