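import Groth.Prelude
import Groth.Agent.DevissExLib.FlatEtale
import Groth.Agent.S0387
import Groth.Agent.S9350
import Mathlib

/-!
# Shrinking to an open where a module is flat
-/

set_option autoImplicit false
set_option linter.all false

universe u

open scoped TensorProduct

namespace DevissExLib

theorem exists_flat_away {R S : Type u} [CommRing R] [CommRing S] [Algebra R S] [Algebra.FinitePresentation R S]
    (N : Type u) [AddCommGroup N] [Module S N] [Module R N] [IsScalarTower R S N] [Module.FinitePresentation S N]
    (q : Ideal S) [q.IsPrime] (hflat : FlatCA.FlatAt R q N) :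
    ∃ f : S, f ∉ q ∧ Module.Flat R (Localization.Away f ⊗[S] N) := by
  obtain ⟨_, ⟨f, rfl⟩, hfq, hfU⟩ := PrimeSpectrum.isTopologicalBasis_basic_opens.exists_subset_of_mem_open
    (show (⟨q, inferInstance⟩ : PrimeSpectrum S) ∈
      {w : PrimeSpectrum S | Module.Flat R (LocalizedModule w.asIdeal.primeCompl N)} from hflat)
    (Groth.Agent.S0387.result (R := R) (S := S) (M := N))
  refine ⟨f, hfq, ?_⟩
  let S₁ := Localization.Away f
  let g : ∀ (P : Ideal S₁) [P.IsMaximal], (S₁ ⊗[S] N) →ₗ[S₁] (Localization.AtPrime P ⊗[S] N) := fun P _ =>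
    TensorProduct.AlgebraTensorModule.rTensor S N
      (IsScalarTower.toAlgHom S₁ S₁ (Localization.AtPrime P)).toLinearMap
  haveI : ∀ (P : Ideal S₁) [P.IsMaximal], IsLocalizedModule.AtPrime P (g P) := fun P _ => by
    rw [IsLocalizedModule.AtPrime, isLocalizedModule_iff_isBaseChange P.primeCompl (Localization.AtPrime P)]
    refine IsBaseChange.of_comp (TensorProduct.isBaseChange S N S₁) ?_
    have h1 : (g P).restrictScalars S ∘ₗ TensorProduct.mk S S₁ N 1 =
        TensorProduct.mk S (Localization.AtPrime P) N 1 := LinearMap.ext fun m => by simp [g]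
    rw [h1]
    exact TensorProduct.isBaseChange S N _
  refine Module.flat_of_isLocalized_maximal (R := R) (S := S₁) (S₁ ⊗[S] N)
    (fun P _ => Localization.AtPrime P ⊗[S] N) g fun P _ => ?_
  let Q := P.comap (algebraMap S S₁)
  haveI : IsLocalization.AtPrime (Localization.AtPrime P) Q :=
    IsLocalization.isLocalization_isLocalization_atPrime_isLocalization (Submonoid.powers f) (Localization.AtPrime P) P
  have hQ : Module.Flat R (LocalizedModule Q.primeCompl N) := hfU (show (⟨Q, inferInstance⟩ : PrimeSpectrum S) ∈
      PrimeSpectrum.basicOpen f from fun hm =>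
    (inferInstance : P.IsPrime).ne_top (Ideal.eq_top_of_isUnit_mem _ hm (IsLocalization.Away.algebraMap_isUnit f)))
  haveI : IsLocalizedModule Q.primeCompl (TensorProduct.mk S (Localization.AtPrime P) N 1) :=
    (isLocalizedModule_iff_isBaseChange Q.primeCompl (Localization.AtPrime P) _).2
      (TensorProduct.isBaseChange S N _)
  exact Module.Flat.of_linearEquiv
    ((IsLocalizedModule.iso Q.primeCompl (TensorProduct.mk S (Localization.AtPrime P) N 1)).restrictScalars R).symm

end DevissExLib
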