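import Groth.Prelude
import Groth.Agent.DevissExLib.Complete
import Groth.Agent.DevissExLib.FlatShrink
import Groth.Agent.S1254
import Mathlib

/-!
# Projectivity after étale localisation
-/

set_option autoImplicit false
set_option linter.all false

universe u

open scoped TensorProduct

namespace DevissExLib

/-- Localisation data at an element off a prime. -/
theorem exists_away_prime {A : Type u} [CommRing A] (a : A) (P : Ideal A) [P.IsPrime] (ha : a ∉ P) :
    ∃ (P' : Ideal (Localization.Away a)) (_ : P'.IsPrime), P'.comap (algebraMap A (Localization.Away a)) = P ∧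
      FlatCA.IsEtaleNhd A (Localization.Away a) P P' := by
  have hd : Disjoint (Submonoid.powers a : Set A) (P : Set A) :=
    (Ideal.disjoint_powers_iff_notMem_of_isPrime _).2 ha
  let P' := P.map (algebraMap A (Localization.Away a))
  haveI : P'.IsPrime := IsLocalization.isPrime_of_isPrime_disjoint _ _ P ‹_› hd
  have h : P'.comap (algebraMap A (Localization.Away a)) = P :=
    IsLocalization.comap_map_of_isPrime_disjoint _ _ ‹_› hd
  haveI : P'.LiesOver P := ⟨h.symm⟩
  exact ⟨P', inferInstance, h, Algebra.Etale.of_isLocalizationAway a, inferInstance,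
    (RingHom.surjectiveOnStalks_of_isLocalization (Submonoid.powers a) _).residueFieldMap_bijective _ _ _⟩

theorem exists_projective_nhd {R S : Type u} [CommRing R] [CommRing S] [Algebra R S] [Algebra.FinitePresentation R S]
    (N : Type u) [AddCommGroup N] [Module S N] [Module R N] [IsScalarTower R S N] [Module.FinitePresentation S N]
    (p : Ideal R) [p.IsPrime] (q : Ideal S) [q.IsPrime] [q.LiesOver p] (hflat : FlatCA.FlatAt R q N) :
    ∃ (R' S' : Type u) (_ : CommRing R') (_ : CommRing S') (_ : Algebra R R') (_ : Algebra S S') (_ : Algebra R' S')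
      (_ : Algebra R S') (_ : IsScalarTower R R' S') (_ : IsScalarTower R S S')
      (p' : Ideal R') (q' : Ideal S') (_ : p'.IsPrime) (_ : q'.IsPrime),
      FlatCA.IsEtaleNhd R R' p p' ∧ FlatCA.IsEtaleNhd S S' q q' ∧ q'.LiesOver p' ∧
      Module.Projective R' (RestrictScalars R' S' (S' ⊗[S] N)) := by
  classical
  let e := PrimeSpectrum.preimageEquivFiber R S ⟨p, inferInstance⟩
  let x := e ⟨⟨q, inferInstance⟩, PrimeSpectrum.ext (Ideal.over_def q p).symm⟩
  let ι : S →ₐ[R] p.Fiber S := Algebra.TensorProduct.includeRight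
  have hxι : x.asIdeal.comap ι.toRingHom = q := congrArg (fun w => w.1.asIdeal) (e.symm_apply_apply _)
  have hxq : x.asIdeal = FlatCA.fiberIdeal p q := by
    refine le_antisymm (fun f hf => ?_) (Ideal.map_le_iff_le_comap.2 hxι.ge)
    obtain ⟨t, ht, s, hs⟩ := FibAssLib.exists_incl_eq p f
    have hs' : s ∈ q := by
      rw [← hxι]
      show FibAssLib.incl S p s ∈ x.asIdeal
      rw [← hs]
      exact x.asIdeal.mul_mem_left _ hf
    refine (Ideal.unit_mul_mem_iff_mem _ (FibAssLib.isUnit_incl p ht)).1 ?_
    rw [hs]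
    exact Ideal.mem_map_of_mem _ hs'
  by_cases hsupp : x ∈ Module.support (p.Fiber S) (FlatCA.fiberMod p S N)
  swap
  · rw [mem_support_fiberMod_iff] at hsupp
    have hq : (⟨q, inferInstance⟩ : PrimeSpectrum S) ∉ Module.support S N := by
      convert! hsupp using 2
      exact PrimeSpectrum.ext hxι.symm
    rw [Module.support_eq_zeroLocus, PrimeSpectrum.mem_zeroLocus, SetLike.coe_subset_coe,
      SetLike.not_le_iff_exists] at hq
    obtain ⟨f, hf, hfq⟩ := hq
    obtain ⟨q', _, hq'q, hnS⟩ := exists_away_prime f q hfq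
    let S' := Localization.Away f
    haveI : p.LiesOver p := ⟨Ideal.ext fun _ => Iff.rfl⟩
    haveI : Subsingleton (RestrictScalars R S' (S' ⊗[S] N)) := by
      refine subsingleton_of_forall_eq (α := S' ⊗[S] N) 0 fun z => ?_
      induction z using TensorProduct.induction_on with
      | zero => rfl
      | add a b ha hb => rw [ha, hb, add_zero]
      | tmul a m =>
        obtain ⟨w, hw⟩ := IsLocalization.Away.algebraMap_isUnit (S := S') f
        rw [show a = (a * ↑w⁻¹) * algebraMap S S' f by rw [← hw, mul_assoc, Units.inv_mul, mul_one],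
          ← Algebra.commutes, ← Algebra.smul_def, TensorProduct.smul_tmul, Module.mem_annihilator.1 hf,
          TensorProduct.tmul_zero]
    haveI : q'.LiesOver p := ⟨by
      show p = q'.comap (algebraMap R S')
      rw [IsScalarTower.algebraMap_eq R S S', ← Ideal.comap_comap, hq'q]
      exact Ideal.over_def q p⟩
    exact ⟨R, S', inferInstance, inferInstance, inferInstance, inferInstance, inferInstance, inferInstance,
      inferInstance, inferInstance, p, q', inferInstance, inferInstance,
      ⟨inferInstance, inferInstance, bijective_mapₐ_of_surjective inferInstance fun z => ⟨z, RingHom.congr_fun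
        (Ideal.ResidueField.ringHom_ext (g := RingHom.id p.ResidueField)
          (f := (Ideal.ResidueField.mapₐ p p (Algebra.ofId R R) (Ideal.over_def p p)).toRingHom)
          (RingHom.ext fun r => by simp)) z⟩⟩, hnS, inferInstance, inferInstance⟩
  obtain ⟨n, hn⟩ := exists_localDim_support N p x hsupp
  obtain ⟨R', S', _, _, _, _, _, _, _, _, p', q', _, _, ⟨hetR, hp'p, hbR⟩, ⟨hetS, hq'q, hbS⟩, hq'p', hdev⟩ :=
    exists_dev n N p q x hxq hsupp hn
  haveI := hetR
  haveI := hetS
  haveI := hp'p
  haveI := hq'q
  haveI := hq'p'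
  obtain ⟨f, hfq, hfl⟩ := exists_flat_away N q hflat
  have hf' : algebraMap S S' f ∉ q' := fun hm => hfq ((Ideal.over_def q' q).ge hm)
  obtain ⟨h', hh', hh'q, g, hgp, hloc⟩ := hdev.exists_localize _ hf'
  obtain ⟨p'', _, hp''p', hnR''⟩ := exists_away_prime g p' hgp
  let hg := h' * algebraMap R' S' g
  have hhgq : hg ∉ q' := fun hm => ((inferInstance : q'.IsPrime).mem_or_mem hm).elim hh'q fun h1 =>
    hgp ((Ideal.over_def q' p').ge h1)
  obtain ⟨q'', _, hq''q', hnS''⟩ := exists_away_prime hg q' hhgq
  let R'' := Localization.Away g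
  let S'' := Localization.Away hg
  haveI : Algebra.Etale R' R'' := Algebra.Etale.of_isLocalizationAway g
  haveI : Algebra.Etale S' S'' := Algebra.Etale.of_isLocalizationAway hg
  haveI : IsScalarTower R R' R'' := inferInstance
  haveI : Algebra.Etale R R'' := Algebra.Etale.comp R R' R''
  haveI : Algebra.Etale S S'' := Algebra.Etale.comp S S' S''
  letI : Algebra R'' S'' := (IsLocalization.Away.lift g (g := algebraMap R' S'') (by
    rw [IsScalarTower.algebraMap_apply R' S' S'']
    exact isUnit_of_dvd_unit (map_dvd _ (dvd_mul_left _ h')) (IsLocalization.Away.algebraMap_isUnit hg))).toAlgebra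
  haveI : IsScalarTower R' R'' S'' := IsScalarTower.of_algebraMap_eq fun a =>
    (IsLocalization.Away.lift_eq g _ a).symm
  haveI : IsScalarTower R R'' S'' := IsScalarTower.of_algebraMap_eq (R := R) (S := R'') (A := S'') fun a => by
    rw [IsScalarTower.algebraMap_apply R R' R'', ← IsScalarTower.algebraMap_apply R' R'' S'',
      IsScalarTower.algebraMap_apply R' S' S'', ← IsScalarTower.algebraMap_apply R R' S',
      ← IsScalarTower.algebraMap_apply R S' S'']
  haveI hq''p'' : q''.LiesOver p'' := ⟨(IsLocalization.orderEmbedding (Submonoid.powers g) R'').injective (by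
    show p''.comap (algebraMap R' R'') = (q''.comap (algebraMap R'' S'')).comap (algebraMap R' R'')
    rw [Ideal.comap_comap, ← IsScalarTower.algebraMap_eq, IsScalarTower.algebraMap_eq R' S' S'',
      ← Ideal.comap_comap, hq''q', hp''p']
    exact Ideal.over_def q' p')⟩
  let N3 := S'' ⊗[S] N
  have hdev3 : Dev R'' p'' S'' N3 q'' :=
    (hloc g dvd_rfl hgp R'' p'' hp''p' S'' q'' hq''q' _ (TensorProduct.mk S' S'' (S' ⊗[S] N) 1)
      (TensorProduct.isBaseChange S' (S' ⊗[S] N) S'')).congr
      (TensorProduct.AlgebraTensorModule.cancelBaseChange S S' S'' S'' N)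
  obtain ⟨CD, -⟩ := hdev3.hasCompleteDevissageAt
  -- flatness
  let S₁ := Localization.Away f
  letI : Algebra S₁ S'' := (IsLocalization.Away.lift f (g := algebraMap S S'') (by
    rw [IsScalarTower.algebraMap_apply S S' S'']
    exact isUnit_of_dvd_unit (map_dvd _ (hh'.trans (dvd_mul_right _ _)))
      (IsLocalization.Away.algebraMap_isUnit hg))).toAlgebra
  haveI : IsScalarTower S S₁ S'' := IsScalarTower.of_algebraMap_eq fun a =>
    (IsLocalization.Away.lift_eq f _ a).symm
  haveI : IsScalarTower R S₁ S'' := IsScalarTower.of_algebraMap_eq (R := R) (S := S₁) (A := S'') fun a => by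
    rw [IsScalarTower.algebraMap_apply R S S₁, ← IsScalarTower.algebraMap_apply S S₁ S'',
      IsScalarTower.algebraMap_apply S S' S'', ← IsScalarTower.algebraMap_apply R S S',
      ← IsScalarTower.algebraMap_apply R S' S'']
  haveI : Module.Flat S₁ S'' :=
    (Module.flat_iff_of_isLocalization S₁ (Submonoid.powers f) S'').2 (inferInstance : Module.Flat S S'')
  haveI : IsScalarTower R S S'' := IsScalarTower.of_algebraMap_eq (R := R) (S := S) (A := S'') fun a => by
    rw [IsScalarTower.algebraMap_apply S S' S'', ← IsScalarTower.algebraMap_apply R S S',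
      ← IsScalarTower.algebraMap_apply R S' S'']
  haveI := hfl
  haveI : Module.Flat R N3 :=
    haveI : Module.Flat R (S'' ⊗[S₁] (S₁ ⊗[S] N)) := Groth.Agent.S9350.flat_tensor
    Module.Flat.of_linearEquiv
      ((TensorProduct.AlgebraTensorModule.cancelBaseChange S S₁ S'' S'' N).restrictScalars R).symm
  haveI : Module.Flat R'' N3 := flat_of_unramified (R := R)
  haveI : Algebra.FinitePresentation R S'' := Algebra.FinitePresentation.trans R S S''
  haveI : Algebra.FinitePresentation R'' S'' :=
    Algebra.FinitePresentation.of_restrict_scalars_finitePresentation R R'' S''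
  obtain ⟨h, hhp, hproj, -⟩ := Groth.Agent.S1254.result N3 p'' CD
  obtain ⟨p3, _, hp3p'', hnR3⟩ := exists_away_prime h p'' hhp
  let h3 := algebraMap R'' S'' h
  have hh3q : h3 ∉ q'' := fun hm => hhp ((Ideal.over_def q'' p'').ge hm)
  obtain ⟨q3, _, hq3q'', hnS3⟩ := exists_away_prime h3 q'' hh3q
  let R3 := Localization.Away h
  let S3 := Localization.Away h3
  letI : Algebra R3 S3 := (IsLocalization.Away.lift h (g := algebraMap R'' S3) (by
    rw [IsScalarTower.algebraMap_apply R'' S'' S3]
    exact IsLocalization.Away.algebraMap_isUnit h3)).toAlgebra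
  haveI : IsScalarTower R'' R3 S3 := IsScalarTower.of_algebraMap_eq (R := R'') (S := R3) (A := S3) fun a =>
    (IsLocalization.Away.lift_eq h _ a).symm
  haveI : IsScalarTower R R3 S3 := IsScalarTower.of_algebraMap_eq (R := R) (S := R3) (A := S3) fun a => by
    rw [IsScalarTower.algebraMap_apply R R'' R3, ← IsScalarTower.algebraMap_apply R'' R3 S3,
      IsScalarTower.algebraMap_apply R'' S'' S3, ← IsScalarTower.algebraMap_apply R R'' S'',
      ← IsScalarTower.algebraMap_apply R S'' S3]
  haveI hq3p3 : q3.LiesOver p3 := ⟨(IsLocalization.orderEmbedding (Submonoid.powers h) R3).injective (by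
    show p3.comap (algebraMap R'' R3) = (q3.comap (algebraMap R3 S3)).comap (algebraMap R'' R3)
    rw [Ideal.comap_comap, ← IsScalarTower.algebraMap_eq, IsScalarTower.algebraMap_eq R'' S'' S3,
      ← Ideal.comap_comap, hq3q'', hp3p'']
    exact Ideal.over_def q'' p'')⟩
  haveI : IsScalarTower R S S3 := IsScalarTower.of_algebraMap_eq (R := R) (S := S) (A := S3) fun a => by
    rw [IsScalarTower.algebraMap_apply S S'' S3, ← IsScalarTower.algebraMap_apply R S S'',
      ← IsScalarTower.algebraMap_apply R S'' S3]
  haveI hpo : Algebra.IsPushout R'' R3 S'' S3 := by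
    haveI : IsLocalization (Algebra.algebraMapSubmonoid S'' (Submonoid.powers h)) S3 := by
      rw [Algebra.algebraMapSubmonoid_powers]; infer_instance
    exact Algebra.IsPushout.symm (Algebra.isPushout_of_isLocalization (Submonoid.powers h) R3 S'' S3)
  refine ⟨R3, S3, inferInstance, inferInstance, inferInstance, inferInstance, inferInstance, inferInstance,
    inferInstance, inferInstance, p3, q3, inferInstance, inferInstance,
    isEtaleNhd_trans (isEtaleNhd_trans ⟨hetR, hp'p, hbR⟩ hnR'') hnR3,
    isEtaleNhd_trans (isEtaleNhd_trans ⟨hetS, hq'q, hbS⟩ hnS'') hnS3, hq3p3, ?_⟩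
  haveI : SMulCommClass S R3 S3 := ⟨fun s c z => by
    rw [Algebra.smul_def c, Algebra.smul_def c, mul_smul_comm]⟩
  haveI : SMulCommClass S'' R3 S3 := ⟨fun s c z => by
    rw [Algebra.smul_def c, Algebra.smul_def c, mul_smul_comm]⟩
  let E1 : S3 ⊗[S] N ≃ₗ[R3] R3 ⊗[R''] N3 :=
    ((TensorProduct.AlgebraTensorModule.cancelBaseChange S S'' S3 S3 N).symm.restrictScalars R3).trans
      (Algebra.IsPushout.cancelBaseChange R'' R3 S'' S3 N3)
  let E2 : R3 ⊗[R''] N3 ≃ₗ[R3] LocalizedModule (Submonoid.powers h) N3 :=
    (IsLocalizedModule.isBaseChange (Submonoid.powers h) R3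
      (LocalizedModule.mkLinearMap (Submonoid.powers h) N3)).equiv
  let E0 : RestrictScalars R3 S3 (S3 ⊗[S] N) ≃ₗ[R3] S3 ⊗[S] N :=
    { RestrictScalars.addEquiv R3 S3 _ with
      map_smul' := fun c z => by
        show RestrictScalars.addEquiv R3 S3 _ (c • z) = c • RestrictScalars.addEquiv R3 S3 _ z
        rw [RestrictScalars.addEquiv_map_smul, algebraMap_smul] }
  exact Module.Projective.of_equiv ((E0.trans (E1.trans E2)).symm)

end DevissExLib
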