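import Groth.Prelude
import Groth.Agent.DevissExLib.Projective
import Groth.Agent.DevissExLib.ChainBC
import Mathlib

/-!
# Common étale neighbourhoods and finite covers of a fibre
-/

set_option autoImplicit false
set_option linter.all false

universe u

open AlgebraicGeometry CategoryTheory
open scoped TensorProduct

namespace DevissExLib

/-- The identity is an étale neighbourhood. -/
theorem isEtaleNhd_refl {R : Type u} [CommRing R] (p : Ideal R) [p.IsPrime] : FlatCA.IsEtaleNhd R R p p :=
  haveI : p.LiesOver p := ⟨Ideal.ext fun _ => Iff.rfl⟩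
  ⟨inferInstance, inferInstance, bijective_mapₐ_of_surjective inferInstance fun z => ⟨z, RingHom.congr_fun
    (Ideal.ResidueField.ringHom_ext (g := RingHom.id p.ResidueField)
      (f := (Ideal.ResidueField.mapₐ p p (Algebra.ofId R R) (Ideal.over_def p p)).toRingHom)
      (RingHom.ext fun r => by simp)) z⟩⟩

/-- An element separating a prime from the other primes of a quasi-finite algebra over the same prime. -/
theorem exists_separating {R R' : Type u} [CommRing R] [CommRing R'] [Algebra R R'] [Algebra.QuasiFinite R R']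
    (p : Ideal R) [p.IsPrime] (p' : Ideal R') [p'.IsPrime] [p'.LiesOver p] :
    ∃ g : R', g ∉ p' ∧ ∀ (P : Ideal R') [P.IsPrime], P.LiesOver p → g ∈ P ∨ P = p' := by
  classical
  let Z : Finset (PrimeSpectrum R') :=
    ((Algebra.QuasiFinite.finite_comap_preimage_singleton (S := R') (⟨p, inferInstance⟩ : PrimeSpectrum R)).toFinset).erase
      ⟨p', inferInstance⟩
  have hne : ∀ w ∈ Z, ∃ x ∈ w.asIdeal, x ∉ p' := by
    intro w hw
    obtain ⟨hwp, hw⟩ := Finset.mem_erase.1 hw
    by_contra h
    push Not at h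
    refine hwp (PrimeSpectrum.ext (Algebra.QuasiFinite.eq_of_le_of_under_eq (R := R) _ p' h ?_))
    have h0 := (Set.Finite.mem_toFinset _).1 hw
    have h1 : PrimeSpectrum.comap (algebraMap R R') w = ⟨p, inferInstance⟩ := h0
    exact (congrArg PrimeSpectrum.asIdeal h1).trans (Ideal.over_def p' p)
  choose x hx hxp using hne
  refine ⟨∏ w ∈ Z.attach, x w.1 w.2, fun h => ?_, fun P _ hP => ?_⟩
  · obtain ⟨w, -, hw⟩ := ((inferInstance : p'.IsPrime).prod_mem_iff).1 h
    exact hxp w.1 w.2 hw
  · by_cases h : P = p'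
    · exact Or.inr h
    have hmem : (⟨P, inferInstance⟩ : PrimeSpectrum R') ∈ Z :=
      Finset.mem_erase.2 ⟨fun e => h (congrArg PrimeSpectrum.asIdeal e),
        (Set.Finite.mem_toFinset _).2 (PrimeSpectrum.ext hP.over.symm)⟩
    exact Or.inl (P.mem_of_dvd (Finset.dvd_prod_of_mem _ (Finset.mem_attach Z ⟨_, hmem⟩)) (hx _ hmem))

/-- Finitely many étale neighbourhoods have a common refinement. -/
theorem exists_common_nhd {R : Type u} [CommRing R] (p : Ideal R) [p.IsPrime] {ι : Type u}
    (Ri : ι → Type u) [∀ i, CommRing (Ri i)] [∀ i, Algebra R (Ri i)] (pi : ∀ i, Ideal (Ri i)) [∀ i, (pi i).IsPrime]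
    (h : ∀ i, FlatCA.IsEtaleNhd R (Ri i) p (pi i)) (s : Finset ι) :
    ∃ (R' : Type u) (_ : CommRing R') (_ : Algebra R R') (p' : Ideal R') (_ : p'.IsPrime),
      FlatCA.IsEtaleNhd R R' p p' ∧ ∀ i ∈ s, ∃ φ : Ri i →ₐ[R] R', p'.comap φ.toRingHom = pi i := by
  classical
  induction s using Finset.induction_on with
  | empty => exact ⟨R, inferInstance, inferInstance, p, inferInstance, isEtaleNhd_refl p, fun i hi => absurd hi (Finset.notMem_empty i)⟩
  | insert j s hj ih =>
    obtain ⟨R', _, _, p', _, ⟨het, hover, hbij⟩, hφ⟩ := ih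
    obtain ⟨hetj, hoverj, hbijj⟩ := h j
    haveI := het
    haveI := hover
    haveI := hetj
    haveI := hoverj
    obtain ⟨P, hPI, hPp', hyP, hsurj⟩ := exists_prime_tensor p p' (pi j) hbij.2
    haveI := hPI
    haveI := hPp'
    let R'' := R' ⊗[R] Ri j
    haveI : Algebra.Etale R' R'' := inferInstanceAs (Algebra.Etale R' (R' ⊗[R] Ri j))
    haveI : Algebra.Etale R R'' := Algebra.Etale.comp R R' R''
    haveI : P.LiesOver p := Ideal.LiesOver.trans P p' p
    letI aRj : Algebra (Ri j) R'' := Algebra.TensorProduct.rightAlgebra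
    haveI : IsScalarTower R (Ri j) R'' := IsScalarTower.of_algebraMap_eq fun a =>
      ((Algebra.TensorProduct.includeRight : Ri j →ₐ[R] R'').commutes a).symm
    haveI : P.LiesOver (pi j) := ⟨hyP⟩
    refine ⟨R'', inferInstance, inferInstance, P, inferInstance,
      ⟨inferInstance, inferInstance, bijective_mapₐ_of_surjective inferInstance ?_⟩, fun i hi => ?_⟩
    · intro z
      obtain ⟨c, hc⟩ := hsurj z
      obtain ⟨b, rfl⟩ := hbijj.2 c
      refine ⟨b, ?_⟩
      rw [← hc]
      exact RingHom.congr_fun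
        (Ideal.ResidueField.ringHom_ext (f := (Ideal.ResidueField.mapₐ p P (Algebra.ofId R R'') (Ideal.over_def P p)).toRingHom)
          (g := (Ideal.ResidueField.map (pi j) P (Algebra.TensorProduct.includeRight : Ri j →ₐ[R] R'').toRingHom hyP).comp
            (Ideal.ResidueField.mapₐ p (pi j) (Algebra.ofId R (Ri j)) hoverj.over).toRingHom)
          (RingHom.ext fun r => by
            simp only [RingHom.comp_apply, AlgHom.toRingHom_eq_coe, RingHom.coe_coe, AlgHom.commutes]
            rw [IsScalarTower.algebraMap_apply R (Ri j) (pi j).ResidueField, Ideal.ResidueField.map_algebraMap,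
              IsScalarTower.algebraMap_apply R R'' P.ResidueField]
            exact congrArg _ ((Algebra.TensorProduct.includeRight : Ri j →ₐ[R] R'').commutes r).symm)) b
    · rcases Finset.mem_insert.1 hi with rfl | hi
      · exact ⟨Algebra.TensorProduct.includeRight, hyP.symm⟩
      · obtain ⟨φ, hφi⟩ := hφ i hi
        refine ⟨(IsScalarTower.toAlgHom R R' R'').comp φ, ?_⟩
        show P.comap ((algebraMap R' R'').comp φ.toRingHom) = pi i
        rw [← Ideal.comap_comap, show P.comap (algebraMap R' R'') = p' from (Ideal.over_def P p').symm, hφi]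

/-- The fibre over a prime is quasi-compact. -/
theorem isCompact_fibre {R S : Type u} [CommRing R] [CommRing S] [Algebra R S] (p : Ideal R) [p.IsPrime] :
    IsCompact {w : PrimeSpectrum S | w.asIdeal.comap (algebraMap R S) = p} := by
  let ι : S →ₐ[R] p.Fiber S := Algebra.TensorProduct.includeRight
  let e := PrimeSpectrum.preimageEquivFiber R S ⟨p, inferInstance⟩
  have h : {w : PrimeSpectrum S | w.asIdeal.comap (algebraMap R S) = p} = PrimeSpectrum.comap ι.toRingHom '' Set.univ := by
    ext w
    constructor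
    · intro hw
      exact ⟨e ⟨w, PrimeSpectrum.ext hw⟩, trivial,
        congrArg Subtype.val (e.symm_apply_apply ⟨w, PrimeSpectrum.ext hw⟩)⟩
    · rintro ⟨z, -, rfl⟩
      exact congrArg PrimeSpectrum.asIdeal (e.symm z).2
  rw [h]
  exact isCompact_univ.image (PrimeSpectrum.continuous_comap _)

theorem exists_projective_cover_over {R S : Type u} [CommRing R] [CommRing S] [Algebra R S] [Algebra.FinitePresentation R S]
    (N : Type u) [AddCommGroup N] [Module S N] [Module R N] [IsScalarTower R S N] [Module.FinitePresentation S N]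
    (p : Ideal R) [p.IsPrime] (hflat : ∀ (q : Ideal S) [q.IsPrime], q.LiesOver p → FlatCA.FlatAt R q N) :
    ∃ (R' S' : Type u) (_ : CommRing R') (_ : CommRing S') (_ : Algebra R R') (_ : Algebra S S') (_ : Algebra R' S')
      (_ : Algebra R S') (_ : IsScalarTower R R' S') (_ : IsScalarTower R S S')
      (p' : Ideal R') (_ : p'.IsPrime),
      FlatCA.IsEtaleNhd R R' p p' ∧ Algebra.Etale S S' ∧
      (∀ (q : Ideal S) [q.IsPrime], q.LiesOver p → ∃ q' : Ideal S', q'.IsPrime ∧ q'.comap (algebraMap S S') = q ∧ q'.comap (algebraMap R' S') = p') ∧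
      Module.Projective R' (RestrictScalars R' S' (S' ⊗[S] N)) := by
  classical
  let Fib := {w : PrimeSpectrum S | w.asIdeal.comap (algebraMap R S) = p}
  have hpiece : ∀ w : Fib, ∃ (R₁ S₁ : Type u) (_ : CommRing R₁) (_ : CommRing S₁) (_ : Algebra R R₁) (_ : Algebra S S₁)
      (_ : Algebra R₁ S₁) (_ : Algebra R S₁) (_ : IsScalarTower R R₁ S₁) (_ : IsScalarTower R S S₁)
      (p₁ : Ideal R₁) (_ : p₁.IsPrime) (U : Set (PrimeSpectrum S)), IsOpen U ∧ w.1 ∈ U ∧
      FlatCA.IsEtaleNhd R R₁ p p₁ ∧ Algebra.Etale S S₁ ∧ Module.Projective R₁ (RestrictScalars R₁ S₁ (S₁ ⊗[S] N)) ∧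
      ∀ v ∈ U ∩ Fib, ∃ (v' : Ideal S₁) (_ : v'.IsPrime), v'.LiesOver p₁ ∧ v'.comap (algebraMap S S₁) = v.asIdeal := by
    intro w
    haveI : w.1.asIdeal.LiesOver p := ⟨w.2.symm⟩
    obtain ⟨R', S', _, _, _, _, _, _, _, _, p', q', _, _, hnR, ⟨hetS, hq'q, -⟩, hq'p', hproj⟩ :=
      exists_projective_nhd N p w.1.asIdeal (hflat _ inferInstance)
    obtain ⟨hetR, hp'p, hbR₀⟩ := hnR
    haveI := hetR
    haveI := hp'p
    haveI := hetS
    haveI := hq'q
    haveI := hq'p'
    obtain ⟨g, hg, hguniq⟩ := exists_separating p p'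
    obtain ⟨p₁, _, hp₁, hn₁⟩ := exists_away_prime g p' hg
    let R₁ := Localization.Away g
    let S₁ := Localization.Away (algebraMap R' S' g)
    letI : Algebra R₁ S₁ := (IsLocalization.Away.lift g (g := algebraMap R' S₁) (by
      rw [IsScalarTower.algebraMap_apply R' S' S₁]
      exact IsLocalization.Away.algebraMap_isUnit _)).toAlgebra
    haveI : IsScalarTower R' R₁ S₁ := IsScalarTower.of_algebraMap_eq (R := R') (S := R₁) (A := S₁) fun a =>
      (IsLocalization.Away.lift_eq g _ a).symm
    haveI : IsScalarTower R R₁ S₁ := IsScalarTower.of_algebraMap_eq (R := R) (S := R₁) (A := S₁) fun a => by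
      rw [IsScalarTower.algebraMap_apply R R' R₁, ← IsScalarTower.algebraMap_apply R' R₁ S₁,
        IsScalarTower.algebraMap_apply R' S' S₁, ← IsScalarTower.algebraMap_apply R R' S',
        ← IsScalarTower.algebraMap_apply R S' S₁]
    haveI : IsScalarTower R S S₁ := IsScalarTower.of_algebraMap_eq (R := R) (S := S) (A := S₁) fun a => by
      rw [IsScalarTower.algebraMap_apply S S' S₁, ← IsScalarTower.algebraMap_apply R S S',
        ← IsScalarTower.algebraMap_apply R S' S₁]
    haveI : Algebra.Etale S' S₁ := Algebra.Etale.of_isLocalizationAway (algebraMap R' S' g)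
    haveI : Algebra.Etale S S₁ := Algebra.Etale.comp S S' S₁
    haveI : Etale (Spec.map (CommRingCat.ofHom (algebraMap S S₁))) := by
      rw [HasRingHomProperty.Spec_iff (P := @Etale)]
      exact RingHom.etale_algebraMap.2 inferInstance
    have hgq : algebraMap R' S' g ∉ q' := fun hm => hg ((Ideal.over_def q' p').ge hm)
    obtain ⟨q₁, _, hq₁, -⟩ := exists_away_prime (algebraMap R' S' g) q' hgq
    refine ⟨R₁, S₁, inferInstance, inferInstance, inferInstance, inferInstance, inferInstance, inferInstance,
      inferInstance, inferInstance, p₁, inferInstance, Set.range (PrimeSpectrum.comap (algebraMap S S₁)),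
      (Spec.map (CommRingCat.ofHom (algebraMap S S₁))).isOpenMap.isOpen_range, ⟨⟨q₁, inferInstance⟩, ?_⟩,
      isEtaleNhd_trans ⟨hetR, hp'p, hbR₀⟩ hn₁, inferInstance, ?_, ?_⟩
    · refine PrimeSpectrum.ext ?_
      show q₁.comap (algebraMap S S₁) = w.1.asIdeal
      rw [IsScalarTower.algebraMap_eq S S' S₁, ← Ideal.comap_comap, hq₁]
      exact (Ideal.over_def q' w.1.asIdeal).symm
    · haveI hpo : Algebra.IsPushout R' R₁ S' S₁ := by
        haveI : IsLocalization (Algebra.algebraMapSubmonoid S' (Submonoid.powers g)) S₁ := by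
          rw [Algebra.algebraMapSubmonoid_powers]; infer_instance
        exact Algebra.IsPushout.symm (Algebra.isPushout_of_isLocalization (Submonoid.powers g) R₁ S' S₁)
      exact projective_tensor_of_pushout R' R₁ S' S₁ N hproj
    · rintro v ⟨⟨v', rfl⟩, hv⟩
      refine ⟨v'.asIdeal, inferInstance, ⟨(IsLocalization.orderEmbedding (Submonoid.powers g) R₁).injective ?_⟩, rfl⟩
      show p₁.comap (algebraMap R' R₁) = (v'.asIdeal.comap (algebraMap R₁ S₁)).comap (algebraMap R' R₁)
      rw [hp₁, Ideal.comap_comap, ← IsScalarTower.algebraMap_eq]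
      haveI : (v'.asIdeal.comap (algebraMap R' S₁)).LiesOver p := ⟨by
        show p = (v'.asIdeal.comap (algebraMap R' S₁)).comap (algebraMap R R')
        rw [Ideal.comap_comap, ← IsScalarTower.algebraMap_eq, IsScalarTower.algebraMap_eq R S S₁, ← Ideal.comap_comap]
        exact hv.symm⟩
      refine ((hguniq (v'.asIdeal.comap (algebraMap R' S₁)) inferInstance).resolve_left fun hm => ?_).symm
      rw [Ideal.mem_comap, IsScalarTower.algebraMap_apply R' S' S₁] at hm
      exact v'.isPrime.ne_top (Ideal.eq_top_of_isUnit_mem _ hm (IsLocalization.Away.algebraMap_isUnit _))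
  choose Ri Si cR cS aR aS aRS aRS' t1 t2 pi pI U hUo hwU hn het hproj hcov using hpiece
  obtain ⟨s, hs⟩ := (isCompact_fibre (S := S) p).elim_finite_subcover U hUo fun w hw =>
    Set.mem_iUnion.2 ⟨⟨w, hw⟩, hwU ⟨w, hw⟩⟩
  obtain ⟨R', _, _, p', _, hnR, hφ⟩ := exists_common_nhd p Ri pi hn s
  choose φ hφp using fun i : s => hφ i.1 i.2
  letI aφ : ∀ i : s, Algebra (Ri i) R' := fun i => (φ i).toRingHom.toAlgebra
  haveI : ∀ i : s, IsScalarTower R (Ri i) R' := fun i => IsScalarTower.of_algebraMap_eq fun a => ((φ i).commutes a).symm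
  obtain ⟨hetR, hp'p, hbR⟩ := hnR
  haveI := hetR
  haveI := hp'p
  have hpieces : ∀ i : s, ∃ (T : Type u) (_ : CommRing T) (_ : Algebra S T) (_ : Algebra R' T) (_ : Algebra R T)
      (_ : IsScalarTower R R' T) (_ : IsScalarTower R S T), Algebra.Etale S T ∧
      Module.Projective R' (RestrictScalars R' T (T ⊗[S] N)) ∧
      ∀ v ∈ U i ∩ Fib, ∃ v' : Ideal T, v'.IsPrime ∧ v'.comap (algebraMap S T) = v.asIdeal ∧ v'.comap (algebraMap R' T) = p' := by
    intro i
    obtain ⟨heti, hpip, hbi⟩ := hn i
    haveI := heti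
    haveI := hpip
    haveI := het i
    haveI : p'.LiesOver (pi i) := ⟨(hφp i).symm⟩
    haveI : Algebra.Etale (Ri i) R' := Algebra.Etale.of_restrictScalars R (Ri i) R'
    have hres : Function.Surjective (Ideal.ResidueField.mapₐ (pi i) p' (Algebra.ofId (Ri i) R') (Ideal.over_def p' (pi i))) := by
      intro z
      obtain ⟨b, rfl⟩ := hbR.2 z
      exact ⟨Ideal.ResidueField.mapₐ p (pi i) (Algebra.ofId R (Ri i)) hpip.over b, RingHom.congr_fun
        (Ideal.ResidueField.ringHom_ext
          (f := (Ideal.ResidueField.mapₐ (pi i) p' (Algebra.ofId (Ri i) R') (Ideal.over_def p' (pi i))).toRingHom.comp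
            (Ideal.ResidueField.mapₐ p (pi i) (Algebra.ofId R (Ri i)) hpip.over).toRingHom)
          (g := (Ideal.ResidueField.mapₐ p p' (Algebra.ofId R R') hp'p.over).toRingHom)
          (RingHom.ext fun r => by simpa using (IsScalarTower.algebraMap_apply R (Ri i) R' r).symm ▸ rfl)) b⟩
    let T := R' ⊗[Ri i] Si i
    letI aST : Algebra (Si i) T := Algebra.TensorProduct.rightAlgebra
    haveI : IsScalarTower (Ri i) (Si i) T := IsScalarTower.of_algebraMap_eq fun a =>
      ((Algebra.TensorProduct.includeRight : Si i →ₐ[Ri i] T).commutes a).symm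
    haveI : Algebra.IsPushout (Ri i) R' (Si i) T :=
      inferInstanceAs (Algebra.IsPushout (Ri i) R' (Si i) (R' ⊗[Ri i] Si i))
    haveI : Algebra.Etale (Si i) T := RingHom.etale_algebraMap.1
      (RingHom.Etale.isStableUnderBaseChange (Ri i) R' (Si i) T (RingHom.etale_algebraMap.2 inferInstance))
    letI aS0T : Algebra S T := ((algebraMap (Si i) T).comp (algebraMap S (Si i))).toAlgebra
    haveI : IsScalarTower S (Si i) T := IsScalarTower.of_algebraMap_eq fun _ => rfl
    haveI : Algebra.Etale S T := Algebra.Etale.comp S (Si i) T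
    haveI : IsScalarTower R S T := IsScalarTower.of_algebraMap_eq fun a => by
      show algebraMap R T a = algebraMap (Si i) T (algebraMap S (Si i) (algebraMap R S a))
      rw [← IsScalarTower.algebraMap_apply R S (Si i), IsScalarTower.algebraMap_apply R (Ri i) (Si i),
        ← IsScalarTower.algebraMap_apply (Ri i) (Si i) T, IsScalarTower.algebraMap_apply (Ri i) R' T,
        ← IsScalarTower.algebraMap_apply R (Ri i) R', ← IsScalarTower.algebraMap_apply R R' T]
    refine ⟨T, inferInstance, aS0T, inferInstance, inferInstance, inferInstance, inferInstance, inferInstance,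
      projective_tensor_of_pushout (Ri i) R' (Si i) T N (hproj i), fun v hv => ?_⟩
    obtain ⟨v', _, hv'p, hv'v⟩ := hcov i v hv
    haveI := hv'p
    obtain ⟨w, hwI, hwp, hw, -⟩ := exists_prime_tensor (pi i) p' v' hres
    refine ⟨w, hwI, ?_, hwp.over.symm⟩
    rw [IsScalarTower.algebraMap_eq S (Si i) T, ← Ideal.comap_comap]
    exact (congrArg (Ideal.comap _) hw.symm).trans hv'v
  choose T cT aST aR'T aRT tT1 tT2 hetT hprojT hcovT using hpieces
  let S' := ∀ i : s, T i
  refine ⟨R', S', inferInstance, inferInstance, inferInstance, inferInstance, inferInstance, inferInstance,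
    IsScalarTower.of_algebraMap_eq fun a => funext fun i => IsScalarTower.algebraMap_apply R R' (T i) a,
    IsScalarTower.of_algebraMap_eq fun a => funext fun i => IsScalarTower.algebraMap_apply R S (T i) a,
    p', inferInstance, ⟨hetR, hp'p, hbR⟩, inferInstance, fun q _ hq => ?_, ?_⟩
  · obtain ⟨i, hi, hqi⟩ := Set.mem_iUnion₂.1 (hs (show (⟨q, inferInstance⟩ : PrimeSpectrum S) ∈ Fib from hq.over.symm))
    obtain ⟨v', hv'I, hv', hv'p⟩ := hcovT ⟨i, hi⟩ ⟨q, inferInstance⟩ ⟨hqi, hq.over.symm⟩
    exact ⟨v'.comap (Pi.evalRingHom (fun i => T i) ⟨i, hi⟩), hv'I.comap _, by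
      rw [Ideal.comap_comap]; exact hv', by
      rw [Ideal.comap_comap]; exact hv'p⟩
  · haveI : ∀ i, SMulCommClass S R' (T i) := fun i => ⟨fun a c z => by
      rw [Algebra.smul_def c, Algebra.smul_def c, mul_smul_comm]⟩
    haveI : ∀ i, Module.Projective R' (T i ⊗[S] N) := fun i => by
      haveI := hprojT i
      let E : RestrictScalars R' (T i) (T i ⊗[S] N) ≃ₗ[R'] T i ⊗[S] N :=
        { RestrictScalars.addEquiv R' (T i) _ with
          map_smul' := fun c z => by
            show RestrictScalars.addEquiv R' (T i) _ (c • z) = c • RestrictScalars.addEquiv R' (T i) _ z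
            rw [RestrictScalars.addEquiv_map_smul, algebraMap_smul] }
      exact Module.Projective.of_equiv E
    haveI : Module.Projective R' (∀ i, T i ⊗[S] N) :=
      Module.Projective.of_equiv (DFinsupp.linearEquivFunOnFintype : (Π₀ i, T i ⊗[S] N) ≃ₗ[R'] ∀ i, T i ⊗[S] N)
    haveI : SMulCommClass S R' S' := ⟨fun a c z => funext fun i => smul_comm a c (z i)⟩
    let E : RestrictScalars R' S' (S' ⊗[S] N) ≃ₗ[R'] ∀ i, T i ⊗[S] N :=
      { (RestrictScalars.addEquiv R' S' _).trans
          (TensorProduct.piLeft (R := S) (M := fun i => T i) (N := N)).toAddEquiv with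
        map_smul' := fun c z => by
          show TensorProduct.piLeft (R := S) (M := fun i => T i) (N := N) (RestrictScalars.addEquiv R' S' _ (c • z)) =
            c • TensorProduct.piLeft (R := S) (M := fun i => T i) (N := N) (RestrictScalars.addEquiv R' S' _ z)
          rw [RestrictScalars.addEquiv_map_smul, algebraMap_smul]
          generalize RestrictScalars.addEquiv R' S' _ z = x
          induction x using TensorProduct.induction_on with
          | zero => simp
          | tmul a m => rw [TensorProduct.smul_tmul']; funext i; simp [TensorProduct.smul_tmul']; rfl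
          | add a b ha hb => simp only [smul_add, map_add, ha, hb] }
    exact Module.Projective.of_equiv E.symm
where
  projective_tensor_of_pushout (A A' B B' : Type u) [CommRing A] [CommRing A'] [CommRing B] [CommRing B']
      [Algebra A A'] [Algebra A B] [Algebra A' B'] [Algebra B B'] [Algebra A B'] [IsScalarTower A A' B']
      [IsScalarTower A B B'] [Algebra.IsPushout A A' B B'] {S : Type u} [CommRing S] [Algebra S B] [Algebra S B']
      [IsScalarTower S B B'] (N : Type u) [AddCommGroup N] [Module S N]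
      (h : Module.Projective A (RestrictScalars A B (B ⊗[S] N))) :
      Module.Projective A' (RestrictScalars A' B' (B' ⊗[S] N)) := by
    haveI := h
    haveI : SMulCommClass S A B := ⟨fun s c z => by rw [Algebra.smul_def c, Algebra.smul_def c, mul_smul_comm]⟩
    haveI : SMulCommClass S A' B' := ⟨fun s c z => by rw [Algebra.smul_def c, Algebra.smul_def c, mul_smul_comm]⟩
    haveI : SMulCommClass B A' B' := ⟨fun s c z => by rw [Algebra.smul_def c, Algebra.smul_def c, mul_smul_comm]⟩
    let E₀ : RestrictScalars A B (B ⊗[S] N) ≃ₗ[A] B ⊗[S] N :=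
      { RestrictScalars.addEquiv A B _ with
        map_smul' := fun c z => by
          show RestrictScalars.addEquiv A B _ (c • z) = c • RestrictScalars.addEquiv A B _ z
          rw [RestrictScalars.addEquiv_map_smul, algebraMap_smul] }
    haveI : Module.Projective A (B ⊗[S] N) := Module.Projective.of_equiv E₀
    let E₁ : RestrictScalars A' B' (B' ⊗[S] N) ≃ₗ[A'] B' ⊗[S] N :=
      { RestrictScalars.addEquiv A' B' _ with
        map_smul' := fun c z => by
          show RestrictScalars.addEquiv A' B' _ (c • z) = c • RestrictScalars.addEquiv A' B' _ z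
          rw [RestrictScalars.addEquiv_map_smul, algebraMap_smul] }
    haveI : IsScalarTower A B (B ⊗[S] N) := TensorProduct.isScalarTower_left
    let E₂ : B' ⊗[S] N ≃ₗ[A'] A' ⊗[A] (B ⊗[S] N) :=
      ((TensorProduct.AlgebraTensorModule.cancelBaseChange S B B' B' N).symm.restrictScalars A').trans
        (Algebra.IsPushout.cancelBaseChange A A' B B' (B ⊗[S] N))
    exact Module.Projective.of_equiv (E₁.trans E₂).symm

/-- A projective étale cover of a fibre. -/
theorem exists_projective_cover {R S : Type u} [CommRing R] [CommRing S] [Algebra R S] [Algebra.FinitePresentation R S]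
    (N : Type u) [AddCommGroup N] [Module S N] [Module R N] [IsScalarTower R S N] [Module.FinitePresentation S N]
    (p : Ideal R) [p.IsPrime] (hflat : ∀ (q : Ideal S) [q.IsPrime], q.LiesOver p → FlatCA.FlatAt R q N) :
    ∃ (R' S' : Type u) (_ : CommRing R') (_ : CommRing S') (_ : Algebra R R') (_ : Algebra S S') (_ : Algebra R' S')
      (_ : Algebra R S') (_ : IsScalarTower R R' S') (_ : IsScalarTower R S S')
      (p' : Ideal R') (_ : p'.IsPrime),
      FlatCA.IsEtaleNhd R R' p p' ∧ Algebra.Etale S S' ∧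
      (∀ (q : Ideal S) [q.IsPrime], q.LiesOver p → ∃ q' : Ideal S', q'.IsPrime ∧ q'.comap (algebraMap S S') = q) ∧
      Module.Projective R' (RestrictScalars R' S' (S' ⊗[S] N)) := by
  obtain ⟨R', S', i1, i2, i3, i4, i5, i6, i7, i8, p', i9, h1, h2, h3, h4⟩ := exists_projective_cover_over N p hflat
  refine ⟨R', S', i1, i2, i3, i4, i5, i6, i7, i8, p', i9, h1, h2, fun q _ hq => ?_, h4⟩
  obtain ⟨q', g1, g2, -⟩ := h3 q hq
  exact ⟨q', g1, g2⟩

end DevissExLib
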