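import Groth.Prelude
import Groth.Agent.DevissExLib.Cover
import Mathlib

/-!
# Covering a fibre by complete dévissages
-/

set_option autoImplicit false
set_option linter.all false

universe u

open AlgebraicGeometry CategoryTheory
open scoped TensorProduct

namespace DevissExLib

/-- The complete dévissage of the zero module. -/
theorem nonempty_completeDevissage_of_subsingleton (R S : Type u) [CommRing R] [CommRing S] [Algebra R S]
    (N : Type u) [AddCommGroup N] [Module S N] [Subsingleton N] (rr : Ideal R) [rr.IsPrime] :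
    Nonempty (FlatCA.CompleteDevissage R S N rr) := by
  haveI : (rr.map (algebraMap R R)).IsPrime := by rw [Algebra.algebraMap_self, Ideal.map_id]; infer_instance
  have hgi : FlatCA.GeomIrredFibres R R := by
    show GeometricallyIrreducible (Spec.map (CommRingCat.ofHom (algebraMap R R)))
    rw [Algebra.algebraMap_self, CommRingCat.ofHom_id, Spec.map_id]
    refine ⟨fun K _ y W fst snd h => ?_⟩
    haveI : IsIso snd := h.isIso_snd_of_isIso
    exact snd.homeomorph.irreducibleSpace_iff.2 inferInstance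
  exact ⟨
    { n := 1
      pos := Nat.one_pos
      A := fun _ => S ⧸ (⊤ : Ideal S), B := fun _ => R, M := fun _ => PUnit.{u + 1}, r := fun _ => 0
      α := fun _ => 0
      surjSA := Ideal.Quotient.mk_surjective
      fpSA := Algebra.FinitePresentation.quotient ⟨{1}, by simp⟩
      surjBA' := fun i hi => absurd hi (by omega)
      fpBA' := fun i hi => absurd hi (by omega)
      finiteBA := fun _ _ => inferInstance
      smooth := fun _ _ => inferInstance
      geomIrred := fun _ _ => hgi
      finiteM := fun _ _ => inferInstance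
      isoN := LinearEquiv.ofSubsingleton _ _
      isoCoker := fun i hi => absurd hi (by omega)
      fibreIso := fun _ _ => ⟨Function.injective_of_subsingleton _, fun _ => ⟨0, Subsingleton.elim _ _⟩⟩
      cokerLast := fun _ => ⟨0, Subsingleton.elim _ _⟩ }⟩

/-- An étale neighbourhood with a dévissage, covering an open of the fibre. -/
theorem exists_piece {A B : Type u} [CommRing A] [CommRing B] [Algebra A B] [Algebra.FiniteType A B]
    (N : Type u) [AddCommGroup N] [Module B N] [Module A N] [IsScalarTower A B N] [Module.Finite B N]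
    (p : Ideal A) [p.IsPrime] (q : Ideal B) [q.IsPrime] [q.LiesOver p] :
    ∃ (R₁ S₁ : Type u) (_ : CommRing R₁) (_ : CommRing S₁) (_ : Algebra A R₁) (_ : Algebra B S₁)
      (_ : Algebra R₁ S₁) (_ : Algebra A S₁) (_ : IsScalarTower A R₁ S₁) (_ : IsScalarTower A B S₁)
      (p₁ : Ideal R₁) (_ : p₁.IsPrime) (q₁ : Ideal S₁) (_ : q₁.IsPrime) (U : Set (PrimeSpectrum B)), IsOpen U ∧
      (⟨q, inferInstance⟩ : PrimeSpectrum B) ∈ U ∧ q₁.comap (algebraMap B S₁) = q ∧
      q₁.LiesOver p₁ ∧ FlatCA.IsEtaleNhd A R₁ p p₁ ∧ Algebra.Etale B S₁ ∧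
      (Dev R₁ p₁ S₁ (S₁ ⊗[B] N) q₁ ∨ Subsingleton (S₁ ⊗[B] N)) ∧
      ∀ v ∈ U ∩ {w : PrimeSpectrum B | w.asIdeal.comap (algebraMap A B) = p},
        ∃ (v' : Ideal S₁) (_ : v'.IsPrime), v'.LiesOver p₁ ∧ v'.comap (algebraMap B S₁) = v.asIdeal := by
  classical
  obtain ⟨R', S', _, _, _, _, _, _, _, _, p', q', _, _, hnR, ⟨hetS, hq'q, -⟩, hq'p', hcase⟩ :
      ∃ (R' S' : Type u) (_ : CommRing R') (_ : CommRing S') (_ : Algebra A R') (_ : Algebra B S') (_ : Algebra R' S')
        (_ : Algebra A S') (_ : IsScalarTower A R' S') (_ : IsScalarTower A B S')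
        (p' : Ideal R') (q' : Ideal S') (_ : p'.IsPrime) (_ : q'.IsPrime),
        FlatCA.IsEtaleNhd A R' p p' ∧ FlatCA.IsEtaleNhd B S' q q' ∧ q'.LiesOver p' ∧
          (Dev R' p' S' (S' ⊗[B] N) q' ∨ Subsingleton (S' ⊗[B] N)) := by
    let e := PrimeSpectrum.preimageEquivFiber A B ⟨p, inferInstance⟩
    let x := e ⟨⟨q, inferInstance⟩, PrimeSpectrum.ext (Ideal.over_def q p).symm⟩
    let ι : B →ₐ[A] p.Fiber B := Algebra.TensorProduct.includeRight
    have hxι : x.asIdeal.comap ι.toRingHom = q := congrArg (fun w => w.1.asIdeal) (e.symm_apply_apply _)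
    have hxq : x.asIdeal = FlatCA.fiberIdeal p q := by
      refine le_antisymm (fun f hf => ?_) (Ideal.map_le_iff_le_comap.2 hxι.ge)
      obtain ⟨t, ht, s, hs⟩ := FibAssLib.exists_incl_eq p f
      have hs' : s ∈ q := by
        rw [← hxι]
        show FibAssLib.incl B p s ∈ x.asIdeal
        rw [← hs]
        exact x.asIdeal.mul_mem_left _ hf
      refine (Ideal.unit_mul_mem_iff_mem _ (FibAssLib.isUnit_incl p ht)).1 ?_
      rw [hs]
      exact Ideal.mem_map_of_mem _ hs'
    by_cases hsupp : x ∈ Module.support (p.Fiber B) (FlatCA.fiberMod p B N)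
    · obtain ⟨n, hn⟩ := exists_localDim_support N p x hsupp
      obtain ⟨R', S', i1, i2, i3, i4, i5, i6, i7, i8, p', q', i9, i10, h1, h2, h3, h4⟩ :=
        exists_dev n N p q x hxq hsupp hn
      exact ⟨R', S', i1, i2, i3, i4, i5, i6, i7, i8, p', q', i9, i10, h1, h2, h3, Or.inl h4⟩
    · rw [mem_support_fiberMod_iff] at hsupp
      have hq : (⟨q, inferInstance⟩ : PrimeSpectrum B) ∉ Module.support B N := by
        convert! hsupp using 2
        exact PrimeSpectrum.ext hxι.symm
      rw [Module.support_eq_zeroLocus, PrimeSpectrum.mem_zeroLocus, SetLike.coe_subset_coe,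
        SetLike.not_le_iff_exists] at hq
      obtain ⟨f, hf, hfq⟩ := hq
      obtain ⟨q', _, hq'q, hnS⟩ := exists_away_prime f q hfq
      let S' := Localization.Away f
      haveI : q'.LiesOver p := ⟨by
        show p = q'.comap (algebraMap A S')
        rw [IsScalarTower.algebraMap_eq A B S', ← Ideal.comap_comap, hq'q]
        exact Ideal.over_def q p⟩
      refine ⟨A, S', inferInstance, inferInstance, inferInstance, inferInstance, inferInstance, inferInstance,
        inferInstance, inferInstance, p, q', inferInstance, inferInstance,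
        isEtaleNhd_refl p, hnS, inferInstance, Or.inr (subsingleton_of_forall_eq 0 fun z => ?_)⟩
      induction z using TensorProduct.induction_on with
      | zero => rfl
      | add a b ha hb => rw [ha, hb, add_zero]
      | tmul a m =>
        obtain ⟨w, hw⟩ := IsLocalization.Away.algebraMap_isUnit (S := S') f
        rw [show a = (a * ↑w⁻¹) * algebraMap B S' f by rw [← hw, mul_assoc, Units.inv_mul, mul_one],
          ← Algebra.commutes, ← Algebra.smul_def, TensorProduct.smul_tmul, Module.mem_annihilator.1 hf,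
          TensorProduct.tmul_zero]
  obtain ⟨hetR, hp'p, hbR₀⟩ := hnR
  haveI := hetR
  haveI := hp'p
  haveI := hetS
  haveI := hq'q
  haveI := hq'p'
  obtain ⟨g, hg, hguniq⟩ := exists_separating p p'
  obtain ⟨p₁, _, hp₁, hn₁⟩ := exists_away_prime g p' hg
  let R₁ := Localization.Away g
  let S₁ := Localization.Away (algebraMap R' S' g)
  letI : Algebra R₁ S₁ := (IsLocalization.Away.lift g (g := algebraMap R' S₁) (by
    rw [IsScalarTower.algebraMap_apply R' S' S₁]
    exact IsLocalization.Away.algebraMap_isUnit _)).toAlgebra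
  haveI : IsScalarTower R' R₁ S₁ := IsScalarTower.of_algebraMap_eq (R := R') (S := R₁) (A := S₁) fun a =>
    (IsLocalization.Away.lift_eq g _ a).symm
  haveI : IsScalarTower A R₁ S₁ := IsScalarTower.of_algebraMap_eq (R := A) (S := R₁) (A := S₁) fun a => by
    rw [IsScalarTower.algebraMap_apply A R' R₁, ← IsScalarTower.algebraMap_apply R' R₁ S₁,
      IsScalarTower.algebraMap_apply R' S' S₁, ← IsScalarTower.algebraMap_apply A R' S',
      ← IsScalarTower.algebraMap_apply A S' S₁]
  haveI : IsScalarTower A B S₁ := IsScalarTower.of_algebraMap_eq (R := A) (S := B) (A := S₁) fun a => by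
    rw [IsScalarTower.algebraMap_apply B S' S₁, ← IsScalarTower.algebraMap_apply A B S',
      ← IsScalarTower.algebraMap_apply A S' S₁]
  haveI : Algebra.Etale S' S₁ := Algebra.Etale.of_isLocalizationAway (algebraMap R' S' g)
  haveI : Algebra.Etale B S₁ := Algebra.Etale.comp B S' S₁
  haveI : Etale (Spec.map (CommRingCat.ofHom (algebraMap B S₁))) := by
    rw [HasRingHomProperty.Spec_iff (P := @Etale)]
    exact RingHom.etale_algebraMap.2 inferInstance
  have hgq : algebraMap R' S' g ∉ q' := fun hm => hg ((Ideal.over_def q' p').ge hm)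
  obtain ⟨q₁, _, hq₁, -⟩ := exists_away_prime (algebraMap R' S' g) q' hgq
  haveI hpo : Algebra.IsPushout R' R₁ S' S₁ := by
    haveI : IsLocalization (Algebra.algebraMapSubmonoid S' (Submonoid.powers g)) S₁ := by
      rw [Algebra.algebraMapSubmonoid_powers]; infer_instance
    exact Algebra.IsPushout.symm (Algebra.isPushout_of_isLocalization (Submonoid.powers g) R₁ S' S₁)
  have hq₁p : q₁.comap (algebraMap R₁ S₁) = p₁ := by
    refine (IsLocalization.orderEmbedding (Submonoid.powers g) R₁).injective ?_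
    show (q₁.comap (algebraMap R₁ S₁)).comap (algebraMap R' R₁) = p₁.comap (algebraMap R' R₁)
    rw [hp₁, Ideal.comap_comap, ← IsScalarTower.algebraMap_eq, IsScalarTower.algebraMap_eq R' S' S₁,
      ← Ideal.comap_comap, hq₁]
    exact (Ideal.over_def q' p').symm
  refine ⟨R₁, S₁, inferInstance, inferInstance, inferInstance, inferInstance, inferInstance, inferInstance,
    inferInstance, inferInstance, p₁, inferInstance, q₁, inferInstance, Set.range (PrimeSpectrum.comap (algebraMap B S₁)),
    (Spec.map (CommRingCat.ofHom (algebraMap B S₁))).isOpenMap.isOpen_range, ⟨⟨q₁, inferInstance⟩, ?_⟩, ?_, ⟨hq₁p.symm⟩,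
    isEtaleNhd_trans ⟨hetR, hp'p, hbR₀⟩ hn₁, inferInstance, ?_, ?_⟩
  · refine PrimeSpectrum.ext ?_
    show q₁.comap (algebraMap B S₁) = q
    rw [IsScalarTower.algebraMap_eq B S' S₁, ← Ideal.comap_comap, hq₁]
    exact (Ideal.over_def q' q).symm
  · rw [IsScalarTower.algebraMap_eq B S' S₁, ← Ideal.comap_comap, hq₁]
    exact (Ideal.over_def q' q).symm
  · let M := S' ⊗[B] N
    let e : S₁ ⊗[S'] M ≃ₗ[S₁] S₁ ⊗[B] N := TensorProduct.AlgebraTensorModule.cancelBaseChange B S' S₁ S₁ N
    rcases hcase with hdev | hsub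
    · exact Or.inl (Dev.congr (N := S₁ ⊗[S'] M) (N₁ := S₁ ⊗[B] N) e
        (hdev.baseChange p₁ hn₁ S₁ q₁ hq₁p hq₁ (TensorProduct.mk S' S₁ M 1) (TensorProduct.isBaseChange S' M S₁)))
    · haveI := hsub
      exact Or.inr e.symm.injective.subsingleton
  · rintro v ⟨⟨v', rfl⟩, hv⟩
    refine ⟨v'.asIdeal, inferInstance, ⟨(IsLocalization.orderEmbedding (Submonoid.powers g) R₁).injective ?_⟩, rfl⟩
    show p₁.comap (algebraMap R' R₁) = (v'.asIdeal.comap (algebraMap R₁ S₁)).comap (algebraMap R' R₁)
    rw [hp₁, Ideal.comap_comap, ← IsScalarTower.algebraMap_eq]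
    haveI : (v'.asIdeal.comap (algebraMap R' S₁)).LiesOver p := ⟨by
      show p = (v'.asIdeal.comap (algebraMap R' S₁)).comap (algebraMap A R')
      rw [Ideal.comap_comap, ← IsScalarTower.algebraMap_eq, IsScalarTower.algebraMap_eq A B S₁, ← Ideal.comap_comap]
      exact hv.symm⟩
    refine ((hguniq (v'.asIdeal.comap (algebraMap R' S₁)) inferInstance).resolve_left fun hm => ?_).symm
    rw [Ideal.mem_comap, IsScalarTower.algebraMap_apply R' S' S₁] at hm
    exact v'.isPrime.ne_top (Ideal.eq_top_of_isUnit_mem _ hm (IsLocalization.Away.algebraMap_isUnit _))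

theorem exists_devissage_cover {A B : Type u} [CommRing A] [CommRing B] [Algebra A B] [Algebra.FiniteType A B]
    (N : Type u) [AddCommGroup N] [Module B N] [Module.Finite B N] (p : Ideal A) [p.IsPrime] :
    ∃ (A' : Type u) (_ : CommRing A') (_ : Algebra A A') (p' : Ideal A') (_ : p'.IsPrime), FlatCA.IsEtaleNhd A A' p p' ∧
      ∀ (BA NA : Type u) [CommRing BA] [Algebra B BA] [Algebra A' BA] [Algebra A BA] [IsScalarTower A B BA] [IsScalarTower A A' BA]
        [Algebra.IsPushout A B A' BA]
        [AddCommGroup NA] [Module BA NA] [Module B NA] [IsScalarTower B BA NA]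
        (fA : N →ₗ[B] NA), IsBaseChange BA fA →
        ∃ (k : ℕ) (C : Fin k → Type u) (_ : ∀ i, CommRing (C i)) (_ : ∀ i, Algebra BA (C i)) (_ : ∀ i, Algebra A' (C i))
          (_ : ∀ i, IsScalarTower A' BA (C i))
          (Nc : Fin k → Type u) (_ : ∀ i, AddCommGroup (Nc i)) (_ : ∀ i, Module (C i) (Nc i)) (_ : ∀ i, Module BA (Nc i))
          (_ : ∀ i, IsScalarTower BA (C i) (Nc i)) (g : ∀ i, NA →ₗ[BA] Nc i),
          (∀ i, Algebra.Etale BA (C i) ∧ IsBaseChange (C i) (g i) ∧ Nonempty (FlatCA.CompleteDevissage A' (C i) (Nc i) p')) ∧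
          ∀ (Q : Ideal BA) [Q.IsPrime], Q.LiesOver p' → ∃ (i : Fin k) (Q' : Ideal (C i)), Q'.IsPrime ∧ Q'.comap (algebraMap BA (C i)) = Q := by
  classical
  letI : Module A N := Module.compHom N (algebraMap A B)
  haveI : IsScalarTower A B N := IsScalarTower.of_algebraMap_smul fun _ _ => rfl
  let Fib := {w : PrimeSpectrum B | w.asIdeal.comap (algebraMap A B) = p}
  have hpiece : ∀ w : Fib, ∃ (R₁ S₁ : Type u) (_ : CommRing R₁) (_ : CommRing S₁) (_ : Algebra A R₁) (_ : Algebra B S₁)
      (_ : Algebra R₁ S₁) (_ : Algebra A S₁) (_ : IsScalarTower A R₁ S₁) (_ : IsScalarTower A B S₁)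
      (p₁ : Ideal R₁) (_ : p₁.IsPrime) (q₁ : Ideal S₁) (_ : q₁.IsPrime) (U : Set (PrimeSpectrum B)), IsOpen U ∧ w.1 ∈ U ∧
      q₁.comap (algebraMap B S₁) = w.1.asIdeal ∧
      q₁.LiesOver p₁ ∧ FlatCA.IsEtaleNhd A R₁ p p₁ ∧ Algebra.Etale B S₁ ∧
      (Dev R₁ p₁ S₁ (S₁ ⊗[B] N) q₁ ∨ Subsingleton (S₁ ⊗[B] N)) ∧
      ∀ v ∈ U ∩ Fib, ∃ (v' : Ideal S₁) (_ : v'.IsPrime), v'.LiesOver p₁ ∧ v'.comap (algebraMap B S₁) = v.asIdeal := fun w =>
    haveI : w.1.asIdeal.LiesOver p := ⟨w.2.symm⟩
    exists_piece N p w.1.asIdeal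
  choose Ri Si cR cS aR aS aRS aRS' t1 t2 pi pI qi qI U hUo hwU hqw hqp hn het hcase hcov using hpiece
  obtain ⟨s, hs⟩ := (isCompact_fibre (S := B) p).elim_finite_subcover U hUo fun w hw =>
    Set.mem_iUnion.2 ⟨⟨w, hw⟩, hwU ⟨w, hw⟩⟩
  obtain ⟨A', _, _, p', _, hnR, hφ⟩ := exists_common_nhd p Ri pi hn s
  obtain ⟨hetR, hp'p, hbR⟩ := hnR
  haveI := hetR
  haveI := hp'p
  refine ⟨A', inferInstance, inferInstance, p', inferInstance, ⟨hetR, hp'p, hbR⟩, ?_⟩
  intro BA NA _ _ _ _ _ _ _ _ _ _ _ fA hfA
  haveI : Algebra.IsPushout A A' B BA := Algebra.IsPushout.symm inferInstance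
  haveI : Algebra.Etale B BA := RingHom.etale_algebraMap.1
    (RingHom.Etale.isStableUnderBaseChange A A' B BA (RingHom.etale_algebraMap.2 inferInstance))
  have hpieces : ∀ i : s, ∃ (T : Type u) (_ : CommRing T) (_ : Algebra BA T) (_ : Algebra A' T)
      (_ : IsScalarTower A' BA T), Algebra.Etale BA T ∧
      Nonempty (FlatCA.CompleteDevissage A' T (T ⊗[BA] NA) p') ∧
      ∀ (Q : Ideal BA) [Q.IsPrime], Q.LiesOver p' → ∀ v ∈ U i ∩ Fib, v.asIdeal = Q.comap (algebraMap B BA) →
        ∃ Q' : Ideal T, Q'.IsPrime ∧ Q'.comap (algebraMap BA T) = Q := by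
    intro i
    obtain ⟨φ, hφp⟩ := hφ i.1 i.2
    letI : Algebra (Ri i) A' := φ.toRingHom.toAlgebra
    haveI : IsScalarTower A (Ri i) A' := IsScalarTower.of_algebraMap_eq fun a => (φ.commutes a).symm
    obtain ⟨heti, hpip, hbi⟩ := hn i
    haveI := heti
    haveI := hpip
    haveI := het i
    haveI := hqp i
    haveI : p'.LiesOver (pi i) := ⟨hφp.symm⟩
    haveI : Algebra.Etale (Ri i) A' := Algebra.Etale.of_restrictScalars A (Ri i) A'
    have hres : Function.Surjective (Ideal.ResidueField.mapₐ (pi i) p' (Algebra.ofId (Ri i) A') (Ideal.over_def p' (pi i))) := by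
      intro z
      obtain ⟨b, rfl⟩ := hbR.2 z
      exact ⟨Ideal.ResidueField.mapₐ p (pi i) (Algebra.ofId A (Ri i)) hpip.over b, RingHom.congr_fun
        (Ideal.ResidueField.ringHom_ext
          (f := (Ideal.ResidueField.mapₐ (pi i) p' (Algebra.ofId (Ri i) A') (Ideal.over_def p' (pi i))).toRingHom.comp
            (Ideal.ResidueField.mapₐ p (pi i) (Algebra.ofId A (Ri i)) hpip.over).toRingHom)
          (g := (Ideal.ResidueField.mapₐ p p' (Algebra.ofId A A') hp'p.over).toRingHom)
          (RingHom.ext fun r => by simpa using (IsScalarTower.algebraMap_apply A (Ri i) A' r).symm ▸ rfl)) b⟩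
    let T := A' ⊗[Ri i] Si i
    letI aST : Algebra (Si i) T := Algebra.TensorProduct.rightAlgebra
    haveI : IsScalarTower (Ri i) (Si i) T := IsScalarTower.of_algebraMap_eq fun a =>
      ((Algebra.TensorProduct.includeRight : Si i →ₐ[Ri i] T).commutes a).symm
    haveI : Algebra.IsPushout (Ri i) A' (Si i) T :=
      inferInstanceAs (Algebra.IsPushout (Ri i) A' (Si i) (A' ⊗[Ri i] Si i))
    haveI : Algebra.Etale (Si i) T := RingHom.etale_algebraMap.1
      (RingHom.Etale.isStableUnderBaseChange (Ri i) A' (Si i) T (RingHom.etale_algebraMap.2 inferInstance))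
    letI aS0T : Algebra B T := ((algebraMap (Si i) T).comp (algebraMap B (Si i))).toAlgebra
    haveI : IsScalarTower B (Si i) T := IsScalarTower.of_algebraMap_eq fun _ => rfl
    haveI : Algebra.Etale B T := Algebra.Etale.comp B (Si i) T
    haveI : IsScalarTower A B T := IsScalarTower.of_algebraMap_eq fun a => by
      show algebraMap A T a = algebraMap (Si i) T (algebraMap B (Si i) (algebraMap A B a))
      rw [← IsScalarTower.algebraMap_apply A B (Si i), IsScalarTower.algebraMap_apply A (Ri i) (Si i),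
        ← IsScalarTower.algebraMap_apply (Ri i) (Si i) T, IsScalarTower.algebraMap_apply (Ri i) A' T,
        ← IsScalarTower.algebraMap_apply A (Ri i) A', ← IsScalarTower.algebraMap_apply A A' T]
    haveI : IsScalarTower A (Si i) T := IsScalarTower.of_algebraMap_eq fun a => by
      rw [IsScalarTower.algebraMap_apply A B T, IsScalarTower.algebraMap_apply B (Si i) T,
        ← IsScalarTower.algebraMap_apply A B (Si i)]
    haveI : Algebra.IsPushout A B A' BA := inferInstance
    let φ' : BA →ₐ[A] T :=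
      (Algebra.TensorProduct.lift (IsScalarTower.toAlgHom A B T) (IsScalarTower.toAlgHom A A' T)
        fun _ _ => Commute.all _ _).comp
        ((Algebra.IsPushout.equiv A B A' BA).symm.toAlgHom.restrictScalars A)
    letI : Algebra BA T := φ'.toRingHom.toAlgebra
    haveI : IsScalarTower A' BA T := IsScalarTower.of_algebraMap_eq fun a => by
      show algebraMap A' T a = φ' (algebraMap A' BA a)
      have h1 : (Algebra.IsPushout.equiv A B A' BA).symm (algebraMap A' BA a) = (1 : B) ⊗ₜ[A] a := by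
        rw [AlgEquiv.symm_apply_eq, Algebra.IsPushout.equiv_tmul, map_one, one_mul]
      simp [φ', h1]
    haveI : IsScalarTower B BA T := IsScalarTower.of_algebraMap_eq fun a => by
      show algebraMap B T a = φ' (algebraMap B BA a)
      simp [φ']
    haveI : Algebra.Etale BA T := Algebra.Etale.of_restrictScalars B BA T
    let M := Si i ⊗[B] N
    let e : T ⊗[Si i] M ≃ₗ[T] T ⊗[BA] NA :=
      (TensorProduct.AlgebraTensorModule.cancelBaseChange B (Si i) T T N).trans
        (hfA.comp (TensorProduct.isBaseChange BA NA T)).equiv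
    refine ⟨T, inferInstance, inferInstance, inferInstance, inferInstance, inferInstance, ?_, fun Q _ hQ v hv hvQ => ?_⟩
    · rcases hcase i with hdev | hsub
      · obtain ⟨w, hwI, hwp, hwq, -⟩ := exists_prime_tensor (pi i) p' (qi i) hres
        haveI := hwI
        obtain ⟨D, -⟩ := (Dev.congr (N := T ⊗[Si i] M) (N₁ := T ⊗[BA] NA) e
          (hdev.baseChange p' ⟨inferInstance, inferInstance, bijective_mapₐ_of_surjective inferInstance hres⟩ T w
            hwp.over.symm hwq.symm (TensorProduct.mk (Si i) T M 1)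
            (TensorProduct.isBaseChange (Si i) M T))).hasCompleteDevissageAt
        exact ⟨D⟩
      · haveI := hsub
        haveI : Subsingleton (T ⊗[BA] NA) := e.symm.injective.subsingleton
        exact nonempty_completeDevissage_of_subsingleton A' T _ p'
    · obtain ⟨v', _, hv'p, hv'v⟩ := hcov i v hv
      haveI := hv'p
      obtain ⟨w, hwI, hwp, hw, -⟩ := exists_prime_tensor (pi i) p' v' hres
      refine ⟨w, hwI, ?_⟩
      haveI := hwI
      haveI : (w.comap (algebraMap BA T)).LiesOver p' := ⟨by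
        show p' = (w.comap (algebraMap BA T)).comap (algebraMap A' BA)
        rw [Ideal.comap_comap, ← IsScalarTower.algebraMap_eq]
        exact hwp.over⟩
      haveI := hQ
      refine eq_of_comap_eq (C₁ := B) p p' hbR.2 _ Q inferInstance hQ ?_
      rw [Ideal.comap_comap, ← IsScalarTower.algebraMap_eq, IsScalarTower.algebraMap_eq B (Si i) T, ← Ideal.comap_comap]
      exact ((congrArg (Ideal.comap _) hw.symm).trans hv'v).trans hvQ
  choose T cT aBT aAT tT hetT hdevT hcovT using hpieces
  let σ := (Finset.equivFin s).symm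
  refine ⟨s.card, fun j => T (σ j), inferInstance, inferInstance, inferInstance, inferInstance,
    fun j => T (σ j) ⊗[BA] NA, inferInstance, inferInstance, inferInstance, inferInstance,
    fun j => TensorProduct.mk BA (T (σ j)) NA 1,
    fun j => ⟨hetT _, TensorProduct.isBaseChange BA NA _, hdevT _⟩, fun Q _ hQ => ?_⟩
  let q := Q.comap (algebraMap B BA)
  have hq : (⟨q, inferInstance⟩ : PrimeSpectrum B) ∈ Fib := by
    show (Q.comap (algebraMap B BA)).comap (algebraMap A B) = p
    rw [Ideal.comap_comap, ← IsScalarTower.algebraMap_eq, IsScalarTower.algebraMap_eq A A' BA, ← Ideal.comap_comap]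
    exact (congrArg (Ideal.comap _) hQ.over.symm).trans (Ideal.over_def p' p).symm
  obtain ⟨i, hi, hqi⟩ := Set.mem_iUnion₂.1 (hs hq)
  obtain ⟨j, hj⟩ : ∃ j, σ j = ⟨i, hi⟩ := ⟨Finset.equivFin s ⟨i, hi⟩, Equiv.symm_apply_apply _ _⟩
  obtain ⟨Q', hQ'⟩ := hcovT (σ j) Q hQ _ ⟨by rw [hj]; exact hqi, hq⟩ rfl
  exact ⟨j, Q', hQ'⟩

end DevissExLib
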