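import Groth.Prelude
import Groth.Agent.DevissExLib.ChainBC
import Mathlib

/-!
# Base change of chains along flat quasi-finite maps with trivial residue extension
-/

set_option autoImplicit false
set_option linter.all false

universe u

open CategoryTheory CategoryTheory.Limits AlgebraicGeometry
open scoped TensorProduct

namespace DevissExLib

section BaseChange

variable {R : Type u} [CommRing R] {p : Ideal R} [p.IsPrime] {S : Type u} [CommRing S] [Algebra R S]
  {N : Type u} [AddCommGroup N] [Module S N] {q : Ideal S} (E : Step R p S N q)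

/-- Base change of a step along compatible flat maps. -/
theorem Step.dev_baseChange'
    {R' S' D' C' : Type u} [CommRing R'] [CommRing S'] [CommRing D'] [CommRing C']
    [Algebra R R'] [Algebra.QuasiFinite R R'] (p' : Ideal R') [p'.IsPrime] [p'.LiesOver p]
    (hresp : Function.Surjective (Ideal.ResidueField.mapₐ p p' (Algebra.ofId R R') (Ideal.over_def p' p)))
    [Algebra R' S'] [Algebra S S'] [Algebra R' D'] [Algebra E.D D'] [Algebra R D']
    [IsScalarTower R R' D'] [IsScalarTower R E.D D'] [Module.Flat E.D D']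
    [Algebra S' C'] [Algebra D' C'] [Algebra E.C C'] [Algebra S C'] [Algebra E.D C']
    [IsScalarTower S S' C'] [IsScalarTower S E.C C'] [IsScalarTower E.D D' C'] [IsScalarTower E.D E.C C']
    [Algebra.IsPushout S S' E.C C'] [Algebra.IsPushout E.D D' E.C C']
    (hcomm : ∀ a : R', algebraMap S' C' (algebraMap R' S' a) = algebraMap D' C' (algebraMap R' D' a))
    (y' : Ideal D') [y'.IsPrime] [y'.LiesOver p'] [y'.LiesOver E.y]
    (hresy : Function.Surjective (Ideal.ResidueField.mapₐ E.y y' (Algebra.ofId E.D D') (Ideal.over_def y' E.y)))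
    (hsm : FlatCA.SmoothRelDim E.n R' D') (hgi : FlatCA.GeomIrredFibres R' D')
    (q' : Ideal S')
    (hq' : ∀ (z' : Ideal C') [z'.IsPrime], z'.LiesOver y' → z'.comap (algebraMap E.C C') = E.z →
      z'.comap (algebraMap S' C') = q')
    {N' : Type u} [AddCommGroup N'] [Module S' N'] [Module S N'] [IsScalarTower S S' N']
    (f : N →ₗ[S] N') (hf : IsBaseChange S' f)
    (htail : (∀ x : E.G, ∃ d : E.D, IsUnit (algebraMap E.D D' d) ∧ d • x ∈ E.M) ∨
      ∀ (T : Type u) [AddCommGroup T] [Module D' T] [Module E.D T] [IsScalarTower E.D D' T]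
      (g : (E.G ⧸ E.M) →ₗ[E.D] T), IsBaseChange D' g → Dev R' p' D' T y') :
    Dev R' p' S' N' q' := by
  classical
  have hsq : IsPullback (Spec.map (CommRingCat.ofHom (algebraMap D' C'))) (Spec.map (CommRingCat.ofHom (algebraMap E.C C')))
      (Spec.map (CommRingCat.ofHom (algebraMap E.D D'))) (Spec.map (CommRingCat.ofHom (algebraMap E.D E.C))) :=
    isPullback_SpecMap_of_isPushout _ _ _ _ (CommRingCat.isPushout_iff_isPushout.mpr ‹Algebra.IsPushout E.D D' E.C C'›)
  obtain ⟨zz, hzy, hzz⟩ := Scheme.exists_preimage_of_isPullback hsq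
    (⟨y', inferInstance⟩ : PrimeSpectrum D') (⟨E.z, inferInstance⟩ : PrimeSpectrum E.C)
    (PrimeSpectrum.ext ((Ideal.over_def y' E.y).symm.trans (Ideal.over_def E.z E.y)))
  let z' := zz.asIdeal
  haveI : z'.IsPrime := zz.isPrime
  haveI hz'y : z'.LiesOver y' := ⟨(congrArg PrimeSpectrum.asIdeal hzy).symm⟩
  have hz'z : z'.comap (algebraMap E.C C') = E.z := congrArg PrimeSpectrum.asIdeal hzz
  let G' := C' ⊗[E.C] E.G
  let eD' : G' ≃ₗ[D'] D' ⊗[E.D] E.G := Algebra.IsPushout.cancelBaseChange E.D D' E.C C' E.G
  let fG : E.G →ₗ[E.D] G' := ((TensorProduct.mk E.C C' E.G 1).restrictScalars E.D)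
  have hfG : IsBaseChange D' fG := IsBaseChange.of_equiv eD'.symm fun x => by
    rw [LinearEquiv.symm_apply_eq]
    exact (Algebra.IsPushout.cancelBaseChange_tmul E.D D' E.C C' E.G x).symm
  obtain ⟨eN⟩ := E.iso
  let eS : N' ≃ₗ[S'] G' := hf.equiv.symm.trans
    ((TensorProduct.AlgebraTensorModule.congr (LinearEquiv.refl S' S') eN).trans
      (Algebra.IsPushout.cancelBaseChange S S' E.C C' E.G).symm)
  haveI := E.finDC
  haveI := E.finCG
  haveI := E.fp
  have hfp : Algebra.FinitePresentation S' C' := by
    haveI : Algebra.FinitePresentation S' (S' ⊗[S] E.C) := inferInstance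
    exact Algebra.FinitePresentation.equiv (Algebra.IsPushout.equiv S S' E.C C')
  have hsurj : Function.Surjective (algebraMap S' C') := by
    intro c
    obtain ⟨w, rfl⟩ := (Algebra.IsPushout.equiv S S' E.C C').surjective c
    induction w using TensorProduct.induction_on with
    | zero => exact ⟨0, by simp⟩
    | tmul s c =>
      obtain ⟨t, rfl⟩ := E.surj c
      refine ⟨s * algebraMap S S' t, ?_⟩
      rw [Algebra.IsPushout.equiv_tmul, map_mul, ← IsScalarTower.algebraMap_apply,
        ← IsScalarTower.algebraMap_apply]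
    | add u v hu hv =>
      obtain ⟨a, ha⟩ := hu; obtain ⟨b, hb⟩ := hv
      exact ⟨a + b, by rw [map_add, map_add, ha, hb]⟩
  haveI hfin : Module.Finite D' C' :=
    Module.Finite.equiv (Algebra.IsPushout.equiv E.D D' E.C C').toLinearEquiv
  let v' : Fin E.r → G' := fun i => 1 ⊗ₜ E.v i
  have huniq : ∀ (z₁ : Ideal C') [z₁.IsPrime], z₁.LiesOver y' → z₁ = z' := by
    intro z₁ _ h₁
    refine eq_of_comap_eq (C₁ := E.C) E.y y' hresy z₁ z' h₁ hz'y ?_
    rw [hz'z]
    haveI := h₁
    haveI : (z₁.comap (algebraMap E.C C')).LiesOver E.y := ⟨by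
      show E.y = (z₁.comap (algebraMap E.C C')).comap (algebraMap E.D E.C)
      rw [Ideal.comap_comap, ← IsScalarTower.algebraMap_eq, IsScalarTower.algebraMap_eq E.D D' C',
        ← Ideal.comap_comap]
      exact (Ideal.over_def y' E.y).trans (congrArg (Ideal.comap _) h₁.over)⟩
    exact E.uniq _ inferInstance
  have hpt : FlatCA.PurelyTranscendental p' y' :=
    purelyTranscendental_of_bijective (S := E.D) p p' E.y y' hresp hresy E.pureTrans
  have hbasis : ∀ (P' : Ideal D') [P'.IsPrime], P' = p'.map (algebraMap R' D') →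
      ∃ b : Module.Basis (Fin E.r) P'.ResidueField (P'.ResidueField ⊗[D'] G'), ∀ i, b i = 1 ⊗ₜ v' i := by
    intro P' _ hP'
    haveI : Algebra.Smooth R E.D := smooth_of_smoothRelDim E.smooth
    haveI : Algebra.Smooth R' D' := smooth_of_smoothRelDim hsm
    haveI := DevissFreeLib.isDomain_fibre E.geomIrred p
    let P := p.map (algebraMap R E.D)
    have hPP : P'.comap (algebraMap E.D D') = P := by
      haveI : P.IsPrime := map_isPrime_of_geomIrred E.geomIrred p
      exact (comap_generic p p' P rfl (DevissFreeLib.comap_map_eq E.geomIrred p) P' hP'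
        (hP' ▸ DevissFreeLib.comap_map_eq hgi p')).symm
    haveI : (P'.comap (algebraMap E.D D')).IsPrime := inferInstance
    let K := (P'.comap (algebraMap E.D D')).ResidueField
    let K' := P'.ResidueField
    obtain ⟨b, hb⟩ := E.basis (P'.comap (algebraMap E.D D')) hPP
    letI : Algebra K K' := (Ideal.ResidueField.map _ P' (algebraMap E.D D') rfl).toAlgebra
    haveI : IsScalarTower E.D K K' := IsScalarTower.of_algebraMap_eq fun a => by
      show _ = Ideal.ResidueField.map _ P' (algebraMap E.D D') rfl (algebraMap E.D K a)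
      rw [Ideal.ResidueField.map_algebraMap, IsScalarTower.algebraMap_apply E.D D' K']
    let e₁ : K' ⊗[D'] G' ≃ₗ[K'] K' ⊗[D'] (D' ⊗[E.D] E.G) :=
      TensorProduct.AlgebraTensorModule.congr (LinearEquiv.refl K' K') eD'
    let e₂ := TensorProduct.AlgebraTensorModule.cancelBaseChange E.D D' K' K' E.G
    let e₃ := TensorProduct.AlgebraTensorModule.cancelBaseChange E.D K K' K' E.G
    refine ⟨(Algebra.TensorProduct.basis K' b).map (e₃.trans (e₂.symm.trans e₁.symm)), fun i => ?_⟩
    rw [Module.Basis.map_apply, Algebra.TensorProduct.basis_apply, hb]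
    simp only [LinearEquiv.trans_apply]
    rw [TensorProduct.AlgebraTensorModule.cancelBaseChange_tmul, one_smul,
      TensorProduct.AlgebraTensorModule.cancelBaseChange_symm_tmul, LinearEquiv.symm_apply_eq]
    show _ = (1 : K') ⊗ₜ[D'] (Algebra.IsPushout.cancelBaseChange E.D D' E.C C' E.G) (1 ⊗ₜ[E.C] E.v i)
    rw [Algebra.IsPushout.cancelBaseChange_tmul]
  let E' : Step R' p' S' N' q' :=
    { C := C', D := D', G := G', comm := hcomm, r := E.r, rpos := E.rpos, n := E.n, v := v'
      y := y', z := z', zq := hq' z' hz'y hz'z, surj := hsurj, fp := hfp, finDC := hfin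
      finCG := inferInstance, iso := ⟨eS⟩, smooth := hsm, geomIrred := hgi, pureTrans := hpt
      uniq := huniq, basis := hbasis }
  have hM : E'.M = Submodule.span D' (fG '' E.M) := by
    show Submodule.span D' (Set.range v') = _
    refine le_antisymm (Submodule.span_mono ?_) (Submodule.span_le.2 ?_)
    · rintro _ ⟨i, rfl⟩
      exact ⟨E.v i, Submodule.subset_span ⟨i, rfl⟩, rfl⟩
    · rintro _ ⟨m, hm, rfl⟩
      exact (Submodule.span_le (p := ((Submodule.span D' (Set.range v')).restrictScalars E.D).comap fG)).2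
        (by rintro _ ⟨i, rfl⟩; exact Submodule.subset_span ⟨i, rfl⟩) hm
  rcases htail with h | h
  · refine .last S' N' q' E' (eq_top_iff.2 fun x _ => ?_)
    rw [hM]
    refine hfG.inductionOn x _ (zero_mem _) (fun m => ?_)
      (fun c n hn => Submodule.smul_mem _ c hn) (fun _ _ => add_mem)
    obtain ⟨d, ⟨w, hw⟩, hd⟩ := h m
    rw [show fG m = (↑w⁻¹ : D') • fG (d • m) by
      rw [map_smul, ← algebraMap_smul D' d, smul_smul, ← hw, Units.inv_mul, one_smul]]
    exact Submodule.smul_mem _ _ (Submodule.subset_span ⟨d • m, hd, rfl⟩)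
  · obtain ⟨g, hg, -⟩ := isBaseChange_quotient fG hfG E.M E'.M hM
    exact .cons S' N' q' E' (h _ g hg)

end BaseChange

/-- Dévissages are stable under flat quasi-finite changes of the base with trivial residue extension. -/
theorem Dev.baseChange' {R : Type u} [CommRing R] {p : Ideal R} [p.IsPrime] {S : Type u} [CommRing S]
    [Algebra R S] {N : Type u} [AddCommGroup N] [Module S N] {q : Ideal S} (h : Dev R p S N q)
    {R' : Type u} [CommRing R'] [Algebra R R'] (p' : Ideal R') [p'.IsPrime] [Algebra.QuasiFinite R R'] [Module.Flat R R']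
    (hover : p'.LiesOver p)
    (hbij : Function.Surjective (Ideal.ResidueField.mapₐ p p' (Algebra.ofId R R') hover.over))
    (S' : Type u) [CommRing S'] [Algebra R' S'] [Algebra S S'] [Algebra R S'] [IsScalarTower R R' S']
    [IsScalarTower R S S'] [Algebra.IsPushout R R' S S'] (q' : Ideal S') [q'.IsPrime]
    (hq'p : q'.comap (algebraMap R' S') = p') (hq'q : q'.comap (algebraMap S S') = q)
    {N' : Type u} [AddCommGroup N'] [Module S' N'] [Module S N'] [IsScalarTower S S' N']
    (f : N →ₗ[S] N') (hf : IsBaseChange S' f) : Dev R' p' S' N' q' := by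
  induction h generalizing S' N' with
  | last S N q E hE =>
    exact step_bc E p' hover hbij S' q' hq'p hq'q f hf (Or.inl hE)
  | cons S N q E hE ih =>
    refine step_bc E p' hover hbij S' q' hq'p hq'q f hf (Or.inr ?_)
    intro D' _ _ _ _ _ _ _ y' _ hy'p hy'y T _ _ _ _ g hg
    exact ih D' y' hy'p hy'y g hg
where
  step_bc {R : Type u} [CommRing R] {p : Ideal R} [p.IsPrime] {S : Type u} [CommRing S] [Algebra R S]
    {N : Type u} [AddCommGroup N] [Module S N] {q : Ideal S} (E : Step R p S N q)
    {R' : Type u} [CommRing R'] [Algebra R R'] (p' : Ideal R') [p'.IsPrime] [Algebra.QuasiFinite R R'] [Module.Flat R R']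
    (hover : p'.LiesOver p)
    (hbij : Function.Surjective (Ideal.ResidueField.mapₐ p p' (Algebra.ofId R R') hover.over))
    (S' : Type u) [CommRing S'] [Algebra R' S'] [Algebra S S'] [Algebra R S'] [IsScalarTower R R' S']
    [IsScalarTower R S S'] [Algebra.IsPushout R R' S S'] (q' : Ideal S') [q'.IsPrime]
    (hq'p : q'.comap (algebraMap R' S') = p') (hq'q : q'.comap (algebraMap S S') = q)
    {N' : Type u} [AddCommGroup N'] [Module S' N'] [Module S N'] [IsScalarTower S S' N']
    (f : N →ₗ[S] N') (hf : IsBaseChange S' f)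
    (htail : E.M = ⊤ ∨ ∀ (D' : Type u) [CommRing D'] [Algebra R' D'] [Algebra E.D D'] [Algebra R D']
      [IsScalarTower R R' D'] [IsScalarTower R E.D D'] [Algebra.IsPushout R R' E.D D'] (y' : Ideal D')
      [y'.IsPrime], y'.comap (algebraMap R' D') = p' → y'.comap (algebraMap E.D D') = E.y →
      ∀ (T : Type u) [AddCommGroup T] [Module D' T] [Module E.D T] [IsScalarTower E.D D' T]
        (g : (E.G ⧸ E.M) →ₗ[E.D] T), IsBaseChange D' g → Dev R' p' D' T y') :
      Dev R' p' S' N' q' := by
    haveI := hover
    let D' := R' ⊗[R] E.D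
    obtain ⟨y', hy'I, hy'p, hy, hsurj⟩ := exists_prime_tensor p p' E.y hbij
    haveI := hy'I
    haveI := hy'p
    letI aDD' : Algebra E.D D' := Algebra.TensorProduct.rightAlgebra
    haveI : IsScalarTower R E.D D' := IsScalarTower.of_algebraMap_eq fun a =>
      ((Algebra.TensorProduct.includeRight : E.D →ₐ[R] D').commutes a).symm
    haveI hpD : Algebra.IsPushout R R' E.D D' := inferInstanceAs (Algebra.IsPushout R R' E.D (R' ⊗[R] E.D))
    haveI : Module.Flat E.D D' := RingHom.flat_algebraMap_iff.1
      (RingHom.Flat.isStableUnderBaseChange R R' E.D D' (RingHom.flat_algebraMap_iff.2 inferInstance))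
    haveI hyy : y'.LiesOver E.y := ⟨hy⟩
    have hresy : Function.Surjective
        (Ideal.ResidueField.mapₐ E.y y' (Algebra.ofId E.D D') (Ideal.over_def y' E.y)) := by
      intro w
      obtain ⟨c, hc⟩ := hsurj w
      exact ⟨c, hc⟩
    let C' := S' ⊗[S] E.C
    letI aRC : Algebra R E.C := ((algebraMap S E.C).comp (algebraMap R S)).toAlgebra
    haveI : IsScalarTower R S E.C := IsScalarTower.of_algebraMap_eq fun _ => rfl
    haveI : IsScalarTower R E.D E.C := IsScalarTower.of_algebraMap_eq fun a => E.comm a
    letI aCC' : Algebra E.C C' := Algebra.TensorProduct.rightAlgebra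
    haveI : IsScalarTower S E.C C' := IsScalarTower.of_algebraMap_eq fun a =>
      ((Algebra.TensorProduct.includeRight : E.C →ₐ[S] C').commutes a).symm
    haveI hpC : Algebra.IsPushout S S' E.C C' := inferInstanceAs (Algebra.IsPushout S S' E.C (S' ⊗[S] E.C))
    haveI : IsScalarTower R S C' := inferInstanceAs (IsScalarTower R S (S' ⊗[S] E.C))
    haveI : IsScalarTower R R' C' := inferInstanceAs (IsScalarTower R R' (S' ⊗[S] E.C))
    haveI : IsScalarTower R S' C' := inferInstanceAs (IsScalarTower R S' (S' ⊗[S] E.C))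
    haveI : IsScalarTower R' S' C' := inferInstanceAs (IsScalarTower R' S' (S' ⊗[S] E.C))
    haveI : IsScalarTower R E.C C' := IsScalarTower.of_algebraMap_eq fun a => by
      rw [IsScalarTower.algebraMap_apply R S C', IsScalarTower.algebraMap_apply S E.C C',
        ← IsScalarTower.algebraMap_apply R S E.C]
    let ψ : D' →ₐ[R'] C' := Algebra.TensorProduct.lift (Algebra.ofId R' C')
      ((IsScalarTower.toAlgHom R E.C C').comp (IsScalarTower.toAlgHom R E.D E.C))
      (fun _ _ => Commute.all _ _)
    letI aD'C' : Algebra D' C' := ψ.toRingHom.toAlgebra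
    haveI : IsScalarTower R' D' C' := IsScalarTower.of_algebraMap_eq fun a => (ψ.commutes a).symm
    letI aDC' : Algebra E.D C' := ((algebraMap E.C C').comp (algebraMap E.D E.C)).toAlgebra
    haveI : IsScalarTower E.D E.C C' := IsScalarTower.of_algebraMap_eq fun _ => rfl
    haveI : IsScalarTower E.D D' C' := IsScalarTower.of_algebraMap_eq fun d => by
      show _ = ψ ((1 : R') ⊗ₜ[R] d)
      rw [Algebra.TensorProduct.lift_tmul, map_one, one_mul]
      rfl
    haveI : IsScalarTower R E.D C' := IsScalarTower.of_algebraMap_eq fun a => by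
      show _ = algebraMap E.C C' (algebraMap E.D E.C (algebraMap R E.D a))
      rw [← E.comm, ← IsScalarTower.algebraMap_apply R S E.C, ← IsScalarTower.algebraMap_apply R E.C C']
    haveI : IsScalarTower R D' C' := IsScalarTower.of_algebraMap_eq fun a => by
      rw [IsScalarTower.algebraMap_apply R E.D D', ← IsScalarTower.algebraMap_apply E.D D' C',
        ← IsScalarTower.algebraMap_apply]
    haveI hCR : Algebra.IsPushout R E.C R' C' := by
      haveI : Algebra.IsPushout R S R' S' := Algebra.IsPushout.symm inferInstance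
      exact (Algebra.IsPushout.comp_iff R S R' S').2 (Algebra.IsPushout.symm hpC)
    haveI : Algebra.IsPushout E.D D' E.C C' := by
      haveI : Algebra.IsPushout R E.D R' D' := Algebra.IsPushout.symm hpD
      exact Algebra.IsPushout.symm ((Algebra.IsPushout.comp_iff R E.D R' D').1 hCR)
    refine E.dev_baseChange' (R' := R') (S' := S') (D' := D') (C' := C') p' hbij ?_ y' hresy
      (smoothRelDim_tensor R' E.smooth) (DevissFreeLib.geomIrred_baseChange R' E.geomIrred) q' ?_ f hf ?_
    · intro a
      rw [← IsScalarTower.algebraMap_apply, ← IsScalarTower.algebraMap_apply]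
    · intro z' _ hz' hz'z
      haveI : (z'.comap (algebraMap S' C')).LiesOver p' := ⟨by
        show p' = (z'.comap (algebraMap S' C')).comap (algebraMap R' S')
        rw [Ideal.comap_comap, ← IsScalarTower.algebraMap_eq, IsScalarTower.algebraMap_eq R' D' C',
          ← Ideal.comap_comap]
        exact (Ideal.over_def y' p').trans (congrArg (Ideal.comap _) hz'.over)⟩
      refine eq_of_comap_eq (C₁ := S) p p' hbij _ q' inferInstance ⟨hq'p.symm⟩ ?_
      rw [hq'q, Ideal.comap_comap, ← IsScalarTower.algebraMap_eq, IsScalarTower.algebraMap_eq S E.C C',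
        ← Ideal.comap_comap, hz'z]
      exact E.zq
    · rcases htail with h | h
      · exact Or.inl fun x => ⟨1, by rw [map_one]; exact isUnit_one, h ▸ Submodule.mem_top⟩
      · exact Or.inr fun T => h D' y' (Ideal.over_def y' p').symm hy.symm T

end DevissExLib
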