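import Groth.Prelude
import Groth.Agent.DevissExLib.ChainBCFlat
import Groth.Agent.DevissExLib.Complete
import Groth.Agent.DevissExLib.FlatEtale
import Groth.Agent.S1253
import Groth.Agent.S9350
import Groth.Agent.DevissExLib.Projective
import Mathlib

/-!
# Freeness over the local ring of an étale neighbourhood
-/

set_option autoImplicit false
set_option linter.all false

universe u

open AlgebraicGeometry CategoryTheory
open scoped TensorProduct

namespace DevissExLib

/-- Residue surjectivity composes. -/
theorem surjective_residue_comp {A B C : Type u} [CommRing A] [CommRing B] [CommRing C] [Algebra A B] [Algebra B C]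
    [Algebra A C] [IsScalarTower A B C] (a : Ideal A) (b : Ideal B) (c : Ideal C) [a.IsPrime] [b.IsPrime] [c.IsPrime]
    [hab : b.LiesOver a] [hbc : c.LiesOver b] [hac : c.LiesOver a]
    (h1 : Function.Surjective (Ideal.ResidueField.map a b (algebraMap A B) hab.over))
    (h2 : Function.Surjective (Ideal.ResidueField.map b c (algebraMap B C) hbc.over)) :
    Function.Surjective (Ideal.ResidueField.map a c (algebraMap A C) hac.over) := by
  rw [show Ideal.ResidueField.map a c (algebraMap A C) hac.over =
      (Ideal.ResidueField.map b c (algebraMap B C) hbc.over).comp (Ideal.ResidueField.map a b (algebraMap A B) hab.over)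
    from Ideal.ResidueField.ringHom_ext (RingHom.ext fun r => by
      simp only [RingHom.comp_apply, Ideal.ResidueField.map_algebraMap]
      rw [← IsScalarTower.algebraMap_apply A B C])]
  exact h2.comp h1

/-- Finite presentation of modules descends along faithfully flat algebras. -/
theorem finitePresentation_of_faithfullyFlat {B : Type u} [CommRing B] (B' : Type u) [CommRing B'] [Algebra B B']
    [Module.FaithfullyFlat B B'] (M : Type u) [AddCommGroup M] [Module B M]
    [Module.FinitePresentation B' (B' ⊗[B] M)] : Module.FinitePresentation B M := by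
  haveI : Module.Finite B M := Module.Finite.of_finite_tensorProduct_of_faithfullyFlat B'
  obtain ⟨n, f, hf⟩ := Module.Finite.exists_fin' B M
  refine Module.finitePresentation_of_surjective f hf ?_
  rw [← Module.Finite.iff_fg]
  let g : B' ⊗[B] (LinearMap.ker f) →ₗ[B'] B' ⊗[B] (Fin n → B) := (LinearMap.ker f).subtype.baseChange B'
  have hex : Function.Exact g (f.baseChange B') := lTensor_exact B' (LinearMap.exact_subtype_ker_map f) hf
  have hsurj : Function.Surjective (f.baseChange B') := LinearMap.lTensor_surjective B' hf
  have hg : Function.Injective g :=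
    Module.Flat.lTensor_preserves_injective_linearMap _ (LinearMap.ker f).injective_subtype
  haveI : Module.Finite B' (B' ⊗[B] (LinearMap.ker f)) := by
    haveI : Module.Finite B' (LinearMap.range g) := by
      rw [Module.Finite.iff_fg, ← hex.linearMap_ker_eq]
      exact Module.FinitePresentation.fg_ker _ hsurj
    exact Module.Finite.equiv (LinearEquiv.ofInjective g hg).symm
  exact Module.Finite.of_finite_tensorProduct_of_faithfullyFlat B'

/-- Flatness at a point, after a flat base change of the acting ring. -/
theorem flatAt_of_flatAt {R A S C : Type u} [CommRing R] [CommRing A] [CommRing S] [CommRing C] [Algebra R A]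
    [Algebra.FormallyUnramified R A] [Algebra.EssFiniteType R A]
    [Algebra R S] [Algebra A C] [Algebra S C] [Algebra R C] [IsScalarTower R A C] [IsScalarTower R S C]
    [Module.Flat S C]
    (N : Type u) [AddCommGroup N] [Module S N] [Module R N] [IsScalarTower R S N] (q : Ideal S) [q.IsPrime]
    (x : Ideal C) [x.IsPrime] [x.LiesOver q] (h : FlatCA.FlatAt R q N)
    {M : Type u} [AddCommGroup M] [Module C M] [Module S M] [IsScalarTower S C M] [Module A M] [IsScalarTower A C M]
    (f : N →ₗ[S] M) (hf : IsBaseChange C f) : FlatCA.FlatAt A x M := by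
  let Sq := Localization.AtPrime q
  let Cx := Localization.AtPrime x
  let Nq := LocalizedModule q.primeCompl N
  letI := Localization.AtPrime.algebraOfLiesOver q x
  haveI : Module.Flat C Cx := IsLocalization.flat Cx x.primeCompl
  haveI : Module.Flat S Cx := Module.Flat.trans S C Cx
  haveI : Module.Flat Sq Cx := (Module.flat_iff_of_isLocalization Sq q.primeCompl Cx).2 inferInstance
  haveI : Module.Flat R Nq := h
  haveI : IsScalarTower R Sq Cx := IsScalarTower.of_algebraMap_eq fun a => by
    rw [IsScalarTower.algebraMap_apply R S Sq, ← IsScalarTower.algebraMap_apply S Sq Cx,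
      ← IsScalarTower.algebraMap_apply R S Cx]
  haveI : Module.Flat R (Cx ⊗[Sq] Nq) := Groth.Agent.S9350.flat_tensor
  let L := LocalizedModule x.primeCompl M
  let g : N →ₗ[S] L := (LocalizedModule.mkLinearMap x.primeCompl M).restrictScalars S ∘ₗ f
  have hg : IsBaseChange Cx g := hf.comp (IsLocalizedModule.isBaseChange x.primeCompl Cx _)
  have h1 : IsBaseChange Sq (LocalizedModule.mkLinearMap q.primeCompl N) :=
    IsLocalizedModule.isBaseChange q.primeCompl Sq _
  let e : Cx ⊗[Sq] Nq ≃ₗ[Cx] L := (h1.comp (TensorProduct.isBaseChange Sq Nq Cx)).equiv.symm.trans hg.equiv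
  letI : Module R L := Module.compHom L (algebraMap R A)
  haveI : IsScalarTower R A L := IsScalarTower.of_algebraMap_smul fun _ _ => rfl
  haveI : Module.Flat R L := Module.Flat.of_linearEquiv
    ({ e.toAddEquiv with
        map_smul' := fun a z => by
          show e (a • z) = algebraMap R A a • e z
          rw [← algebraMap_smul Cx a z, map_smul, ← algebraMap_smul Cx (algebraMap R A a),
            ← IsScalarTower.algebraMap_apply] } : Cx ⊗[Sq] Nq ≃ₗ[R] L).symm
  exact flat_of_unramified (R := R) (R' := A) (M := L)

theorem exists_local_free {R S : Type u} [CommRing R] [CommRing S] [Algebra R S] [Algebra.FinitePresentation R S]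
    (N : Type u) [AddCommGroup N] [Module S N] [Module R N] [IsScalarTower R S N] [Module.Finite S N]
    (p : Ideal R) [p.IsPrime] (q : Ideal S) [q.IsPrime] [q.LiesOver p] (hflat : FlatCA.FlatAt R q N) :
    ∃ (R' : Type u) (_ : CommRing R') (_ : Algebra R R') (p' : Ideal R') (_ : p'.IsPrime), FlatCA.IsEtaleNhd R R' p p' ∧
      ∀ (SA NA : Type u) [CommRing SA] [Algebra R SA] [Algebra S SA] [Algebra (Localization.AtPrime p') SA]
        [IsScalarTower R S SA] [IsScalarTower R (Localization.AtPrime p') SA]
        [Algebra.IsPushout R S (Localization.AtPrime p') SA]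
        [AddCommGroup NA] [Module SA NA] [Module S NA] [IsScalarTower S SA NA]
        (f : N →ₗ[S] NA), IsBaseChange SA f →
        ∃ (C : Type u) (_ : CommRing C) (_ : Algebra SA C) (_ : Algebra (Localization.AtPrime p') C)
          (_ : IsScalarTower (Localization.AtPrime p') SA C) (_ : Algebra S C) (_ : IsScalarTower S SA C)
          (x' : Ideal C) (_ : x'.IsPrime) (hx : x'.LiesOver q),
          x'.LiesOver (IsLocalRing.maximalIdeal (Localization.AtPrime p')) ∧
          Algebra.Etale SA C ∧ Algebra.FinitePresentation (Localization.AtPrime p') C ∧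
          Function.Bijective (Ideal.ResidueField.mapₐ q x' (Algebra.ofId S C) hx.over) ∧
          Module.FinitePresentation C (C ⊗[SA] NA) ∧
          Module.Free (Localization.AtPrime p') (RestrictScalars (Localization.AtPrime p') C (C ⊗[SA] NA)) := by
  classical
  obtain ⟨R', S', _, _, _, _, _, _, _, _, p', q', _, _, ⟨hetR, hp'p, hbR⟩, ⟨hetS, hq'q, hbS⟩, hq'p', hcase⟩ :
      ∃ (R' S' : Type u) (_ : CommRing R') (_ : CommRing S') (_ : Algebra R R') (_ : Algebra S S') (_ : Algebra R' S')
        (_ : Algebra R S') (_ : IsScalarTower R R' S') (_ : IsScalarTower R S S')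
        (p' : Ideal R') (q' : Ideal S') (_ : p'.IsPrime) (_ : q'.IsPrime),
        FlatCA.IsEtaleNhd R R' p p' ∧ FlatCA.IsEtaleNhd S S' q q' ∧ q'.LiesOver p' ∧
          (Dev R' p' S' (S' ⊗[S] N) q' ∨ Subsingleton (S' ⊗[S] N)) := by
    let e := PrimeSpectrum.preimageEquivFiber R S ⟨p, inferInstance⟩
    let x := e ⟨⟨q, inferInstance⟩, PrimeSpectrum.ext (Ideal.over_def q p).symm⟩
    let ι : S →ₐ[R] p.Fiber S := Algebra.TensorProduct.includeRight
    have hxι : x.asIdeal.comap ι.toRingHom = q := congrArg (fun w => w.1.asIdeal) (e.symm_apply_apply _)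
    have hxq : x.asIdeal = FlatCA.fiberIdeal p q := by
      refine le_antisymm (fun f hf => ?_) (Ideal.map_le_iff_le_comap.2 hxι.ge)
      obtain ⟨t, ht, s, hs⟩ := FibAssLib.exists_incl_eq p f
      have hs' : s ∈ q := by
        rw [← hxι]
        show FibAssLib.incl S p s ∈ x.asIdeal
        rw [← hs]
        exact x.asIdeal.mul_mem_left _ hf
      refine (Ideal.unit_mul_mem_iff_mem _ (FibAssLib.isUnit_incl p ht)).1 ?_
      rw [hs]
      exact Ideal.mem_map_of_mem _ hs'
    by_cases hsupp : x ∈ Module.support (p.Fiber S) (FlatCA.fiberMod p S N)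
    · obtain ⟨n, hn⟩ := exists_localDim_support N p x hsupp
      obtain ⟨R', S', i1, i2, i3, i4, i5, i6, i7, i8, p', q', i9, i10, h1, h2, h3, h4⟩ :=
        exists_dev n N p q x hxq hsupp hn
      exact ⟨R', S', i1, i2, i3, i4, i5, i6, i7, i8, p', q', i9, i10, h1, h2, h3, Or.inl h4⟩
    · rw [mem_support_fiberMod_iff] at hsupp
      have hq : (⟨q, inferInstance⟩ : PrimeSpectrum S) ∉ Module.support S N := by
        convert! hsupp using 2
        exact PrimeSpectrum.ext hxι.symm
      rw [Module.support_eq_zeroLocus, PrimeSpectrum.mem_zeroLocus, SetLike.coe_subset_coe,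
        SetLike.not_le_iff_exists] at hq
      obtain ⟨f, hf, hfq⟩ := hq
      obtain ⟨q', _, hq'q, hnS⟩ := exists_away_prime f q hfq
      let S' := Localization.Away f
      haveI : p.LiesOver p := ⟨Ideal.ext fun _ => Iff.rfl⟩
      haveI : q'.LiesOver p := ⟨by
        show p = q'.comap (algebraMap R S')
        rw [IsScalarTower.algebraMap_eq R S S', ← Ideal.comap_comap, hq'q]
        exact Ideal.over_def q p⟩
      refine ⟨R, S', inferInstance, inferInstance, inferInstance, inferInstance, inferInstance, inferInstance,
        inferInstance, inferInstance, p, q', inferInstance, inferInstance,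
        ⟨inferInstance, inferInstance, bijective_mapₐ_of_surjective inferInstance fun z => ⟨z, RingHom.congr_fun
          (Ideal.ResidueField.ringHom_ext (g := RingHom.id p.ResidueField)
            (f := (Ideal.ResidueField.mapₐ p p (Algebra.ofId R R) (Ideal.over_def p p)).toRingHom)
            (RingHom.ext fun r => by simp)) z⟩⟩, hnS, inferInstance, Or.inr (subsingleton_of_forall_eq 0 fun z => ?_)⟩
      induction z using TensorProduct.induction_on with
      | zero => rfl
      | add a b ha hb => rw [ha, hb, add_zero]
      | tmul a m =>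
        obtain ⟨w, hw⟩ := IsLocalization.Away.algebraMap_isUnit (S := S') f
        rw [show a = (a * ↑w⁻¹) * algebraMap S S' f by rw [← hw, mul_assoc, Units.inv_mul, mul_one],
          ← Algebra.commutes, ← Algebra.smul_def, TensorProduct.smul_tmul, Module.mem_annihilator.1 hf,
          TensorProduct.tmul_zero]
  haveI := hetR
  haveI := hetS
  haveI := hp'p
  haveI := hq'q
  haveI := hq'p'
  refine ⟨R', inferInstance, inferInstance, p', inferInstance, ⟨hetR, hp'p, hbR⟩, ?_⟩
  intro SA NA _ _ _ _ _ _ _ _ _ _ _ f hf
  let A := Localization.AtPrime p'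
  let T := R' ⊗[R] S
  letI algST : Algebra S T := Algebra.TensorProduct.rightAlgebra
  haveI : IsScalarTower R S T := IsScalarTower.of_algebraMap_eq fun a =>
    ((Algebra.TensorProduct.includeRight : S →ₐ[R] T).commutes a).symm
  let ψ : T →ₐ[R'] S' :=
    Algebra.TensorProduct.lift (Algebra.ofId R' S') (IsScalarTower.toAlgHom R S S') fun _ _ => Commute.all _ _
  letI algTS' : Algebra T S' := ψ.toRingHom.toAlgebra
  haveI : IsScalarTower R' T S' := IsScalarTower.of_algebraMap_eq fun a => (ψ.commutes a).symm
  haveI : IsScalarTower S T S' := IsScalarTower.of_algebraMap_eq fun a => by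
    show algebraMap S S' a = ψ ((1 : R') ⊗ₜ[R] a)
    refine ((Algebra.TensorProduct.lift_tmul _ _ _ _ _).trans ?_).symm
    rw [map_one, one_mul]
    rfl
  haveI : Algebra.IsPushout R R' S T := inferInstanceAs (Algebra.IsPushout R R' S (R' ⊗[R] S))
  haveI : Algebra.Etale S T := RingHom.etale_algebraMap.1
    (RingHom.Etale.isStableUnderBaseChange R R' S T (RingHom.etale_algebraMap.2 inferInstance))
  haveI : Algebra.Etale T S' := Algebra.Etale.of_restrictScalars S T S'
  haveI : Algebra.FinitePresentation R S' := Algebra.FinitePresentation.trans R S S'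
  haveI : Algebra.FinitePresentation R' S' := Algebra.FinitePresentation.of_restrict_scalars_finitePresentation R R' S'
  letI algR'SA : Algebra R' SA := ((algebraMap A SA).comp (algebraMap R' A)).toAlgebra
  haveI : IsScalarTower R' A SA := IsScalarTower.of_algebraMap_eq fun _ => rfl
  haveI : IsScalarTower R R' SA := IsScalarTower.of_algebraMap_eq fun a => by
    show algebraMap R SA a = algebraMap A SA (algebraMap R' A (algebraMap R R' a))
    rw [← IsScalarTower.algebraMap_apply R R' A, ← IsScalarTower.algebraMap_apply R A SA]
  let χ : T →ₐ[R'] SA :=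
    Algebra.TensorProduct.lift (Algebra.ofId R' SA) (IsScalarTower.toAlgHom R S SA) fun _ _ => Commute.all _ _
  letI algTSA : Algebra T SA := χ.toRingHom.toAlgebra
  haveI : IsScalarTower R' T SA := IsScalarTower.of_algebraMap_eq fun a => (χ.commutes a).symm
  haveI : IsScalarTower S T SA := IsScalarTower.of_algebraMap_eq fun a => by
    show algebraMap S SA a = χ ((1 : R') ⊗ₜ[R] a)
    refine ((Algebra.TensorProduct.lift_tmul _ _ _ _ _).trans ?_).symm
    rw [map_one, one_mul]
    rfl
  haveI : IsScalarTower R T SA := IsScalarTower.of_algebraMap_eq fun a => by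
    rw [IsScalarTower.algebraMap_apply R R' T, ← IsScalarTower.algebraMap_apply R' T SA,
      ← IsScalarTower.algebraMap_apply R R' SA]
  haveI hpo0 : Algebra.IsPushout R A S SA := Algebra.IsPushout.symm inferInstance
  haveI hpoT : Algebra.IsPushout R' A T SA := (Algebra.IsPushout.comp_iff R R' S T).1 hpo0
  let C := A ⊗[R'] S'
  letI algS'C : Algebra S' C := Algebra.TensorProduct.rightAlgebra
  haveI : IsScalarTower R' S' C := IsScalarTower.of_algebraMap_eq fun a =>
    ((Algebra.TensorProduct.includeRight : S' →ₐ[R'] C).commutes a).symm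
  haveI hpoC : Algebra.IsPushout R' A S' C := inferInstanceAs (Algebra.IsPushout R' A S' (A ⊗[R'] S'))
  letI algTC : Algebra T C := ((algebraMap S' C).comp (algebraMap T S')).toAlgebra
  haveI : IsScalarTower T S' C := IsScalarTower.of_algebraMap_eq fun _ => rfl
  haveI : IsScalarTower R' T C := IsScalarTower.of_algebraMap_eq fun a => by
    show algebraMap R' C a = algebraMap S' C (algebraMap T S' (algebraMap R' T a))
    rw [← IsScalarTower.algebraMap_apply R' T S', ← IsScalarTower.algebraMap_apply R' S' C]
  haveI : Algebra.IsPushout R' T A SA := hpoT.symm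
  let φ : SA →ₐ[R'] C :=
    (Algebra.TensorProduct.lift (IsScalarTower.toAlgHom R' T C) (IsScalarTower.toAlgHom R' A C)
      fun _ _ => Commute.all _ _).comp
      ((Algebra.IsPushout.equiv R' T A SA).symm.toAlgHom.restrictScalars R')
  letI algSAC : Algebra SA C := φ.toRingHom.toAlgebra
  haveI : IsScalarTower A SA C := IsScalarTower.of_algebraMap_eq fun a => by
    show algebraMap A C a = φ (algebraMap A SA a)
    have h1 : (Algebra.IsPushout.equiv R' T A SA).symm (algebraMap A SA a) = (1 : T) ⊗ₜ[R'] a := by
      rw [AlgEquiv.symm_apply_eq, Algebra.IsPushout.equiv_tmul, map_one, one_mul]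
    simp [φ, h1]
  haveI : IsScalarTower T SA C := IsScalarTower.of_algebraMap_eq fun a => by
    show algebraMap T C a = φ (algebraMap T SA a)
    simp [φ]
  haveI : IsScalarTower R' S' C := inferInstance
  haveI hpoSC : Algebra.IsPushout T SA S' C := by
    haveI : Algebra.IsPushout R' T A SA := hpoT.symm
    exact (Algebra.IsPushout.comp_iff R' T A SA).1 (hpoC.symm)|>.symm
  haveI : Algebra.IsPushout T S' SA C := hpoSC.symm
  haveI : Algebra.Etale SA C := RingHom.etale_algebraMap.1
    (RingHom.Etale.isStableUnderBaseChange T S' SA C (RingHom.etale_algebraMap.2 inferInstance))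
  letI algSC : Algebra S C := ((algebraMap S' C).comp (algebraMap S S')).toAlgebra
  haveI : IsScalarTower S S' C := IsScalarTower.of_algebraMap_eq fun _ => rfl
  haveI : IsScalarTower S T C := IsScalarTower.of_algebraMap_eq fun a => by
    show algebraMap S' C (algebraMap S S' a) = algebraMap T C (algebraMap S T a)
    rw [IsScalarTower.algebraMap_apply S T S', ← IsScalarTower.algebraMap_apply T S' C]
  haveI : IsScalarTower S SA C := IsScalarTower.of_algebraMap_eq (R := S) (S := SA) (A := C) fun a => by
    rw [IsScalarTower.algebraMap_apply S T SA, ← IsScalarTower.algebraMap_apply T SA C,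
      ← IsScalarTower.algebraMap_apply S T C]
  -- the point
  let m := IsLocalRing.maximalIdeal A
  haveI : m.LiesOver p' := ⟨(IsLocalization.AtPrime.comap_maximalIdeal A p').symm⟩
  have hresA : Function.Surjective (Ideal.ResidueField.mapₐ p' m (Algebra.ofId R' A) (Ideal.over_def m p')) :=
    ((RingHom.surjectiveOnStalks_of_isLocalization p'.primeCompl A).residueFieldMap_bijective _ _ _).2
  obtain ⟨x', hx'I, hx'm, hxq', hres⟩ := exists_prime_tensor p' m q' hresA
  haveI := hx'I
  haveI := hx'm
  haveI hx'q' : x'.LiesOver q' := ⟨hxq'⟩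
  haveI hx'q : x'.LiesOver q := Ideal.LiesOver.trans x' q' q
  -- the module
  let M₀ := S' ⊗[S] N
  let M := C ⊗[SA] NA
  let g : N →ₗ[S] M := (TensorProduct.mk SA C NA 1).restrictScalars S ∘ₗ f
  have hg : IsBaseChange C g := hf.comp (TensorProduct.isBaseChange SA NA C)
  let e : C ⊗[S'] M₀ ≃ₗ[C] M :=
    (TensorProduct.AlgebraTensorModule.cancelBaseChange S S' C C N).trans hg.equiv
  have hmod : Module.FinitePresentation C M ∧ Module.Free A M := by
    rcases hcase with hdev | hsub
    · haveI : IsScalarTower R' A C := inferInstance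
      let f₁ : M₀ →ₗ[S'] C ⊗[S'] M₀ := TensorProduct.mk S' C M₀ 1
      have hdevA : Dev A m C (C ⊗[S'] M₀) x' :=
        hdev.baseChange' m inferInstance hresA C x' (Ideal.over_def x' m).symm hxq'.symm f₁
          (TensorProduct.isBaseChange S' M₀ C)
      obtain ⟨D, hD⟩ := (Dev.congr (N := C ⊗[S'] M₀) (N₁ := M) e hdevA).hasCompleteDevissageAt
      haveI : Module.Finite S' M₀ := inferInstance
      haveI : Module.Finite C M := Module.Finite.equiv e
      haveI : IsScalarTower A C M := TensorProduct.isScalarTower_left
      have hfl : FlatCA.FlatAt A x' M := by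
        haveI : Module.Flat S' C := RingHom.flat_algebraMap_iff.1
          (RingHom.Flat.isStableUnderBaseChange R' A S' C (RingHom.flat_algebraMap_iff.2
            (IsLocalization.flat A p'.primeCompl)))
        haveI : Module.Flat S C := Module.Flat.trans S S' C
        haveI : IsScalarTower R A C := IsScalarTower.of_algebraMap_eq (R := R) (S := A) (A := C) fun a => by
          rw [IsScalarTower.algebraMap_apply R R' A, ← IsScalarTower.algebraMap_apply R' A C,
            ← IsScalarTower.algebraMap_apply R R' C]
        haveI : IsScalarTower R S C := IsScalarTower.of_algebraMap_eq (R := R) (S := S) (A := C) fun a => by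
          rw [IsScalarTower.algebraMap_apply S S' C, ← IsScalarTower.algebraMap_apply R S S',
            IsScalarTower.algebraMap_apply R R' S', ← IsScalarTower.algebraMap_apply R' S' C,
            ← IsScalarTower.algebraMap_apply R R' C]
        haveI : Algebra.FormallyUnramified R' A := Algebra.FormallyUnramified.of_isLocalization p'.primeCompl
        haveI : Algebra.FormallyUnramified R A := Algebra.FormallyUnramified.comp R R' A
        haveI : Algebra.EssFiniteType R' A := Algebra.EssFiniteType.of_isLocalization A p'.primeCompl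
        haveI : Algebra.EssFiniteType R A := Algebra.EssFiniteType.comp R R' A
        exact flatAt_of_flatAt N q x' hflat g hg
      obtain ⟨h1, h2, -⟩ := Groth.Agent.S1253.result M x' hfl D hD
      exact ⟨h1, h2⟩
    · haveI := hsub
      haveI : Subsingleton M := e.symm.injective.subsingleton
      exact ⟨Module.finitePresentation_of_projective C M, inferInstance⟩
  let E : RestrictScalars A C M ≃ₗ[A] M :=
    { RestrictScalars.addEquiv A C M with
      map_smul' := fun c z => by
        show RestrictScalars.addEquiv A C M (c • z) = c • RestrictScalars.addEquiv A C M z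
        rw [RestrictScalars.addEquiv_map_smul, algebraMap_smul] }
  haveI := hmod.2
  refine ⟨C, inferInstance, inferInstance, inferInstance, inferInstance, algSC, inferInstance, x', inferInstance,
    hx'q, hx'm, inferInstance, inferInstance, bijective_mapₐ_of_surjective hx'q ?_, hmod.1, Module.Free.of_equiv E.symm⟩
  exact surjective_residue_comp q q' x' hbS.2 hres

end DevissExLib
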