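import Groth.Prelude
import Groth.Agent.DevissExLib.DevissCover
import Groth.Agent.DevissExLib.LocalFree
import Mathlib

/-!
# Freeness over a local ring along a whole fibre
-/

set_option autoImplicit false
set_option linter.all false

universe u

open AlgebraicGeometry CategoryTheory
open scoped TensorProduct

namespace DevissExLib

/-- A dévissage becomes a finitely presented free module over a local ring dominating the base point. -/
theorem local_free_of_dev {R R' A S S' : Type u} [CommRing R] [CommRing R'] [CommRing A] [IsLocalRing A] [CommRing S]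
    [CommRing S'] [Algebra R R'] [Algebra R' A] [Algebra R A] [IsScalarTower R R' A]
    [Algebra.QuasiFinite R' A] [Module.Flat R' A] [Algebra.FormallyUnramified R A] [Algebra.EssFiniteType R A]
    [Algebra R S] [Algebra S S'] [Algebra R' S'] [Algebra R S'] [IsScalarTower R R' S'] [IsScalarTower R S S']
    [Algebra.FinitePresentation R' S'] [Module.Flat S S']
    (N : Type u) [AddCommGroup N] [Module S N] [Module R N] [IsScalarTower R S N] [Module.Finite S N]
    (q : Ideal S) [q.IsPrime] (p' : Ideal R') [p'.IsPrime] (q' : Ideal S') [q'.IsPrime] [q'.LiesOver p'] [q'.LiesOver q]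
    [hm : (IsLocalRing.maximalIdeal A).LiesOver p']
    (hres : Function.Surjective (Ideal.ResidueField.mapₐ p' (IsLocalRing.maximalIdeal A) (Algebra.ofId R' A) hm.over))
    (hflat : FlatCA.FlatAt R q N)
    (hcase : Dev R' p' S' (S' ⊗[S] N) q' ∨ Subsingleton (S' ⊗[S] N))
    (C : Type u) [CommRing C] [Algebra S' C] [Algebra A C] [Algebra R' C] [IsScalarTower R' A C] [IsScalarTower R' S' C]
    [Algebra.IsPushout R' A S' C] [Algebra S C] [IsScalarTower S S' C]
    (M : Type u) [AddCommGroup M] [Module C M] [Module S M] [IsScalarTower S C M] [Module A M] [IsScalarTower A C M]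
    (g : N →ₗ[S] M) (hg : IsBaseChange C g) :
    Module.FinitePresentation C M ∧ Module.Free A M := by
  let m := IsLocalRing.maximalIdeal A
  let M₀ := S' ⊗[S] N
  let e : C ⊗[S'] M₀ ≃ₗ[C] M :=
    (TensorProduct.AlgebraTensorModule.cancelBaseChange S S' C C N).trans hg.equiv
  rcases hcase with hdev | hsub
  · let C₀ := A ⊗[R'] S'
    obtain ⟨x₀, hx₀I, hx₀m, hxq', -⟩ := exists_prime_tensor p' m q' hres
    haveI := hx₀I
    haveI : Algebra.IsPushout R' S' A C := Algebra.IsPushout.symm inferInstance
    let ε : A ⊗[R'] S' ≃ₐ[A] C := Algebra.IsPushout.equiv R' A S' C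
    let x' := x₀.comap ε.symm.toRingEquiv.toRingHom
    haveI : x'.LiesOver m := ⟨by
      show m = (x₀.comap ε.symm.toRingEquiv.toRingHom).comap (algebraMap A C)
      rw [Ideal.comap_comap, show ε.symm.toRingEquiv.toRingHom.comp (algebraMap A C) = algebraMap A (A ⊗[R'] S') from
        RingHom.ext fun a => ε.symm.commutes a]
      exact hx₀m.over⟩
    have hx'q' : x'.comap (algebraMap S' C) = q' := by
      show (x₀.comap ε.symm.toRingEquiv.toRingHom).comap (algebraMap S' C) = q'
      rw [Ideal.comap_comap, show ε.symm.toRingEquiv.toRingHom.comp (algebraMap S' C) =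
          (Algebra.TensorProduct.includeRight : S' →ₐ[R'] A ⊗[R'] S').toRingHom from
        RingHom.ext fun a => ε.symm_apply_eq.2 (by simp [ε, Algebra.IsPushout.equiv_tmul])]
      exact hxq'.symm
    haveI : x'.LiesOver q' := ⟨hx'q'.symm⟩
    haveI : x'.LiesOver q := Ideal.LiesOver.trans x' q' q
    have hdevA : Dev A m C (C ⊗[S'] M₀) x' :=
      hdev.baseChange' m hm hres C x' (Ideal.over_def x' m).symm hx'q'
        (TensorProduct.mk S' C M₀ 1) (TensorProduct.isBaseChange S' M₀ C)
    obtain ⟨D, hD⟩ := (Dev.congr (N := C ⊗[S'] M₀) (N₁ := M) e hdevA).hasCompleteDevissageAt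
    haveI : Algebra.FinitePresentation A C := Algebra.FinitePresentation.equiv ε
    haveI : Module.Finite C M := Module.Finite.equiv e
    haveI : Module.Flat S' C := RingHom.flat_algebraMap_iff.1
      (RingHom.Flat.isStableUnderBaseChange R' A S' C (RingHom.flat_algebraMap_iff.2 inferInstance))
    haveI : Module.Flat S C := Module.Flat.trans S S' C
    letI : Algebra R C := ((algebraMap A C).comp (algebraMap R A)).toAlgebra
    haveI : IsScalarTower R A C := IsScalarTower.of_algebraMap_eq fun _ => rfl
    haveI : IsScalarTower R S C := IsScalarTower.of_algebraMap_eq fun a => by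
      show algebraMap A C (algebraMap R A a) = algebraMap S C (algebraMap R S a)
      rw [IsScalarTower.algebraMap_apply R R' A, ← IsScalarTower.algebraMap_apply R' A C,
        IsScalarTower.algebraMap_apply S S' C, ← IsScalarTower.algebraMap_apply R S S',
        IsScalarTower.algebraMap_apply R R' S', ← IsScalarTower.algebraMap_apply R' S' C]
    obtain ⟨h1, h2, -⟩ := Groth.Agent.S1253.result M x' (flatAt_of_flatAt N q x' hflat g hg) D hD
    exact ⟨h1, h2⟩
  · haveI := hsub
    haveI : Subsingleton M := e.symm.injective.subsingleton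
    exact ⟨Module.finitePresentation_of_projective C M, inferInstance⟩

theorem exists_local_free_cover {R S : Type u} [CommRing R] [CommRing S] [Algebra R S] [Algebra.FinitePresentation R S]
    (N : Type u) [AddCommGroup N] [Module S N] [Module R N] [IsScalarTower R S N] [Module.Finite S N]
    (p : Ideal R) [p.IsPrime] (hflat : ∀ (q : Ideal S) [q.IsPrime], q.LiesOver p → FlatCA.FlatAt R q N) :
    ∃ (R' : Type u) (_ : CommRing R') (_ : Algebra R R') (p' : Ideal R') (_ : p'.IsPrime), FlatCA.IsEtaleNhd R R' p p' ∧
      ∀ (SA NA : Type u) [CommRing SA] [Algebra R SA] [Algebra S SA] [Algebra (Localization.AtPrime p') SA]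
        [IsScalarTower R S SA] [IsScalarTower R (Localization.AtPrime p') SA]
        [Algebra.IsPushout R S (Localization.AtPrime p') SA]
        [AddCommGroup NA] [Module SA NA] [Module S NA] [IsScalarTower S SA NA]
        (f : N →ₗ[S] NA), IsBaseChange SA f →
        ∃ (C : Type u) (_ : CommRing C) (_ : Algebra SA C) (_ : Algebra (Localization.AtPrime p') C)
          (_ : IsScalarTower (Localization.AtPrime p') SA C) (_ : Algebra S C) (_ : IsScalarTower S SA C),
          Algebra.Etale SA C ∧ Algebra.FinitePresentation (Localization.AtPrime p') C ∧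
          (∀ (q : Ideal S) [q.IsPrime], q.LiesOver p → ∃ x' : Ideal C, x'.IsPrime ∧ x'.comap (algebraMap S C) = q ∧
            x'.LiesOver (IsLocalRing.maximalIdeal (Localization.AtPrime p'))) ∧
          Module.FinitePresentation C (C ⊗[SA] NA) ∧
          Module.Free (Localization.AtPrime p') (RestrictScalars (Localization.AtPrime p') C (C ⊗[SA] NA)) := by
  classical
  let Fib := {w : PrimeSpectrum S | w.asIdeal.comap (algebraMap R S) = p}
  have hp' := fun w : Fib =>
    haveI : w.1.asIdeal.LiesOver p := ⟨w.2.symm⟩
    exists_piece N p w.1.asIdeal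
  choose Ri Si cR cS aR aS aRS aRS' t1 t2 pi pI qi qI U hUo hwU hqw hqp hn het hcase hcov using hp'
  obtain ⟨s, hs⟩ := (isCompact_fibre (S := S) p).elim_finite_subcover U hUo fun w hw =>
    Set.mem_iUnion.2 ⟨⟨w, hw⟩, hwU ⟨w, hw⟩⟩
  obtain ⟨R', _, _, p', _, hnR, hφ⟩ := exists_common_nhd p Ri pi hn s
  obtain ⟨hetR, hp'p, hbR⟩ := hnR
  haveI := hetR
  haveI := hp'p
  refine ⟨R', inferInstance, inferInstance, p', inferInstance, ⟨hetR, hp'p, hbR⟩, ?_⟩
  intro SA NA _ _ _ _ _ _ _ _ _ _ _ f hf
  let A := Localization.AtPrime p'
  let m := IsLocalRing.maximalIdeal A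
  haveI hmp' : m.LiesOver p' := ⟨(IsLocalization.AtPrime.comap_maximalIdeal A p').symm⟩
  haveI : m.LiesOver p := Ideal.LiesOver.trans m p' p
  have hresA : Function.Surjective (Ideal.ResidueField.mapₐ p m (Algebra.ofId R A) (Ideal.over_def m p)) :=
    surjective_residue_comp p p' m hbR.2
      ((RingHom.surjectiveOnStalks_of_isLocalization p'.primeCompl A).residueFieldMap_bijective _ _ _).2
  haveI : Algebra.FormallyUnramified R' A := Algebra.FormallyUnramified.of_isLocalization p'.primeCompl
  haveI : Algebra.FormallyUnramified R A := Algebra.FormallyUnramified.comp R R' A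
  haveI : Algebra.EssFiniteType R' A := Algebra.EssFiniteType.of_isLocalization A p'.primeCompl
  haveI : Algebra.EssFiniteType R A := Algebra.EssFiniteType.comp R R' A
  have hpieces : ∀ i : s, ∃ (T : Type u) (_ : CommRing T) (_ : Algebra SA T) (_ : Algebra A T) (_ : Algebra S T)
      (_ : IsScalarTower A SA T) (_ : IsScalarTower S SA T), Algebra.Etale SA T ∧ Algebra.FinitePresentation A T ∧
      Module.FinitePresentation T (T ⊗[SA] NA) ∧ Module.Free A (T ⊗[SA] NA) ∧
      ∀ v ∈ U i ∩ Fib, ∃ x' : Ideal T, x'.IsPrime ∧ x'.comap (algebraMap S T) = v.asIdeal ∧ x'.LiesOver m := by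
    intro i
    obtain ⟨φ, hφp⟩ := hφ i.1 i.2
    obtain ⟨heti, hpip, hbi⟩ := hn i
    haveI := heti
    haveI := hpip
    haveI := het i
    haveI := hqp i
    haveI : (qi i).LiesOver i.1.1.asIdeal := ⟨(hqw i).symm⟩
    letI algRiR' : Algebra (Ri i) R' := φ.toRingHom.toAlgebra
    haveI : IsScalarTower R (Ri i) R' := IsScalarTower.of_algebraMap_eq fun a => (φ.commutes a).symm
    haveI : IsScalarTower (Ri i) R' A := inferInstance
    haveI : IsScalarTower R (Ri i) A := IsScalarTower.of_algebraMap_eq (R := R) (S := Ri i) (A := A) fun a => by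
      rw [IsScalarTower.algebraMap_apply (Ri i) R' A, ← IsScalarTower.algebraMap_apply R (Ri i) R',
        ← IsScalarTower.algebraMap_apply R R' A]
    haveI : m.LiesOver (pi i) := ⟨by
      show pi i = m.comap (algebraMap (Ri i) A)
      rw [IsScalarTower.algebraMap_eq (Ri i) R' A, ← Ideal.comap_comap,
        show m.comap (algebraMap R' A) = p' from (Ideal.over_def m p').symm]
      exact hφp.symm⟩
    have hres : Function.Surjective (Ideal.ResidueField.mapₐ (pi i) m (Algebra.ofId (Ri i) A) (Ideal.over_def m (pi i))) := by
      intro z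
      obtain ⟨b, rfl⟩ := hresA z
      exact ⟨Ideal.ResidueField.mapₐ p (pi i) (Algebra.ofId R (Ri i)) hpip.over b, RingHom.congr_fun
        (Ideal.ResidueField.ringHom_ext
          (f := (Ideal.ResidueField.mapₐ (pi i) m (Algebra.ofId (Ri i) A) (Ideal.over_def m (pi i))).toRingHom.comp
            (Ideal.ResidueField.mapₐ p (pi i) (Algebra.ofId R (Ri i)) hpip.over).toRingHom)
          (g := (Ideal.ResidueField.mapₐ p m (Algebra.ofId R A) (Ideal.over_def m p)).toRingHom)
          (RingHom.ext fun r => by simpa using (IsScalarTower.algebraMap_apply R (Ri i) A r).symm ▸ rfl)) b⟩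
    haveI : Algebra.QuasiFinite (Ri i) A := by
      haveI : Algebra.Etale (Ri i) R' := Algebra.Etale.of_restrictScalars R (Ri i) R'
      exact Algebra.QuasiFinite.of_isLocalization (S := R') p'.primeCompl
    haveI : Module.Flat (Ri i) A := by
      haveI : Algebra.Etale (Ri i) R' := Algebra.Etale.of_restrictScalars R (Ri i) R'
      haveI : Module.Flat R' A := IsLocalization.flat A p'.primeCompl
      exact Module.Flat.trans (Ri i) R' A
    haveI : Algebra.FinitePresentation R (Si i) := Algebra.FinitePresentation.trans R S (Si i)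
    haveI : Algebra.FinitePresentation (Ri i) (Si i) :=
      Algebra.FinitePresentation.of_restrict_scalars_finitePresentation R (Ri i) (Si i)
    let T := A ⊗[Ri i] Si i
    letI aST : Algebra (Si i) T := Algebra.TensorProduct.rightAlgebra
    haveI : IsScalarTower (Ri i) (Si i) T := IsScalarTower.of_algebraMap_eq fun a =>
      ((Algebra.TensorProduct.includeRight : Si i →ₐ[Ri i] T).commutes a).symm
    haveI : Algebra.IsPushout (Ri i) A (Si i) T := inferInstanceAs (Algebra.IsPushout (Ri i) A (Si i) (A ⊗[Ri i] Si i))
    letI aS0T : Algebra S T := ((algebraMap (Si i) T).comp (algebraMap S (Si i))).toAlgebra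
    haveI : IsScalarTower S (Si i) T := IsScalarTower.of_algebraMap_eq fun _ => rfl
    haveI : IsScalarTower R S T := IsScalarTower.of_algebraMap_eq fun a => by
      show algebraMap R T a = algebraMap (Si i) T (algebraMap S (Si i) (algebraMap R S a))
      rw [← IsScalarTower.algebraMap_apply R S (Si i), IsScalarTower.algebraMap_apply R (Ri i) (Si i),
        ← IsScalarTower.algebraMap_apply (Ri i) (Si i) T, IsScalarTower.algebraMap_apply (Ri i) A T,
        ← IsScalarTower.algebraMap_apply R (Ri i) A, ← IsScalarTower.algebraMap_apply R A T]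
    let φ' : SA →ₐ[R] T :=
      (Algebra.TensorProduct.lift (IsScalarTower.toAlgHom R S T) (IsScalarTower.toAlgHom R A T)
        fun _ _ => Commute.all _ _).comp
        ((Algebra.IsPushout.equiv R S A SA).symm.toAlgHom.restrictScalars R)
    letI : Algebra SA T := φ'.toRingHom.toAlgebra
    haveI : IsScalarTower A SA T := IsScalarTower.of_algebraMap_eq fun a => by
      show algebraMap A T a = φ' (algebraMap A SA a)
      have h1 : (Algebra.IsPushout.equiv R S A SA).symm (algebraMap A SA a) = (1 : S) ⊗ₜ[R] a := by
        rw [AlgEquiv.symm_apply_eq, Algebra.IsPushout.equiv_tmul, map_one, one_mul]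
      simp [φ', h1]
    haveI : IsScalarTower S SA T := IsScalarTower.of_algebraMap_eq fun a => by
      show algebraMap S T a = φ' (algebraMap S SA a)
      simp [φ']
    haveI : Algebra.Etale SA T := by
      let TS := Ri i ⊗[R] S
      letI : Algebra S TS := Algebra.TensorProduct.rightAlgebra
      haveI : IsScalarTower R S TS := IsScalarTower.of_algebraMap_eq fun a =>
        ((Algebra.TensorProduct.includeRight : S →ₐ[R] TS).commutes a).symm
      let ψ : TS →ₐ[Ri i] Si i :=
        Algebra.TensorProduct.lift (Algebra.ofId (Ri i) (Si i)) (IsScalarTower.toAlgHom R S (Si i)) fun _ _ => Commute.all _ _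
      letI : Algebra TS (Si i) := ψ.toRingHom.toAlgebra
      haveI : IsScalarTower (Ri i) TS (Si i) := IsScalarTower.of_algebraMap_eq fun a => (ψ.commutes a).symm
      haveI : IsScalarTower S TS (Si i) := IsScalarTower.of_algebraMap_eq fun a => by
        show algebraMap S (Si i) a = ψ ((1 : Ri i) ⊗ₜ[R] a)
        refine ((Algebra.TensorProduct.lift_tmul _ _ _ _ _).trans ?_).symm
        rw [map_one, one_mul]
        rfl
      haveI : Algebra.IsPushout R (Ri i) S TS := inferInstanceAs (Algebra.IsPushout R (Ri i) S (Ri i ⊗[R] S))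
      haveI : Algebra.Etale S TS := RingHom.etale_algebraMap.1
        (RingHom.Etale.isStableUnderBaseChange R (Ri i) S TS (RingHom.etale_algebraMap.2 inferInstance))
      haveI : Algebra.Etale TS (Si i) := Algebra.Etale.of_restrictScalars S TS (Si i)
      letI : Algebra (Ri i) SA := ((algebraMap A SA).comp (algebraMap (Ri i) A)).toAlgebra
      haveI : IsScalarTower (Ri i) A SA := IsScalarTower.of_algebraMap_eq fun _ => rfl
      haveI : IsScalarTower R (Ri i) SA := IsScalarTower.of_algebraMap_eq fun a => by
        show algebraMap R SA a = algebraMap A SA (algebraMap (Ri i) A (algebraMap R (Ri i) a))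
        rw [← IsScalarTower.algebraMap_apply R (Ri i) A, ← IsScalarTower.algebraMap_apply R A SA]
      let χ : TS →ₐ[Ri i] SA :=
        Algebra.TensorProduct.lift (Algebra.ofId (Ri i) SA) (IsScalarTower.toAlgHom R S SA) fun _ _ => Commute.all _ _
      letI : Algebra TS SA := χ.toRingHom.toAlgebra
      haveI : IsScalarTower (Ri i) TS SA := IsScalarTower.of_algebraMap_eq fun a => (χ.commutes a).symm
      haveI : IsScalarTower S TS SA := IsScalarTower.of_algebraMap_eq fun a => by
        show algebraMap S SA a = χ ((1 : Ri i) ⊗ₜ[R] a)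
        refine ((Algebra.TensorProduct.lift_tmul _ _ _ _ _).trans ?_).symm
        rw [map_one, one_mul]
        rfl
      haveI : IsScalarTower R TS SA := IsScalarTower.of_algebraMap_eq fun a => by
        rw [IsScalarTower.algebraMap_apply R (Ri i) TS, ← IsScalarTower.algebraMap_apply (Ri i) TS SA,
          ← IsScalarTower.algebraMap_apply R (Ri i) SA]
      haveI hpo0 : Algebra.IsPushout R A S SA := Algebra.IsPushout.symm inferInstance
      haveI hpoT : Algebra.IsPushout (Ri i) A TS SA := (Algebra.IsPushout.comp_iff R (Ri i) S TS).1 hpo0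
      letI : Algebra TS T := ((algebraMap (Si i) T).comp (algebraMap TS (Si i))).toAlgebra
      haveI : IsScalarTower TS (Si i) T := IsScalarTower.of_algebraMap_eq fun _ => rfl
      haveI : IsScalarTower (Ri i) TS T := IsScalarTower.of_algebraMap_eq fun a => by
        show algebraMap (Ri i) T a = algebraMap (Si i) T (algebraMap TS (Si i) (algebraMap (Ri i) TS a))
        rw [← IsScalarTower.algebraMap_apply (Ri i) TS (Si i), ← IsScalarTower.algebraMap_apply (Ri i) (Si i) T]
      haveI : IsScalarTower (Ri i) SA T := IsScalarTower.of_algebraMap_eq fun a => by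
        rw [IsScalarTower.algebraMap_apply (Ri i) A SA, ← IsScalarTower.algebraMap_apply A SA T,
          ← IsScalarTower.algebraMap_apply (Ri i) A T]
      haveI : IsScalarTower TS SA T := IsScalarTower.of_algebraMap_eq fun z => by
        induction z using TensorProduct.induction_on with
        | zero => simp
        | tmul a c =>
          rw [show (a ⊗ₜ[R] c : TS) = algebraMap (Ri i) TS a * algebraMap S TS c by
              show a ⊗ₜ[R] c = (a ⊗ₜ[R] (1 : S)) * ((1 : Ri i) ⊗ₜ[R] c)
              rw [Algebra.TensorProduct.tmul_mul_tmul, mul_one, one_mul],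
            map_mul, map_mul, map_mul, ← IsScalarTower.algebraMap_apply (Ri i) TS T,
            ← IsScalarTower.algebraMap_apply (Ri i) TS SA, ← IsScalarTower.algebraMap_apply (Ri i) SA T,
            IsScalarTower.algebraMap_apply TS (Si i) T, ← IsScalarTower.algebraMap_apply S TS (Si i),
            ← IsScalarTower.algebraMap_apply S (Si i) T, ← IsScalarTower.algebraMap_apply S TS SA,
            ← IsScalarTower.algebraMap_apply S SA T]
        | add x y hx hy => simp only [map_add, hx, hy]
      haveI : Algebra.IsPushout (Ri i) TS A SA := hpoT.symm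
      haveI : Algebra.IsPushout TS (Si i) SA T :=
        ((Algebra.IsPushout.comp_iff (Ri i) TS A SA).1 (Algebra.IsPushout.symm inferInstance))
      exact RingHom.etale_algebraMap.1
        (RingHom.Etale.isStableUnderBaseChange TS (Si i) SA T (RingHom.etale_algebraMap.2 inferInstance))
    haveI : Algebra.FinitePresentation A T := inferInstanceAs (Algebra.FinitePresentation A (A ⊗[Ri i] Si i))
    let g : N →ₗ[S] T ⊗[SA] NA := (TensorProduct.mk SA T NA 1).restrictScalars S ∘ₗ f
    have hg : IsBaseChange T g := hf.comp (TensorProduct.isBaseChange SA NA T)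
    haveI : IsScalarTower A T (T ⊗[SA] NA) := TensorProduct.isScalarTower_left
    haveI : IsScalarTower R (Ri i) (Si i) := inferInstance
    haveI : Module.Flat S (Si i) := inferInstance
    have hfl : FlatCA.FlatAt R i.1.1.asIdeal N := hflat _ ⟨i.1.2.symm⟩
    have key := local_free_of_dev (R := R) (R' := Ri i) (A := A) (S := S) (S' := Si i) N i.1.1.asIdeal (pi i) (qi i)
      hres hfl (hcase i) T (T ⊗[SA] NA) g hg
    obtain ⟨h1, h2⟩ := key
    refine ⟨T, inferInstance, inferInstance, inferInstance, aS0T, inferInstance, inferInstance, inferInstance,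
      inferInstance, h1, h2, fun v hv => ?_⟩
    obtain ⟨v', _, hv'p, hv'v⟩ := hcov i v hv
    haveI := hv'p
    obtain ⟨w, hwI, hwm, hw, -⟩ := exists_prime_tensor (pi i) m v' hres
    refine ⟨w, hwI, ?_, hwm⟩
    rw [IsScalarTower.algebraMap_eq S (Si i) T, ← Ideal.comap_comap]
    exact (congrArg (Ideal.comap _) hw.symm).trans hv'v
  choose T cT aSAT aAT aST tA tS hetT hfpT hfpM hfree hcovT using hpieces
  let C := ∀ i : s, T i
  haveI : IsScalarTower A SA C :=
    IsScalarTower.of_algebraMap_eq fun a => funext fun i => IsScalarTower.algebraMap_apply A SA (T i) a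
  haveI : IsScalarTower S SA C :=
    IsScalarTower.of_algebraMap_eq fun a => funext fun i => IsScalarTower.algebraMap_apply S SA (T i) a
  haveI : ∀ i, Algebra.EssFiniteType SA (T i) := inferInstance
  letI algCT : ∀ i, Algebra C (T i) := fun i => (Pi.evalRingHom (fun i => T i) i).toAlgebra
  haveI : ∀ i, SMulCommClass SA C (T i) := fun i => ⟨fun a c z => by
    rw [Algebra.smul_def c, Algebra.smul_def c, mul_smul_comm]⟩
  let e : C ⊗[SA] NA ≃ₗ[C] ∀ i, T i ⊗[SA] NA :=
    { (TensorProduct.piLeft (R := SA) (M := fun i => T i) (N := NA)).toAddEquiv with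
      map_smul' := fun c z => by
        show TensorProduct.piLeft (R := SA) (M := fun i => T i) (N := NA) (c • z) =
          c • TensorProduct.piLeft (R := SA) (M := fun i => T i) (N := NA) z
        induction z using TensorProduct.induction_on with
        | zero => simp
        | tmul a x => rw [TensorProduct.smul_tmul']; funext i; simp; rfl
        | add a b ha hb => simp only [smul_add, map_add, ha, hb] }
  haveI : ∀ i, Module.FinitePresentation C (T i ⊗[SA] NA) := fun i => by
    haveI : IsScalarTower C (T i) (T i ⊗[SA] NA) := TensorProduct.isScalarTower_left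
    haveI : Module.Projective C (T i) := Module.Projective.of_split
      ({ toFun := fun x => Pi.single i x
         map_add' := fun x y => Pi.single_add i x y
         map_smul' := fun c x => by
           funext j
           show (Pi.single i (c • x) : C) j = c j * (Pi.single i x : C) j
           by_cases h : j = i
           · subst h
             rw [Pi.single_eq_same, Pi.single_eq_same, Algebra.smul_def]
             rfl
           · rw [Pi.single_eq_of_ne h, Pi.single_eq_of_ne h, mul_zero] } : T i →ₗ[C] C)
      (Algebra.linearMap C (T i)) (LinearMap.ext fun x => Pi.single_eq_same i x)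
    haveI : Module.Finite C (T i) :=
      Module.Finite.of_surjective (Algebra.linearMap C (T i)) (fun x => ⟨Pi.single i x, Pi.single_eq_same i x⟩)
    haveI : Module.FinitePresentation C (T i) := Module.finitePresentation_of_projective C (T i)
    haveI := hfpM i
    exact Module.FinitePresentation.trans (R := C) (M := T i ⊗[SA] NA) (T i)
  haveI : Module.FinitePresentation C (∀ i, T i ⊗[SA] NA) := Module.FinitePresentation.pi (fun i : s => T i ⊗[SA] NA)
  haveI := hfree
  haveI : Module.Free A (∀ i, T i ⊗[SA] NA) := inferInstance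
  refine ⟨C, inferInstance, inferInstance, inferInstance, inferInstance, inferInstance, inferInstance, inferInstance,
    inferInstance, fun q _ hq => ?_, Module.FinitePresentation.of_equiv (R := C) (M := ∀ i, T i ⊗[SA] NA) (N := C ⊗[SA] NA) e.symm, ?_⟩
  · obtain ⟨i, hi, hqi⟩ := Set.mem_iUnion₂.1 (hs (show (⟨q, inferInstance⟩ : PrimeSpectrum S) ∈ Fib from hq.over.symm))
    obtain ⟨x', hx'I, hx', hx'm⟩ := hcovT ⟨i, hi⟩ ⟨q, inferInstance⟩ ⟨hqi, hq.over.symm⟩
    refine ⟨x'.comap (Pi.evalRingHom (fun i => T i) ⟨i, hi⟩), hx'I.comap _, ?_, ⟨?_⟩⟩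
    · rw [Ideal.comap_comap]; exact hx'
    · show _ = (x'.comap (Pi.evalRingHom (fun i => T i) ⟨i, hi⟩)).comap (algebraMap A C)
      rw [Ideal.comap_comap]
      exact hx'm.over
  · let E : RestrictScalars A C (C ⊗[SA] NA) ≃ₗ[A] ∀ i, T i ⊗[SA] NA :=
      { (RestrictScalars.addEquiv A C _).trans e.toAddEquiv with
        map_smul' := fun c z => by
          show e (RestrictScalars.addEquiv A C _ (c • z)) = c • e (RestrictScalars.addEquiv A C _ z)
          rw [RestrictScalars.addEquiv_map_smul, map_smul]
          funext i
          show (algebraMap A C c) i • (e (RestrictScalars.addEquiv A C _ z)) i =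
            c • (e (RestrictScalars.addEquiv A C _ z)) i
          exact algebraMap_smul (T i) c _ }
    exact Module.Free.of_equiv E.symm

end DevissExLib
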