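import Groth.Prelude
import Groth.Agent.ProjLib.TensorPi
import Groth.Agent.ProjLib.FlatML
import Groth.Agent.ProjLib.MLOps
import Mathlib

/-!
# Projectivity of a universally injective submodule
-/

set_option autoImplicit false
set_option linter.all false

universe u

open scoped TensorProduct

namespace DevissExLib

/-- A finite module over an algebra of finite type is countably generated over the base. -/
theorem exists_countable_span (A : Type u) {C M : Type u} [CommRing A] [CommRing C] [Algebra A C] [Algebra.FiniteType A C]
    [AddCommGroup M] [Module C M] [Module A M] [IsScalarTower A C M] [Module.Finite C M] :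
    ∃ s : Set M, s.Countable ∧ Submodule.span A s = ⊤ := by
  obtain ⟨n, f, hf⟩ := Algebra.FiniteType.iff_quotient_mvPolynomial''.1 (inferInstance : Algebra.FiniteType A C)
  obtain ⟨G, hG⟩ := (inferInstance : Module.Finite C M).fg_top
  let φ : (Fin n →₀ ℕ) × G → M := fun mx => f (MvPolynomial.monomial mx.1 1) • (mx.2 : M)
  refine ⟨Set.range φ, Set.countable_range φ, eq_top_iff.2 ?_⟩
  intro m hm0
  clear hm0
  suffices h : ∀ c : C, c • m ∈ Submodule.span A (Set.range φ) by simpa using h 1
  have hm : m ∈ Submodule.span C (G : Set M) := hG ▸ trivial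
  induction hm using Submodule.span_induction with
  | mem x hx =>
    intro c
    obtain ⟨P, rfl⟩ := hf c
    induction P using MvPolynomial.induction_on' with
    | monomial a r =>
      rw [show MvPolynomial.monomial a r = r • MvPolynomial.monomial a (1 : A) by
        rw [MvPolynomial.smul_monomial, smul_eq_mul, mul_one], map_smul, smul_assoc]
      exact Submodule.smul_mem _ r (Submodule.subset_span ⟨(a, ⟨x, hx⟩), rfl⟩)
    | add P Q hP hQ => rw [map_add, add_smul]; exact add_mem hP hQ
  | zero => intro c; rw [smul_zero]; exact zero_mem _
  | add x y _ _ hx hy => intro c; rw [smul_add]; exact add_mem (hx c) (hy c)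
  | smul d x _ hx => intro c; rw [smul_smul]; exact hx _

/-- A module that embeds universally in a projective module and is countably generated is projective. -/
theorem projective_of_univInj {A M L : Type u} [CommRing A] [AddCommGroup M] [Module A M] [AddCommGroup L] [Module A L]
    [Module.Flat A L] (hL : CAlg.IsMittagLeffler A L) (f : M →ₗ[A] L)
    (hf : ∀ (Q : Type u) [AddCommGroup Q] [Module A Q], Function.Injective (f.rTensor Q))
    (hM : ∃ s : Set M, s.Countable ∧ Submodule.span A s = ⊤) : Module.Projective A M := by
  haveI : Module.Flat A M := Module.Flat.iff_rTensor_preserves_injective_linearMap.2 fun N N' _ _ _ _ g hg => by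
    intro x y hxy
    have key : ∀ z : N ⊗[A] M, f.rTensor N' (TensorProduct.comm A N' M (g.rTensor M z)) =
        TensorProduct.comm A N' L (g.rTensor L (f.lTensor N z)) := fun z => by
      induction z using TensorProduct.induction_on with
      | zero => simp
      | tmul a b => simp
      | add a b ha hb => simp only [map_add, ha, hb]
    have h1 := congrArg (fun z => f.rTensor N' (TensorProduct.comm A N' M z)) hxy
    simp only [key] at h1
    have h2 := Module.Flat.rTensor_preserves_injective_linearMap g hg ((TensorProduct.comm A N' L).injective h1)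
    have key2 : ∀ z : N ⊗[A] M, f.rTensor N (TensorProduct.comm A N M z) = TensorProduct.comm A N L (f.lTensor N z) :=
      fun z => by
        induction z using TensorProduct.induction_on with
        | zero => simp
        | tmul a b => simp
        | add a b ha hb => simp only [map_add, ha, hb]
    exact (TensorProduct.comm A N M).injective (hf N ((key2 x).trans ((congrArg _ h2).trans (key2 y).symm)))
  obtain ⟨s, hs, hspan⟩ := hM
  exact ProjLib.projective_of_flat_mittagLeffler_countable (ProjLib.isMittagLeffler_of_injective f hf hL) s hs hspan

/-- The components of the comparison map, linear over the algebra. -/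
noncomputable def piRightHomAt {A B : Type u} [CommRing A] [CommRing B] [Algebra A B] (M : Type u) [AddCommGroup M]
    [Module B M] [Module A M] [IsScalarTower A B M] {ι : Type u} (Q : ι → Type u) [∀ i, AddCommGroup (Q i)]
    [∀ i, Module A (Q i)] (i : ι) : M ⊗[A] (∀ i, Q i) →ₗ[B] M ⊗[A] Q i :=
  TensorProduct.AlgebraTensorModule.map LinearMap.id (LinearMap.proj i)

theorem piRightHomAt_apply {A B : Type u} [CommRing A] [CommRing B] [Algebra A B] (M : Type u) [AddCommGroup M]
    [Module B M] [Module A M] [IsScalarTower A B M] {ι : Type u} (Q : ι → Type u) [∀ i, AddCommGroup (Q i)]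
    [∀ i, Module A (Q i)] (i : ι) (z : M ⊗[A] (∀ i, Q i)) :
    piRightHomAt (B := B) M Q i z = TensorProduct.piRightHom A A M Q z i := by
  induction z using TensorProduct.induction_on with
  | zero => simp
  | tmul m x => simp [piRightHomAt]
  | add x y hx hy => simp only [map_add, Pi.add_apply, hx, hy]

/-- A localisation at a universally injective element of a Mittag-Leffler module is Mittag-Leffler over a
localisation of the base. -/
theorem isMittagLeffler_of_localized {A A' B M L : Type u} [CommRing A] [CommRing A'] [Algebra A A'] (S : Submonoid A)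
    [IsLocalization S A'] [CommRing B] [Algebra A B] [AddCommGroup M]
    [Module B M] [Module A M] [IsScalarTower A B M] [AddCommGroup L] [Module B L] [Module A L] [IsScalarTower A B L]
    [Module A' L] [IsScalarTower A A' L]
    (b : B) (l : M →ₗ[B] L) [IsLocalizedModule (Submonoid.powers b) l] (hM : CAlg.IsMittagLeffler A M)
    (hb : ∀ (Q : Type u) [AddCommGroup Q] [Module A' Q] [Module A Q] [IsScalarTower A A' Q],
      Function.Injective (((LinearMap.lsmul B M b).restrictScalars A).rTensor Q)) :
    CAlg.IsMittagLeffler A' L := by
  intro ι Q _ _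
  letI : ∀ i, Module A (Q i) := fun i => Module.compHom (Q i) (algebraMap A A')
  haveI : ∀ i, IsScalarTower A A' (Q i) := fun i => IsScalarTower.of_algebraMap_smul fun _ _ => rfl
  haveI : IsScalarTower A A' (∀ i, Q i) := IsScalarTower.of_algebraMap_smul fun a x => funext fun i =>
    algebraMap_smul A' a (x i)
  haveI : ∀ (W : Type u) [AddCommGroup W] [Module A W] [Module A' W] [IsScalarTower A A' W],
      TensorProduct.CompatibleSMul A A' L W := fun W _ _ _ _ => IsLocalization.tensorProduct_compatibleSMul S A' L W
  let c := fun (W : Type u) [AddCommGroup W] [Module A W] [Module A' W] [IsScalarTower A A' W] =>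
    TensorProduct.mapOfCompatibleSMul A' A A L W
  rw [← LinearMap.ker_eq_bot, LinearMap.ker_eq_bot']
  intro w hw
  suffices key : ∀ z : L ⊗[A] (∀ i, Q i), (∀ i, piRightHomAt (B := B) L Q i z = 0) → z = 0 by
    obtain ⟨z, rfl⟩ := TensorProduct.mapOfCompatibleSMul_surjective A' A A L (∀ i, Q i) w
    rw [key z fun i => ?_, map_zero]
    refine (TensorProduct.equivOfCompatibleSMul A' A A L (Q i)).injective ?_
    rw [map_zero]
    have hnat : ∀ z : L ⊗[A] (∀ i, Q i), TensorProduct.equivOfCompatibleSMul A' A A L (Q i) (piRightHomAt (B := B) L Q i z) =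
        TensorProduct.piRightHom A' A' L Q (c (∀ i, Q i) z) i := fun z => by
      induction z using TensorProduct.induction_on with
      | zero => simp
      | tmul m x => simp [c, piRightHomAt]; rfl
      | add x y hx hy => simp only [map_add, Pi.add_apply, hx, hy]
    rw [hnat]
    exact congrFun hw i
  intro z hz
  have hb' : ∀ (W : Type u) [AddCommGroup W] [Module A W] (w : M ⊗[A] W),
      ((LinearMap.lsmul B M b).restrictScalars A).rTensor W w = b • w := fun W _ _ w => by
    induction w using TensorProduct.induction_on with
    | zero => simp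
    | tmul m x => rw [LinearMap.rTensor_tmul, TensorProduct.smul_tmul']; rfl
    | add x y hx hy => rw [map_add, hx, hy, smul_add]
  let ℓ := fun (W : Type u) [AddCommGroup W] [Module A W] => TensorProduct.AlgebraTensorModule.rTensor A W l
  obtain ⟨⟨y, s⟩, hys⟩ := IsLocalizedModule.surj (Submonoid.powers b) (ℓ (∀ i, Q i)) z
  have hy : y = 0 := by
    apply hM ι Q
    rw [map_zero]
    funext i
    rw [← piRightHomAt_apply (B := B), Pi.zero_apply]
    have h0 : ∀ w : M ⊗[A] (∀ i, Q i), ℓ (Q i) (piRightHomAt (B := B) M Q i w) =
        piRightHomAt (B := B) L Q i (ℓ _ w) := fun w => by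
      induction w using TensorProduct.induction_on with
      | zero => simp
      | tmul m x => simp [ℓ, piRightHomAt]
      | add x y hx hy => simp only [map_add, hx, hy]
    have h1 : ℓ (Q i) (piRightHomAt (B := B) M Q i y) = 0 := by
      rw [h0, ← show (s : B) • z = ℓ _ y from hys]
      show piRightHomAt (B := B) L Q i ((s : B) • z) = 0
      rw [map_smul, hz i, smul_zero]
    obtain ⟨⟨c, n, rfl⟩, hn⟩ := (IsLocalizedModule.eq_zero_iff (Submonoid.powers b) (ℓ (Q i))).1 h1
    replace hn : b ^ n • piRightHomAt (B := B) M Q i y = 0 := hn
    clear h1 hys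
    induction n with
    | zero => simpa using hn
    | succ n ih =>
      refine ih (hb (Q i) ?_)
      rw [hb', map_zero, smul_smul, ← pow_succ']
      exact hn
  rw [hy, map_zero] at hys
  exact ((Module.End.isUnit_iff _).1 (IsLocalizedModule.map_units (ℓ (∀ i, Q i)) s)).1
    ((show (s : B) • z = 0 from hys).trans (map_zero _).symm)

end DevissExLib
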