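import Groth.Agent.DevissExLib.UnivInjLocal
import Groth.Agent.FlatLib.SliceMore
import Mathlib

/-!
# Spreading universal injectivity of a fibrewise regular element
-/

set_option autoImplicit false
set_option linter.all false

universe u

open scoped TensorProduct

namespace DevissExLib

variable {R B M : Type u} [CommRing R] [CommRing B] [Algebra R B] [AddCommGroup M] [Module B M] [Module R M]
  [IsScalarTower R B M]

/-- A regular element with flat quotient at a prime stays regular after tensoring. -/
theorem exists_smul_eq_zero_of_flat_quotient (w : PrimeSpectrum B) (r : B)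
    (hreg : ∀ m : M, r • m = 0 → ∃ t ∉ w.asIdeal, t • m = 0)
    (hflat : w ∈ FlatLib.flatLocus R B (M ⧸ (Ideal.span {r} • (⊤ : Submodule B M))))
    {Q : Type u} [AddCommGroup Q] [Module R Q] (z : M ⊗[R] Q) (hz : r • z = 0) :
    ∃ t ∉ w.asIdeal, t • z = 0 := by
  let T := w.asIdeal.primeCompl
  let Mq := LocalizedModule T M
  let ρ : M →ₗ[B] M := LinearMap.lsmul B M r
  let π : M →ₗ[B] M ⧸ (Ideal.span {r} • (⊤ : Submodule B M)) := Submodule.mkQ _
  have hex : Function.Exact ρ π := by
    intro m
    rw [Submodule.mkQ_apply, Submodule.Quotient.mk_eq_zero, Submodule.ideal_span_singleton_smul,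
      Submodule.mem_smul_pointwise_iff_exists]
    exact ⟨fun ⟨y, _, hy⟩ => ⟨y, hy⟩, fun ⟨y, hy⟩ => ⟨y, trivial, hy⟩⟩
  let g := LocalizedModule.map T ρ
  let h := LocalizedModule.map T π
  have hg : ∀ x : Mq, g x = r • x := fun x => by
    induction x using LocalizedModule.induction_on with
    | h m s =>
      simp only [g, ρ, LocalizedModule.map_mk, LinearMap.lsmul_apply]
      exact (LocalizedModule.smul'_mk (S := T) r m s).symm
  have hginj : Function.Injective g := by
    rw [injective_iff_map_eq_zero]
    intro x hx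
    induction x using LocalizedModule.induction_on with
    | h m s =>
      rw [hg, LocalizedModule.smul'_mk, ← LocalizedModule.zero_mk s, LocalizedModule.mk_eq] at hx
      obtain ⟨c, hc⟩ := hx
      obtain ⟨t, ht, htm⟩ := hreg ((c : B) • (s : B) • m) (by
        rw [smul_comm r, smul_comm r]
        simpa [Submonoid.smul_def] using hc)
      rw [← LocalizedModule.zero_mk s, LocalizedModule.mk_eq]
      exact ⟨⟨t, ht⟩ * c, by simpa [Submonoid.smul_def, mul_smul] using htm⟩
  haveI : Module.Flat R (LocalizedModule T (M ⧸ (Ideal.span {r} • (⊤ : Submodule B M)))) := hflat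
  have hsurj : Function.Surjective h := LocalizedModule.map_surjective T π (Submodule.mkQ_surjective _)
  have hinj := LinearMap.lTensor_injective_of_exact_of_flat (h.restrictScalars R) hsurj (g.restrictScalars R) hginj
    (LocalizedModule.map_exact T ρ π hex) Q
  let L := TensorProduct.AlgebraTensorModule.rTensor R Q (LocalizedModule.mkLinearMap T M)
  have hLz : r • L z = 0 := by rw [← map_smul, hz, map_zero]
  have h1 : L z = 0 := by
    refine (TensorProduct.comm R Mq Q).injective ((hinj ?_).trans (map_zero _).symm)
    rw [map_zero]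
    have key : ∀ x : Mq ⊗[R] Q, (g.restrictScalars R).lTensor Q (TensorProduct.comm R Mq Q x) =
        TensorProduct.comm R Mq Q (r • x) := by
      intro x
      induction x using TensorProduct.induction_on with
      | zero => simp
      | tmul x s =>
        rw [TensorProduct.comm_tmul, LinearMap.lTensor_tmul, TensorProduct.smul_tmul', TensorProduct.comm_tmul,
          LinearMap.restrictScalars_apply, hg]
      | add x y hx hy => simp only [map_add, smul_add, hx, hy]
    rw [key, hLz, map_zero]
  obtain ⟨t, ht⟩ := (IsLocalizedModule.eq_zero_iff T L).1 h1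
  exact ⟨t, t.2, ht⟩

/-- An element regular on the fibre at `p` of a projective module is universally injective over a neighbourhood
of `p`. -/
theorem exists_univInj_away [Algebra.FinitePresentation R B] [Module.FinitePresentation B M] [Module.Projective R M]
    (p : Ideal R) [p.IsPrime] (r : B)
    (hfib : Function.Injective (((LinearMap.lsmul B M r).restrictScalars R).baseChange p.ResidueField)) :
    ∃ g : R, g ∉ p ∧ ∀ (Q : Type u) [AddCommGroup Q] [Module R Q], (Function.Bijective fun x : Q => g • x) →
      Function.Injective (((LinearMap.lsmul B M r).restrictScalars R).rTensor Q) := by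
  let u := (LinearMap.lsmul B M r).restrictScalars R
  let good : Set (PrimeSpectrum B) := {w |
    (∀ m : M, r • m = 0 → ∃ t ∉ w.asIdeal, t • m = 0) ∧
      w ∈ FlatLib.flatLocus R B (M ⧸ (Ideal.span {r} • (⊤ : Submodule B M)))}
  let W : Set (PrimeSpectrum B) := interior good ∪ PrimeSpectrum.basicOpen r
  have hW : IsOpen W := isOpen_interior.union (PrimeSpectrum.basicOpen r).isOpen
  have hnear : ∀ w : PrimeSpectrum B, w.asIdeal.comap (algebraMap R B) ≤ p → w ∈ W := by
    intro w hw
    by_cases hrw : r ∈ w.asIdeal
    swap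
    · exact Or.inr hrw
    let π := w.asIdeal.comap (algebraMap R B)
    let κ := π.ResidueField
    have hQ : ∀ c ∉ p, Function.Injective fun x : κ => c • x := by
      intro c hc x y hxy
      have hc0 : algebraMap R κ c ≠ 0 := fun h0 => hc (hw (Ideal.algebraMap_residueField_eq_zero.1 h0))
      simp only [Algebra.smul_def] at hxy
      exact mul_left_cancel₀ hc0 hxy
    have hinj := rTensor_injective_of_fibre p u hfib κ hQ
    have hflat : w ∈ FlatLib.flatLocus R B M :=
      (FlatLib.flat_localized_iff w.asIdeal.primeCompl (LocalizedModule.mkLinearMap _ _)).mpr fun X _ _ N x hx =>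
        ⟨1, one_mem _, by
          rw [one_smul]
          exact Module.Flat.lTensor_preserves_injective_linearMap _ Subtype.val_injective
            (hx.trans (map_zero _).symm)⟩
    obtain ⟨U, hU, hwU, hUg⟩ := FlatLib.slice_point w r hrw hflat (by
      rintro y ⟨t, ht, hty⟩
      have h0 : ∀ v ∈ π.map (algebraMap R B) • (⊤ : Submodule B M), (v ⊗ₜ[R] (1 : κ)) = 0 := by
        intro v hv
        rw [← Submodule.restrictScalars_mem R, Ideal.smul_restrictScalars,
          Submodule.restrictScalars_top] at hv
        refine Submodule.smul_induction_on hv (fun a ha m _ => ?_) fun x y hx hy => by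
          rw [TensorProduct.add_tmul, hx, hy, add_zero]
        rw [TensorProduct.smul_tmul, Algebra.smul_def, mul_one, Ideal.algebraMap_residueField_eq_zero.2 ha,
          TensorProduct.tmul_zero]
      have h1 : u.rTensor κ ((t • y) ⊗ₜ[R] (1 : κ)) = 0 := by
        rw [LinearMap.rTensor_tmul]
        refine (congrArg (· ⊗ₜ[R] (1 : κ)) ?_).trans (h0 _ hty)
        show r • t • y = t • r • y
        rw [smul_comm]
      have h2 : (t • y) ⊗ₜ[R] (1 : κ) = 0 := hinj (h1.trans (map_zero _).symm)
      have h3 : (1 : κ) ⊗ₜ[R] (t • y) = 0 := by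
        have := congrArg (TensorProduct.comm R M κ) h2
        rwa [TensorProduct.comm_tmul, map_zero] at this
      obtain ⟨c, hc, hcy⟩ := FlatLib.exists_smul_mem_of_tmul_eq_zero π h3
      refine ⟨algebraMap R B c * t, fun h => (w.isPrime.mem_or_mem h).elim hc ht, ?_⟩
      rw [mul_smul, algebraMap_smul, ← Submodule.restrictScalars_mem R, Ideal.smul_restrictScalars,
        Submodule.restrictScalars_top]
      exact hcy)
    exact Or.inl (mem_interior.2 ⟨U, fun v hv => hUg v hv, hU, hwU⟩)
  obtain ⟨I, hI⟩ := (PrimeSpectrum.isClosed_iff_zeroLocus_ideal Wᶜ).1 hW.isClosed_compl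
  obtain ⟨g, hgp, hgI⟩ : ∃ g : R, g ∉ p ∧ algebraMap R B g ∈ I := by
    by_contra hne
    push Not at hne
    obtain ⟨Q, hQ, hIQ, hQd⟩ := Ideal.exists_le_prime_disjoint I
      (Algebra.algebraMapSubmonoid B p.primeCompl) (Set.disjoint_left.2 fun b hb => by
        rintro ⟨c, hc, rfl⟩
        exact hne c hc hb)
    have h1 : (⟨Q, hQ⟩ : PrimeSpectrum B) ∈ W := hnear _ fun c hc => by
      by_contra hcp
      exact Set.disjoint_left.1 hQd hc ⟨c, hcp, rfl⟩
    exact (show (⟨Q, hQ⟩ : PrimeSpectrum B) ∈ Wᶜ from hI ▸ hIQ) h1
  refine ⟨g, hgp, fun Q _ _ hgQ => ?_⟩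
  have hu : ∀ z : M ⊗[R] Q, u.rTensor Q z = r • z := fun z => by
    induction z using TensorProduct.induction_on with
    | zero => simp
    | tmul m q => rw [LinearMap.rTensor_tmul, TensorProduct.smul_tmul']; rfl
    | add x y hx hy => rw [map_add, hx, hy, smul_add]
  rw [injective_iff_map_eq_zero]
  intro z hz
  rw [hu] at hz
  let J : Ideal B := (⊥ : Submodule B (M ⊗[R] Q)).colon {z}
  have hJ : algebraMap R B g ∈ J.radical := by
    rw [Ideal.radical_eq_sInf, Submodule.mem_sInf]
    rintro P ⟨hJP, hP⟩
    by_contra hgP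
    obtain ⟨t, htP, ht⟩ : ∃ t ∉ P, t • z = 0 := by
      have hW' : (⟨P, hP⟩ : PrimeSpectrum B) ∈ W := by
        by_contra hc
        have : (⟨P, hP⟩ : PrimeSpectrum B) ∈ PrimeSpectrum.zeroLocus (I : Set B) := hI ▸ hc
        exact hgP (this hgI)
      rcases hW' with h1 | h1
      · obtain ⟨h2, h3⟩ := interior_subset h1
        exact exists_smul_eq_zero_of_flat_quotient _ r h2 h3 z hz
      · exact ⟨r, h1, hz⟩
    exact htP (hJP (by rw [Submodule.mem_colon_singleton, Submodule.mem_bot]; exact ht))
  obtain ⟨n, hn⟩ := hJ
  rw [Submodule.mem_colon_singleton, Submodule.mem_bot, ← map_pow, algebraMap_smul] at hn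
  let e : Q ≃ₗ[R] Q := LinearEquiv.ofBijective (LinearMap.lsmul R Q g) hgQ
  have he : ∀ v : M ⊗[R] Q, e.lTensor M v = g • v := fun v => by
    induction v using TensorProduct.induction_on with
    | zero => simp
    | tmul m q => rw [LinearEquiv.lTensor_tmul, ← TensorProduct.tmul_smul]; rfl
    | add x y hx hy => rw [map_add, hx, hy, smul_add]
  induction n with
  | zero => simpa using hn
  | succ n ih =>
    refine ih ((e.lTensor M).injective ?_)
    rw [he, map_zero, smul_smul, ← pow_succ']
    exact hn

end DevissExLib
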