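import Groth.Prelude
import Groth.Agent.DevissExLib.Projective
import Groth.Agent.DevissExLib.UnivInjShrink
import Groth.Agent.DevissExLib.PureDescent
import Mathlib

/-!
# An open of the base change with projective sections
-/

set_option autoImplicit false
set_option linter.all false

universe u

open AlgebraicGeometry CategoryTheory
open scoped TensorProduct

namespace DevissExLib

/-- A point of a tensor product over a given point. -/
theorem mem_range_comap_tensor {T C S₁ : Type u} [CommRing T] [CommRing C] [CommRing S₁] [Algebra T C] [Algebra T S₁]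
    (c : PrimeSpectrum C) (hc : PrimeSpectrum.comap (algebraMap T C) c ∈ Set.range (PrimeSpectrum.comap (algebraMap T S₁))) :
    c ∈ Set.range (PrimeSpectrum.comap (algebraMap C (C ⊗[T] S₁))) := by
  rw [← PrimeSpectrum.nontrivial_iff_mem_rangeComap] at hc ⊢
  let a := (PrimeSpectrum.comap (algebraMap T C) c).asIdeal
  let κ := a.ResidueField
  let K := c.asIdeal.ResidueField
  haveI : c.asIdeal.LiesOver a := ⟨rfl⟩
  let e₁ : K ⊗[C] (C ⊗[T] S₁) ≃ₗ[K] K ⊗[T] S₁ := TensorProduct.AlgebraTensorModule.cancelBaseChange T C K K S₁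
  letI : Algebra κ K := (Ideal.ResidueField.map a c.asIdeal (algebraMap T C) rfl).toAlgebra
  haveI : IsScalarTower T κ K := IsScalarTower.of_algebraMap_eq fun t =>
    ((Ideal.ResidueField.map_algebraMap a c.asIdeal (algebraMap T C) rfl t).trans
      (IsScalarTower.algebraMap_apply T C K t).symm).symm
  let e₂ : K ⊗[κ] (κ ⊗[T] S₁) ≃ₗ[K] K ⊗[T] S₁ := TensorProduct.AlgebraTensorModule.cancelBaseChange T κ K K S₁
  haveI : Nontrivial (κ ⊗[T] S₁) := hc
  haveI : Nontrivial (K ⊗[κ] (κ ⊗[T] S₁)) := Module.FaithfullyFlat.lTensor_nontrivial κ K (κ ⊗[T] S₁)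
  exact (e₁.trans e₂.symm).toEquiv.nontrivial

/-- A regular element on a base changed module gives an injective base change of its multiplication. -/
theorem injective_baseChange_lsmul {R κ B F P : Type u} [CommRing R] [CommRing κ] [CommRing B] [CommRing F]
    [Algebra R κ] [Algebra R B] [Algebra κ F] [Algebra B F] [Algebra R F] [IsScalarTower R κ F] [IsScalarTower R B F]
    [Algebra.IsPushout R κ B F] [AddCommGroup P] [Module B P] [Module R P] [IsScalarTower R B P] (r : B)
    (hreg : ∀ m : F ⊗[B] P, algebraMap B F r • m = 0 → m = 0) :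
    Function.Injective (((LinearMap.lsmul B P r).restrictScalars R).baseChange κ) := by
  let e := Algebra.IsPushout.cancelBaseChange R κ B F P
  have hs : ∀ (a : κ) (m : P), e.symm (a ⊗ₜ[R] m) = algebraMap κ F a ⊗ₜ[B] m := fun a m =>
    Algebra.IsPushout.cancelBaseChangeAux_symm_tmul R κ B F P a m
  rw [injective_iff_map_eq_zero]
  intro z hz
  have key : ∀ w : κ ⊗[R] P, e.symm (((LinearMap.lsmul B P r).restrictScalars R).baseChange κ w) =
      algebraMap B F r • e.symm w := fun w => by
    induction w using TensorProduct.induction_on with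
    | zero => simp
    | tmul a m =>
      rw [LinearMap.baseChange_tmul, LinearMap.restrictScalars_apply, LinearMap.lsmul_apply, hs, hs,
        algebraMap_smul, TensorProduct.tmul_smul]
    | add x y hx hy => simp only [map_add, smul_add, hx, hy]
  exact e.symm.injective ((hreg _ (by rw [← key, hz, map_zero])).trans (map_zero e.symm).symm)

theorem exists_open_projective {R S : Type u} [CommRing R] [CommRing S] [Algebra R S] [Algebra.FinitePresentation R S]
    (N : Type u) [AddCommGroup N] [Module S N] [Module R N] [IsScalarTower R S N] [Module.FinitePresentation S N]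
    (p : Ideal R) [p.IsPrime] (q : Ideal S) [q.IsPrime] [q.LiesOver p] (hflat : FlatCA.FlatAt R q N) :
    ∃ (R' : Type u) (_ : CommRing R') (_ : Algebra R R') (p' : Ideal R') (_ : p'.IsPrime), FlatCA.IsEtaleNhd R R' p p' ∧
      ∀ (S' N' : Type u) [CommRing S'] [Algebra R S'] [Algebra S S'] [Algebra R' S'] [IsScalarTower R S S'] [IsScalarTower R R' S']
        [Algebra.IsPushout R S R' S']
        [AddCommGroup N'] [Module S' N'] [Module S N'] [IsScalarTower S S' N']
        (f : N →ₗ[S] N'), IsBaseChange S' f →
        ∃ (C : Type u) (_ : CommRing C) (_ : Algebra S' C) (_ : Algebra R' C) (_ : IsScalarTower R' S' C)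
          (x' : Ideal C) (_ : x'.IsPrime),
          IsOpenImmersion (Spec.map (CommRingCat.ofHom (algebraMap S' C))) ∧
          (x'.comap (algebraMap S' C)).LiesOver q ∧ (x'.comap (algebraMap S' C)).LiesOver p' ∧
          Module.Projective R' (RestrictScalars R' C (C ⊗[S'] N')) := by
  classical
  obtain ⟨R', S₁, _, _, _, _, _, _, _, _, p', q₁, _, _, ⟨hetR, hp'p, hbR⟩, ⟨hetS, hq₁q, hbS⟩, hq₁p', hproj⟩ :=
    exists_projective_nhd N p q hflat
  haveI := hetR
  haveI := hetS
  haveI := hp'p
  haveI := hq₁q
  haveI := hq₁p'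
  haveI : SMulCommClass S R' S₁ := ⟨fun s c z => by rw [Algebra.smul_def c, Algebra.smul_def c, mul_smul_comm]⟩
  let P := S₁ ⊗[S] N
  haveI : IsScalarTower R' S₁ P := TensorProduct.isScalarTower_left
  haveI : Module.Projective R' P := by
    haveI := hproj
    let E : RestrictScalars R' S₁ P ≃ₗ[R'] P :=
      { RestrictScalars.addEquiv R' S₁ P with
        map_smul' := fun c z => by
          show RestrictScalars.addEquiv R' S₁ P (c • z) = c • RestrictScalars.addEquiv R' S₁ P z
          rw [RestrictScalars.addEquiv_map_smul, algebraMap_smul] }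
    exact Module.Projective.of_equiv E
  -- the base change and the image of the étale neighbourhood
  let T := R' ⊗[R] S
  letI algST : Algebra S T := Algebra.TensorProduct.rightAlgebra
  haveI : IsScalarTower R S T := IsScalarTower.of_algebraMap_eq fun a =>
    ((Algebra.TensorProduct.includeRight : S →ₐ[R] T).commutes a).symm
  let ψ : T →ₐ[R'] S₁ :=
    Algebra.TensorProduct.lift (Algebra.ofId R' S₁) (IsScalarTower.toAlgHom R S S₁) fun _ _ => Commute.all _ _
  letI algTS₁ : Algebra T S₁ := ψ.toRingHom.toAlgebra
  haveI : IsScalarTower R' T S₁ := IsScalarTower.of_algebraMap_eq fun a => (ψ.commutes a).symm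
  haveI : IsScalarTower S T S₁ := IsScalarTower.of_algebraMap_eq fun a => by
    show algebraMap S S₁ a = ψ ((1 : R') ⊗ₜ[R] a)
    refine ((Algebra.TensorProduct.lift_tmul _ _ _ _ _).trans ?_).symm
    rw [map_one, one_mul]
    rfl
  haveI : Algebra.IsPushout R R' S T := inferInstanceAs (Algebra.IsPushout R R' S (R' ⊗[R] S))
  haveI : Algebra.Etale S T := RingHom.etale_algebraMap.1
    (RingHom.Etale.isStableUnderBaseChange R R' S T (RingHom.etale_algebraMap.2 inferInstance))
  haveI : Algebra.Etale T S₁ := Algebra.Etale.of_restrictScalars S T S₁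
  haveI : Algebra.FinitePresentation R S₁ := Algebra.FinitePresentation.trans R S S₁
  haveI : Algebra.FinitePresentation R' S₁ := Algebra.FinitePresentation.of_restrict_scalars_finitePresentation R R' S₁
  haveI : Etale (Spec.map (CommRingCat.ofHom (algebraMap T S₁))) := by
    rw [HasRingHomProperty.Spec_iff (P := @Etale)]
    exact RingHom.etale_algebraMap.2 inferInstance
  let π := PrimeSpectrum.comap (algebraMap T S₁)
  have hU : IsOpen (Set.range π) :=
    (Spec.map (CommRingCat.ofHom (algebraMap T S₁))).isOpenMap.isOpen_range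
  obtain ⟨I, hI⟩ := (PrimeSpectrum.isClosed_iff_zeroLocus_ideal _).1 hU.isClosed_compl
  -- the fibre
  let κ := p'.ResidueField
  let F := p'.Fiber S₁
  letI algSF : Algebra S₁ F := Algebra.TensorProduct.rightAlgebra
  haveI : Algebra.IsPushout R' κ S₁ F := inferInstanceAs (Algebra.IsPushout R' κ S₁ (κ ⊗[R'] S₁))
  haveI : IsNoetherianRing F := Algebra.FiniteType.isNoetherianRing κ F
  let M := F ⊗[S₁] P
  let As : Finset (PrimeSpectrum F) :=
    (associatedPrimes.finite F M).toFinset.attach.image fun P₀ =>
      ⟨P₀.1, (IsAssociatedPrime.isPrime ((associatedPrimes.finite F M).mem_toFinset.1 P₀.2))⟩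
  let bad : Finset (PrimeSpectrum T) :=
    insert (π ⟨q₁, inferInstance⟩) (As.image fun P₀ => π (PrimeSpectrum.comap (algebraMap S₁ F) P₀))
  have hbad : ∀ a ∈ bad, a ∈ Set.range π := by
    intro a ha
    rcases Finset.mem_insert.1 ha with rfl | ha
    · exact ⟨_, rfl⟩
    · obtain ⟨P₀, -, rfl⟩ := Finset.mem_image.1 ha
      exact ⟨_, rfl⟩
  obtain ⟨t, htI, ht⟩ : ∃ t ∈ I, ∀ a ∈ bad, t ∉ a.asIdeal := by
    by_contra hne
    push Not at hne
    obtain ⟨a, ha, hIa⟩ := (Ideal.subset_union_prime (s := bad) (f := PrimeSpectrum.asIdeal) (π ⟨q₁, inferInstance⟩) (π ⟨q₁, inferInstance⟩)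
      fun a _ _ _ => a.isPrime).1 fun x hx => by
        obtain ⟨a, ha, hxa⟩ := hne x hx
        exact Set.mem_biUnion ha hxa
    exact (show a ∈ (Set.range π)ᶜ from hI ▸ hIa) (hbad a ha)
  let r := algebraMap T S₁ t
  have hfib : Function.Injective (((LinearMap.lsmul S₁ P r).restrictScalars R').baseChange κ) := by
    have hreg : ∀ m : M, algebraMap S₁ F r • m = 0 → m = 0 := by
      intro m hm
      by_contra h0
      have hmem : algebraMap S₁ F r ∈ ⋃ P₀ ∈ associatedPrimes F M, (P₀ : Set F) := by
        rw [biUnion_associatedPrimes_eq_zero_divisors]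
        exact ⟨m, h0, hm⟩
      obtain ⟨P₀, hP₀, hrP⟩ := Set.mem_iUnion₂.1 hmem
      refine ht _ (Finset.mem_insert_of_mem (Finset.mem_image.2
        ⟨⟨P₀, IsAssociatedPrime.isPrime hP₀⟩, Finset.mem_image.2
          ⟨⟨P₀, (associatedPrimes.finite F M).mem_toFinset.2 hP₀⟩, Finset.mem_attach _ _, rfl⟩, rfl⟩)) hrP
    exact injective_baseChange_lsmul (F := F) r hreg
  haveI : Module.FinitePresentation S₁ P := inferInstance
  obtain ⟨g, hgp, huniv⟩ := exists_univInj_away (R := R') (B := S₁) (M := P) p' r hfib
  obtain ⟨p'', _, hp''p', hnR''⟩ := exists_away_prime g p' hgp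
  let R'' := Localization.Away g
  haveI : IsScalarTower R R' R'' := inferInstance
  refine ⟨R'', inferInstance, inferInstance, p'', inferInstance, isEtaleNhd_trans ⟨hetR, hp'p, hbR⟩ hnR'', ?_⟩
  intro S' N' _ _ _ _ _ _ _ _ _ _ _ f hf
  -- the base change as a localisation
  letI algR'S' : Algebra R' S' := ((algebraMap R'' S').comp (algebraMap R' R'')).toAlgebra
  haveI : IsScalarTower R' R'' S' := IsScalarTower.of_algebraMap_eq fun _ => rfl
  haveI : IsScalarTower R R' S' := IsScalarTower.of_algebraMap_eq fun a => by
    show algebraMap R S' a = algebraMap R'' S' (algebraMap R' R'' (algebraMap R R' a))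
    rw [← IsScalarTower.algebraMap_apply R R' R'', ← IsScalarTower.algebraMap_apply R R'' S']
  let χ : T →ₐ[R'] S' :=
    Algebra.TensorProduct.lift (Algebra.ofId R' S') (IsScalarTower.toAlgHom R S S') fun _ _ => Commute.all _ _
  letI algTS' : Algebra T S' := χ.toRingHom.toAlgebra
  haveI : IsScalarTower R' T S' := IsScalarTower.of_algebraMap_eq fun a => (χ.commutes a).symm
  haveI : IsScalarTower S T S' := IsScalarTower.of_algebraMap_eq fun a => by
    show algebraMap S S' a = χ ((1 : R') ⊗ₜ[R] a)
    refine ((Algebra.TensorProduct.lift_tmul _ _ _ _ _).trans ?_).symm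
    rw [map_one, one_mul]
    rfl
  haveI : Algebra.IsPushout R S R'' S' := inferInstance
  haveI hpo0 : Algebra.IsPushout R R'' S S' := Algebra.IsPushout.symm inferInstance
  haveI : IsScalarTower R T S' := IsScalarTower.of_algebraMap_eq fun a => by
    rw [IsScalarTower.algebraMap_apply R R' T, ← IsScalarTower.algebraMap_apply R' T S',
      ← IsScalarTower.algebraMap_apply R R' S']
  haveI hpo : Algebra.IsPushout R' R'' T S' :=
    (Algebra.IsPushout.comp_iff R R' S T).1 hpo0
  haveI hlocS' : IsLocalization (Submonoid.powers (algebraMap R' T g)) S' := by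
    rw [← Algebra.algebraMapSubmonoid_powers]
    exact (Algebra.isLocalization_iff_isPushout (Submonoid.powers g) R'').2 hpo.symm
  let t' := algebraMap T S' t
  let C := Localization.Away t'
  haveI : IsScalarTower T S' C := inferInstance
  let gt := algebraMap R' T g * t
  haveI hlocC : IsLocalization.Away gt C := IsLocalization.Away.mul' S' C _ t
  let b := algebraMap T S₁ gt
  let C' := Localization.Away b
  letI algCC' : Algebra C C' := (IsLocalization.Away.lift gt (g := algebraMap T C') (by
    rw [IsScalarTower.algebraMap_apply T S₁ C']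
    exact IsLocalization.Away.algebraMap_isUnit b)).toAlgebra
  haveI : IsScalarTower T C C' := IsScalarTower.of_algebraMap_eq fun a =>
    (IsLocalization.Away.lift_eq gt _ a).symm
  haveI hpoC : Algebra.IsPushout T C S₁ C' := by
    haveI : IsLocalization (Algebra.algebraMapSubmonoid S₁ (Submonoid.powers gt)) C' := by
      rw [Algebra.algebraMapSubmonoid_powers]; infer_instance
    exact Algebra.IsPushout.symm (Algebra.isPushout_of_isLocalization (Submonoid.powers gt) C S₁ C')
  haveI hff : Module.FaithfullyFlat C C' := by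
    haveI : Module.Flat C C' :=
      Module.Flat.of_linearEquiv (Algebra.IsPushout.equiv T C S₁ C').symm.toLinearEquiv
    refine Module.FaithfullyFlat.of_comap_surjective fun c => ?_
    have hc : PrimeSpectrum.comap (algebraMap T C) c ∈ Set.range π := by
      by_contra h
      have h1 : PrimeSpectrum.comap (algebraMap T C) c ∈ PrimeSpectrum.zeroLocus (I : Set T) := hI ▸ h
      exact c.isPrime.ne_top (Ideal.eq_top_of_isUnit_mem _ (h1 htI)
        (isUnit_of_dvd_unit (map_dvd _ (dvd_mul_left t _)) (IsLocalization.Away.algebraMap_isUnit gt)))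
    obtain ⟨Q, hQ⟩ := mem_range_comap_tensor c hc
    refine ⟨PrimeSpectrum.comap (Algebra.IsPushout.equiv T C S₁ C').symm.toRingEquiv.toRingHom Q, ?_⟩
    rw [← PrimeSpectrum.comap_comp_apply]
    exact (congrArg (fun h => PrimeSpectrum.comap h Q)
      (RingHom.ext fun a => (Algebra.IsPushout.equiv T C S₁ C').symm.commutes a)).trans hQ
  -- the modules
  haveI : IsScalarTower R'' S' C := inferInstance
  haveI : IsScalarTower R' S' C := inferInstance
  haveI : IsScalarTower R' T C := IsScalarTower.of_algebraMap_eq (R := R') (S := T) (A := C) fun a => by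
    rw [IsScalarTower.algebraMap_apply T S' C, ← IsScalarTower.algebraMap_apply R' T S',
      ← IsScalarTower.algebraMap_apply R' S' C]
  haveI : IsScalarTower R' R'' C := IsScalarTower.of_algebraMap_eq (R := R') (S := R'') (A := C) fun a => by
    rw [IsScalarTower.algebraMap_apply R'' S' C, ← IsScalarTower.algebraMap_apply R' R'' S',
      ← IsScalarTower.algebraMap_apply R' S' C]
  letI algR''C' : Algebra R'' C' := ((algebraMap C C').comp (algebraMap R'' C)).toAlgebra
  haveI : IsScalarTower R'' C C' := IsScalarTower.of_algebraMap_eq fun _ => rfl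
  haveI : IsScalarTower R' R'' C' := IsScalarTower.of_algebraMap_eq (R := R') (S := R'') (A := C') fun a => by
    show algebraMap R' C' a = algebraMap C C' (algebraMap R'' C (algebraMap R' R'' a))
    rw [← IsScalarTower.algebraMap_apply R' R'' C, IsScalarTower.algebraMap_apply R' T C,
      ← IsScalarTower.algebraMap_apply T C C', IsScalarTower.algebraMap_apply T S₁ C',
      ← IsScalarTower.algebraMap_apply R' T S₁, ← IsScalarTower.algebraMap_apply R' S₁ C']
  haveI : IsScalarTower S T C := IsScalarTower.of_algebraMap_eq (R := S) (S := T) (A := C) fun a => by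
    rw [IsScalarTower.algebraMap_apply T S' C, ← IsScalarTower.algebraMap_apply S T S',
      ← IsScalarTower.algebraMap_apply S S' C]
  haveI : IsScalarTower S C C' := IsScalarTower.of_algebraMap_eq (R := S) (S := C) (A := C') fun a => by
    rw [IsScalarTower.algebraMap_apply S T C, ← IsScalarTower.algebraMap_apply T C C',
      IsScalarTower.algebraMap_apply T S₁ C', ← IsScalarTower.algebraMap_apply S T S₁,
      ← IsScalarTower.algebraMap_apply S S₁ C']
  haveI : SMulCommClass S R'' C' := ⟨fun s c z => by rw [Algebra.smul_def c, Algebra.smul_def c, mul_smul_comm]⟩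
  haveI : SMulCommClass S R' C' := ⟨fun s c z => by rw [Algebra.smul_def c, Algebra.smul_def c, mul_smul_comm]⟩
  let L := C' ⊗[S] N
  haveI : IsScalarTower R' R'' L := TensorProduct.isScalarTower_left
  haveI : IsScalarTower R' S₁ L := TensorProduct.isScalarTower_left
  let l : P →ₗ[S₁] L := TensorProduct.AlgebraTensorModule.rTensor S N (IsScalarTower.toAlgHom S₁ S₁ C').toLinearMap
  haveI : IsLocalizedModule (Submonoid.powers b) l := by
    rw [isLocalizedModule_iff_isBaseChange (Submonoid.powers b) C']
    refine IsBaseChange.of_comp (TensorProduct.isBaseChange S N S₁) ?_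
    rw [show l.restrictScalars S ∘ₗ TensorProduct.mk S S₁ N 1 = TensorProduct.mk S C' N 1 from
      LinearMap.ext fun m => by
        show (IsScalarTower.toAlgHom S₁ S₁ C') 1 ⊗ₜ[S] m = (1 : C') ⊗ₜ[S] m
        rw [map_one]]
    exact TensorProduct.isBaseChange S N _
  haveI : Module.Flat R' L :=
    haveI : Module.Flat R' (C' ⊗[S₁] P) := Groth.Agent.S9350.flat_tensor
    Module.Flat.of_linearEquiv
      ((TensorProduct.AlgebraTensorModule.cancelBaseChange S S₁ C' C' N).restrictScalars R').symm
  haveI : Module.Flat R'' L := flat_of_unramified (R := R')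
  have hb : ∀ (Q : Type u) [AddCommGroup Q] [Module R'' Q] [Module R' Q] [IsScalarTower R' R'' Q],
      Function.Injective (((LinearMap.lsmul S₁ P b).restrictScalars R').rTensor Q) := by
    intro Q _ _ _ _
    have hgQ : Function.Bijective fun x : Q => g • x := by
      have h := (IsLocalization.Away.algebraMap_isUnit (S := R'') g).map (Algebra.lsmul R'' R'' Q)
      have := (Module.End.isUnit_iff _).1 h
      have he : (fun x : Q => g • x) = fun x : Q => algebraMap R' R'' g • x := funext fun x => (algebraMap_smul R'' g x).symm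
      rw [he]
      exact this
    have h1 : (LinearMap.lsmul S₁ P b).restrictScalars R' =
        ((LinearMap.lsmul S₁ P r).restrictScalars R').comp (g • LinearMap.id) := LinearMap.ext fun m => by
      show (algebraMap T S₁ (algebraMap R' T g * t)) • m = algebraMap T S₁ t • g • m
      rw [map_mul, ← IsScalarTower.algebraMap_apply R' T S₁, mul_comm, mul_smul, algebraMap_smul S₁ g m]
    rw [h1, LinearMap.rTensor_comp, LinearMap.rTensor_smul, LinearMap.rTensor_id]
    refine (huniv Q hgQ).comp ?_
    let e : Q ≃ₗ[R'] Q := LinearEquiv.ofBijective (LinearMap.lsmul R' Q g) hgQ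
    have he : ∀ z : P ⊗[R'] Q, (g • LinearMap.id : P ⊗[R'] Q →ₗ[R'] P ⊗[R'] Q) z = e.lTensor P z := fun z => by
      induction z using TensorProduct.induction_on with
      | zero => simp
      | tmul m x => rw [LinearEquiv.lTensor_tmul, LinearMap.smul_apply, LinearMap.id_apply, ← TensorProduct.tmul_smul]; rfl
      | add x y hx hy => rw [map_add, map_add, hx, hy]
    intro x y hxy
    rw [he, he] at hxy
    exact (e.lTensor P).injective hxy
  have hML : CAlg.IsMittagLeffler R'' L :=
    isMittagLeffler_of_localized (Submonoid.powers g) b l (ProjLib.isMittagLeffler_of_projective P) hb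
  -- the comparison map
  let MC := C ⊗[S'] N'
  haveI : IsScalarTower R'' C MC := TensorProduct.isScalarTower_left
  let mk0 := TensorProduct.mk S' C N' 1
  let n₀ : N →ₗ[S] MC := mk0.restrictScalars S ∘ₗ f
  have hn₀ : IsBaseChange C n₀ := hf.comp (TensorProduct.isBaseChange S' N' C)
  haveI : SMulCommClass S C C' := ⟨fun s c z => by rw [Algebra.smul_def c, Algebra.smul_def c, mul_smul_comm]⟩
  haveI : IsScalarTower S C L := IsScalarTower.of_algebraMap_smul fun a z => by
    rw [← algebraMap_smul C' (algebraMap S C a) z, ← IsScalarTower.algebraMap_apply S C C', algebraMap_smul]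
  let ι : MC →ₗ[C] L := hn₀.lift (TensorProduct.mk S C' N 1)
  have hι : IsBaseChange C' ι := IsBaseChange.of_comp hn₀ (by
    rw [show ι.restrictScalars S ∘ₗ n₀ = TensorProduct.mk S C' N 1 from hn₀.lift_comp _]
    exact TensorProduct.isBaseChange S N C')
  haveI : IsScalarTower R'' C L := IsScalarTower.of_algebraMap_smul fun a z => by
    rw [← algebraMap_smul C' (algebraMap R'' C a) z, ← IsScalarTower.algebraMap_apply R'' C C', algebraMap_smul]
  have hinj : ∀ (Q : Type u) [AddCommGroup Q] [Module R'' Q], Function.Injective ((ι.restrictScalars R'').rTensor Q) := by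
    intro Q _ _
    let E : C' ⊗[C] (MC ⊗[R''] Q) ≃ₗ[C] L ⊗[R''] Q :=
      (TensorProduct.AlgebraTensorModule.assoc R'' C C C' MC Q).symm.trans
        (TensorProduct.AlgebraTensorModule.congr (hι.equiv.restrictScalars C) (LinearEquiv.refl R'' Q))
    have hE : ∀ z, E ((1 : C') ⊗ₜ[C] z) = (ι.restrictScalars R'').rTensor Q z := fun z => by
      induction z using TensorProduct.induction_on with
      | zero => simp
      | tmul m x => simp [E, IsBaseChange.equiv_tmul]
      | add x y hx hy => simp only [TensorProduct.tmul_add, map_add, hx, hy]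
    intro x y hxy
    rw [← hE, ← hE] at hxy
    exact Module.FaithfullyFlat.tensorProduct_mk_injective (A := C) (B := C') (MC ⊗[R''] Q)
      (show (TensorProduct.mk C C' (MC ⊗[R''] Q) 1) x = (TensorProduct.mk C C' (MC ⊗[R''] Q) 1) y from E.injective hxy)
  haveI : Module.Finite S' N' := Module.Finite.equiv hf.equiv
  haveI : Algebra.FiniteType R'' S' :=
    Algebra.FiniteType.equiv inferInstance (Algebra.IsPushout.equiv R R'' S S')
  haveI : Algebra.FiniteType R'' C := Algebra.FiniteType.trans (R := R'') (S := S') inferInstance inferInstance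
  haveI : Module.Projective R'' MC :=
    projective_of_univInj hML (ι.restrictScalars R'') hinj (exists_countable_span R'' (C := C))
  -- the point
  let E : RestrictScalars R'' C MC ≃ₗ[R''] MC :=
    { RestrictScalars.addEquiv R'' C MC with
      map_smul' := fun c z => by
        show RestrictScalars.addEquiv R'' C MC (c • z) = c • RestrictScalars.addEquiv R'' C MC z
        rw [RestrictScalars.addEquiv_map_smul, algebraMap_smul] }
  have hx : gt ∉ q₁.comap (algebraMap T S₁) := fun hm => by
    rcases ((inferInstance : (q₁.comap (algebraMap T S₁)).IsPrime).mem_or_mem hm) with h1 | h1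
    · rw [Ideal.mem_comap, ← IsScalarTower.algebraMap_apply] at h1
      exact hgp ((Ideal.over_def q₁ p').ge h1)
    · exact ht _ (Finset.mem_insert_self _ _) h1
  let x₀ := q₁.comap (algebraMap T S₁)
  have hxd : Disjoint (Submonoid.powers gt : Set T) (x₀ : Set T) :=
    (Ideal.disjoint_powers_iff_notMem_of_isPrime _).2 hx
  let x' := x₀.map (algebraMap T C)
  haveI : x'.IsPrime := IsLocalization.isPrime_of_isPrime_disjoint _ C _ inferInstance hxd
  have hx' : x'.comap (algebraMap T C) = x₀ := IsLocalization.comap_map_of_isPrime_disjoint _ C inferInstance hxd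
  haveI : IsOpenImmersion (Spec.map (CommRingCat.ofHom (algebraMap S' C))) := IsOpenImmersion.of_isLocalization t'
  refine ⟨C, inferInstance, inferInstance, inferInstance, inferInstance, x', inferInstance, inferInstance, ⟨?_⟩, ⟨?_⟩,
    Module.Projective.of_equiv E.symm⟩
  · rw [Ideal.under_def, Ideal.comap_comap, ← IsScalarTower.algebraMap_eq, IsScalarTower.algebraMap_eq S T C,
      ← Ideal.comap_comap, hx', Ideal.comap_comap, ← IsScalarTower.algebraMap_eq]
    exact Ideal.over_def q₁ q
  · refine (IsLocalization.orderEmbedding (Submonoid.powers g) R'').injective ?_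
    show p''.comap (algebraMap R' R'') = _
    rw [hp''p']
    show p' = ((x'.comap (algebraMap S' C)).comap (algebraMap R'' S')).comap (algebraMap R' R'')
    rw [Ideal.comap_comap, ← IsScalarTower.algebraMap_eq R' R'' S', Ideal.comap_comap, IsScalarTower.algebraMap_eq R' T S',
      ← RingHom.comp_assoc, ← IsScalarTower.algebraMap_eq T S' C, ← Ideal.comap_comap, hx', Ideal.comap_comap,
      ← IsScalarTower.algebraMap_eq]
    exact Ideal.over_def q₁ p'

end DevissExLib
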