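import Groth.Prelude
import Groth.Agent.DevissExLib.LocalFreeCover
import Groth.Agent.DevissExLib.LocalOpen
import Mathlib

/-!
# Opens around a fibre over a local ring where a module is finitely presented and flat
-/

set_option autoImplicit false
set_option linter.all false

universe u

open AlgebraicGeometry CategoryTheory
open scoped TensorProduct

namespace DevissExLib

/-- Flatness descends to a basic open covered by an étale algebra with free sections. -/
theorem flat_away_of_free {A SA C : Type u} [CommRing A] [CommRing SA] [CommRing C] [Algebra A SA] [Algebra SA C]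
    [Algebra A C] [IsScalarTower A SA C] [Module.Flat SA C]
    (NA : Type u) [AddCommGroup NA] [Module SA NA] [Module A NA] [IsScalarTower A SA NA]
    [hfree : Module.Free A (RestrictScalars A C (C ⊗[SA] NA))]
    (g : SA) (hgU : (PrimeSpectrum.basicOpen g : Set (PrimeSpectrum SA)) ⊆ Set.range (PrimeSpectrum.comap (algebraMap SA C))) :
    Module.Flat A (LocalizedModule (Submonoid.powers g) NA) := by
  let B := Localization.Away g
  let B' := B ⊗[SA] C
  let Mg := LocalizedModule (Submonoid.powers g) NA
  haveI : Module.FaithfullyFlat B B' := by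
    refine Module.FaithfullyFlat.of_comap_surjective fun c => mem_range_comap_tensor c (hgU ?_)
    exact fun hm => c.isPrime.ne_top (Ideal.eq_top_of_isUnit_mem _ hm (IsLocalization.Away.algebraMap_isUnit g))
  letI algCB' : Algebra C B' := Algebra.TensorProduct.rightAlgebra
  haveI : IsScalarTower SA C B' := IsScalarTower.of_algebraMap_eq fun a =>
    ((Algebra.TensorProduct.includeRight : C →ₐ[SA] B').commutes a).symm
  haveI : Module.Flat C B' := by
    haveI : Algebra.IsPushout SA B C B' := inferInstanceAs (Algebra.IsPushout SA B C (B ⊗[SA] C))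
    exact RingHom.flat_algebraMap_iff.1
      (RingHom.Flat.isStableUnderBaseChange SA B C B' (RingHom.flat_algebraMap_iff.2 inferInstance))
  let eB : B' ⊗[B] Mg ≃ₗ[B'] B' ⊗[C] (C ⊗[SA] NA) :=
    ((IsLocalizedModule.isBaseChange (Submonoid.powers g) B (LocalizedModule.mkLinearMap _ NA)).comp
      (TensorProduct.isBaseChange B Mg B')).equiv.symm.trans
      (TensorProduct.AlgebraTensorModule.cancelBaseChange SA C B' B' NA).symm
  haveI : Module.Free A (C ⊗[SA] NA) := by
    haveI := hfree
    let E : RestrictScalars A C (C ⊗[SA] NA) ≃ₗ[A] C ⊗[SA] NA :=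
      { RestrictScalars.addEquiv A C (C ⊗[SA] NA) with
        map_smul' := fun c z => by
          show RestrictScalars.addEquiv A C _ (c • z) = c • RestrictScalars.addEquiv A C _ z
          rw [RestrictScalars.addEquiv_map_smul, algebraMap_smul] }
    exact Module.Free.of_equiv E
  haveI : IsScalarTower A B B' := inferInstance
  haveI : IsScalarTower A C B' := IsScalarTower.of_algebraMap_eq (R := A) (S := C) (A := B') fun a => by
    rw [IsScalarTower.algebraMap_apply A B B', IsScalarTower.algebraMap_apply A SA B,
      IsScalarTower.algebraMap_apply A SA C, ← IsScalarTower.algebraMap_apply SA C B',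
      ← IsScalarTower.algebraMap_apply SA B B']
  haveI : Module.Flat A (B' ⊗[C] (C ⊗[SA] NA)) := Groth.Agent.S9350.flat_tensor
  haveI : IsScalarTower A B Mg := IsScalarTower.of_algebraMap_smul fun a z => by
    rw [IsScalarTower.algebraMap_apply A SA B, algebraMap_smul, algebraMap_smul]
  haveI : IsScalarTower A B' (B' ⊗[B] Mg) := TensorProduct.isScalarTower_left
  haveI : Module.Flat A (B' ⊗[B] Mg) := Module.Flat.of_linearEquiv (eB.restrictScalars A)
  exact FlatFunShLib.flat_of_baseChange (B := B) B' Mg

/-- Finite presentation and flatness descend to a basic open covered by an étale algebra with free sections. -/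
theorem fp_flat_away_of_free {A SA C : Type u} [CommRing A] [CommRing SA] [CommRing C] [Algebra A SA] [Algebra SA C]
    [Algebra A C] [IsScalarTower A SA C] [Module.Flat SA C]
    (NA : Type u) [AddCommGroup NA] [Module SA NA] [Module A NA] [IsScalarTower A SA NA]
    [hfpM : Module.FinitePresentation C (C ⊗[SA] NA)]
    [hfree : Module.Free A (RestrictScalars A C (C ⊗[SA] NA))]
    (g : SA) (hgU : (PrimeSpectrum.basicOpen g : Set (PrimeSpectrum SA)) ⊆ Set.range (PrimeSpectrum.comap (algebraMap SA C))) :
    Module.FinitePresentation (Localization.Away g) (LocalizedModule (Submonoid.powers g) NA) ∧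
      Module.Flat A (LocalizedModule (Submonoid.powers g) NA) := by
  refine ⟨?_, flat_away_of_free (C := C) NA g hgU⟩
  let B := Localization.Away g
  let B' := B ⊗[SA] C
  let Mg := LocalizedModule (Submonoid.powers g) NA
  haveI : Module.FaithfullyFlat B B' := by
    refine Module.FaithfullyFlat.of_comap_surjective fun c => mem_range_comap_tensor c (hgU ?_)
    exact fun hm => c.isPrime.ne_top (Ideal.eq_top_of_isUnit_mem _ hm (IsLocalization.Away.algebraMap_isUnit g))
  letI algCB' : Algebra C B' := Algebra.TensorProduct.rightAlgebra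
  haveI : IsScalarTower SA C B' := IsScalarTower.of_algebraMap_eq fun a =>
    ((Algebra.TensorProduct.includeRight : C →ₐ[SA] B').commutes a).symm
  haveI : Module.Flat C B' := by
    haveI : Algebra.IsPushout SA B C B' := inferInstanceAs (Algebra.IsPushout SA B C (B ⊗[SA] C))
    exact RingHom.flat_algebraMap_iff.1
      (RingHom.Flat.isStableUnderBaseChange SA B C B' (RingHom.flat_algebraMap_iff.2 inferInstance))
  let eB : B' ⊗[B] Mg ≃ₗ[B'] B' ⊗[C] (C ⊗[SA] NA) :=
    ((IsLocalizedModule.isBaseChange (Submonoid.powers g) B (LocalizedModule.mkLinearMap _ NA)).comp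
      (TensorProduct.isBaseChange B Mg B')).equiv.symm.trans
      (TensorProduct.AlgebraTensorModule.cancelBaseChange SA C B' B' NA).symm
  haveI := hfpM
  haveI : Module.FinitePresentation B' (B' ⊗[B] Mg) :=
    haveI : Module.FinitePresentation B' (B' ⊗[C] (C ⊗[SA] NA)) := inferInstance
    Module.FinitePresentation.of_equiv (R := B') (M := B' ⊗[C] (C ⊗[SA] NA)) (N := B' ⊗[B] Mg) eB.symm
  exact finitePresentation_of_faithfullyFlat B' Mg

theorem exists_local_open_cover {R S : Type u} [CommRing R] [CommRing S] [Algebra R S] [Algebra.FinitePresentation R S]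
    (N : Type u) [AddCommGroup N] [Module S N] [Module R N] [IsScalarTower R S N] [Module.Finite S N]
    (p : Ideal R) [p.IsPrime] (hflat : ∀ (q : Ideal S) [q.IsPrime], q.LiesOver p → FlatCA.FlatAt R q N) :
    ∃ (R' : Type u) (_ : CommRing R') (_ : Algebra R R') (p' : Ideal R') (_ : p'.IsPrime), FlatCA.IsEtaleNhd R R' p p' ∧
      ∀ (SA NA : Type u) [CommRing SA] [Algebra R SA] [Algebra S SA] [Algebra (Localization.AtPrime p') SA]
        [IsScalarTower R S SA] [IsScalarTower R (Localization.AtPrime p') SA]
        [Algebra.IsPushout R S (Localization.AtPrime p') SA]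
        [AddCommGroup NA] [Module SA NA] [Module S NA] [IsScalarTower S SA NA]
        [Module (Localization.AtPrime p') NA] [IsScalarTower (Localization.AtPrime p') SA NA]
        (f : N →ₗ[S] NA), IsBaseChange SA f →
        ∀ (Q : Ideal SA) [Q.IsPrime], Q.LiesOver (IsLocalRing.maximalIdeal (Localization.AtPrime p')) →
        ∃ g : SA, g ∉ Q ∧
          Module.FinitePresentation (Localization.Away g) (LocalizedModule (Submonoid.powers g) NA) ∧
          Module.Flat (Localization.AtPrime p') (LocalizedModule (Submonoid.powers g) NA) := by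
  classical
  obtain ⟨R', _, _, p', _, ⟨hetR, hp'p, hbR⟩, hmain⟩ := exists_local_free_cover N p hflat
  haveI := hetR
  haveI := hp'p
  refine ⟨R', inferInstance, inferInstance, p', inferInstance, ⟨hetR, hp'p, hbR⟩, ?_⟩
  intro SA NA _ _ _ _ _ _ _ _ _ _ _ _ _ f hf Q _ hQ
  let A := Localization.AtPrime p'
  let m := IsLocalRing.maximalIdeal A
  obtain ⟨C, _, _, _, _, _, _, hetC, -, hcov, hfpM, hfree⟩ := hmain SA NA f hf
  haveI := hetC
  haveI hm : m.LiesOver p' := ⟨(IsLocalization.AtPrime.comap_maximalIdeal A p').symm⟩
  haveI : m.LiesOver p := Ideal.LiesOver.trans m p' p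
  haveI := hQ
  let q := Q.comap (algebraMap S SA)
  haveI : q.LiesOver p := ⟨by
    show p = (Q.comap (algebraMap S SA)).comap (algebraMap R S)
    rw [Ideal.comap_comap, ← IsScalarTower.algebraMap_eq, IsScalarTower.algebraMap_eq R A SA, ← Ideal.comap_comap]
    exact (Ideal.over_def m p).trans (congrArg (Ideal.comap _) (Ideal.over_def Q m))⟩
  obtain ⟨x', _, hx'q, hx'm⟩ := hcov q inferInstance
  haveI := hx'm
  let Q₀ := x'.comap (algebraMap SA C)
  haveI : Q₀.LiesOver m := ⟨by
    show m = (x'.comap (algebraMap SA C)).comap (algebraMap A SA)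
    rw [Ideal.comap_comap, ← IsScalarTower.algebraMap_eq]
    exact Ideal.over_def x' m⟩
  have hresA : Function.Surjective (Ideal.ResidueField.mapₐ p m (Algebra.ofId R A) (Ideal.over_def m p)) :=
    surjective_residue_comp p p' m hbR.2
      ((RingHom.surjectiveOnStalks_of_isLocalization p'.primeCompl A).residueFieldMap_bijective _ _ _).2
  haveI : Algebra.IsPushout R A S SA := Algebra.IsPushout.symm inferInstance
  have hQeq : Q₀ = Q := eq_of_comap_eq (C₁ := S) p m hresA Q₀ Q inferInstance hQ (by
    show (x'.comap (algebraMap SA C)).comap (algebraMap S SA) = Q.comap (algebraMap S SA)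
    rw [Ideal.comap_comap, ← IsScalarTower.algebraMap_eq]
    exact hx'q)
  haveI : Etale (Spec.map (CommRingCat.ofHom (algebraMap SA C))) := by
    rw [HasRingHomProperty.Spec_iff (P := @Etale)]
    exact RingHom.etale_algebraMap.2 inferInstance
  obtain ⟨_, ⟨g, rfl⟩, hgQ, hgU⟩ := PrimeSpectrum.isTopologicalBasis_basic_opens.exists_subset_of_mem_open
    (show (⟨Q, inferInstance⟩ : PrimeSpectrum SA) ∈ Set.range (PrimeSpectrum.comap (algebraMap SA C)) from
      ⟨⟨x', inferInstance⟩, PrimeSpectrum.ext hQeq⟩)
    (Spec.map (CommRingCat.ofHom (algebraMap SA C))).isOpenMap.isOpen_range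
  haveI := hfpM
  haveI := hfree
  exact ⟨g, hgQ, fp_flat_away_of_free NA g hgU⟩

end DevissExLib
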