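import Groth.Prelude
import Groth.Agent.DevissExLib.LocalOpen
import Mathlib

/-!
# Reduction of the finite type case to polynomial algebras
-/

set_option autoImplicit false
set_option linter.all false

universe u

open scoped TensorProduct

namespace DevissExLib

/-- A base change along a pushout is a base change along any other pushout over the same base. -/
theorem isBaseChange_restrict {R A P PA S SA : Type u} [CommRing R] [CommRing A] [CommRing P] [CommRing PA]
    [CommRing S] [CommRing SA] [Algebra R A] [Algebra R P] [Algebra A PA] [Algebra P PA] [Algebra R PA]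
    [IsScalarTower R A PA] [IsScalarTower R P PA] [Algebra.IsPushout R A P PA]
    [Algebra R S] [Algebra A SA] [Algebra S SA] [Algebra R SA] [IsScalarTower R A SA] [IsScalarTower R S SA]
    [Algebra.IsPushout R A S SA]
    {N NA : Type u} [AddCommGroup N] [Module S N] [Module P N] [Module R N] [IsScalarTower R S N] [IsScalarTower R P N]
    [AddCommGroup NA] [Module SA NA] [Module S NA] [IsScalarTower S SA NA] [Module A NA] [IsScalarTower A SA NA]
    [Module PA NA] [Module P NA] [IsScalarTower P PA NA] [IsScalarTower A PA NA]
    [LinearMap.CompatibleSMul N NA P S]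
    (f : N →ₗ[S] NA) (hf : IsBaseChange SA f) : IsBaseChange PA (f.restrictScalars P) := by
  let e₁ := Algebra.IsPushout.cancelBaseChange R A S SA N
  let e₂ := Algebra.IsPushout.cancelBaseChange R A P PA N
  have h₁ : ∀ (a : A) (m : N), e₁.symm (a ⊗ₜ[R] m) = algebraMap A SA a ⊗ₜ[S] m := fun a m =>
    Algebra.IsPushout.cancelBaseChangeAux_symm_tmul R A S SA N a m
  have h₂ : ∀ (a : A) (m : N), e₂.symm (a ⊗ₜ[R] m) = algebraMap A PA a ⊗ₜ[P] m := fun a m =>
    Algebra.IsPushout.cancelBaseChangeAux_symm_tmul R A P PA N a m
  let L : PA ⊗[P] N →ₗ[PA] NA := (f.restrictScalars P).liftBaseChange PA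
  have hL : ∀ z, L z = hf.equiv (e₁.symm (e₂ z)) := fun z => by
    obtain ⟨w, rfl⟩ := e₂.symm.surjective z
    rw [LinearEquiv.apply_symm_apply]
    induction w using TensorProduct.induction_on with
    | zero => simp
    | tmul a m =>
      rw [h₁, h₂, IsBaseChange.equiv_tmul, LinearMap.liftBaseChange_tmul, algebraMap_smul, algebraMap_smul,
        LinearMap.restrictScalars_apply]
    | add x y hx hy => simp only [map_add, hx, hy]
  have hb : Function.Bijective L := by
    rw [show (L : PA ⊗[P] N → NA) = hf.equiv ∘ e₁.symm ∘ e₂ from funext hL]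
    exact hf.equiv.bijective.comp (e₁.symm.bijective.comp e₂.bijective)
  exact IsBaseChange.of_equiv (LinearEquiv.ofBijective L hb) fun m => by
    show L ((1 : PA) ⊗ₜ[P] m) = f.restrictScalars P m
    rw [LinearMap.liftBaseChange_tmul, one_smul]

theorem exists_local_open_finiteType {R S : Type u} [CommRing R] [CommRing S] [Algebra R S] [Algebra.FiniteType R S]
    (N : Type u) [AddCommGroup N] [Module S N] [Module R N] [IsScalarTower R S N] [Module.Finite S N]
    (p : Ideal R) [p.IsPrime] (q : Ideal S) [q.IsPrime] [q.LiesOver p] (hflat : FlatCA.FlatAt R q N) :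
    ∃ (R' : Type u) (_ : CommRing R') (_ : Algebra R R') (p' : Ideal R') (_ : p'.IsPrime), FlatCA.IsEtaleNhd R R' p p' ∧
      ∀ (SA NA : Type u) [CommRing SA] [Algebra R SA] [Algebra S SA] [Algebra (Localization.AtPrime p') SA]
        [IsScalarTower R S SA] [IsScalarTower R (Localization.AtPrime p') SA]
        [Algebra.IsPushout R S (Localization.AtPrime p') SA]
        [AddCommGroup NA] [Module SA NA] [Module S NA] [IsScalarTower S SA NA]
        [Module (Localization.AtPrime p') NA] [IsScalarTower (Localization.AtPrime p') SA NA]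
        (f : N →ₗ[S] NA), IsBaseChange SA f →
        ∃ g : SA, (∀ (Q : Ideal SA) [Q.IsPrime], Q.LiesOver q → Q.LiesOver (IsLocalRing.maximalIdeal (Localization.AtPrime p')) → g ∉ Q) ∧
          Module.Flat (Localization.AtPrime p') (LocalizedModule (Submonoid.powers g) NA) := by
  classical
  obtain ⟨n, φ, hφ⟩ := Algebra.FiniteType.iff_quotient_mvPolynomial''.1 (inferInstance : Algebra.FiniteType R S)
  let P := MvPolynomial (Fin n) R
  letI algPS : Algebra P S := φ.toRingHom.toAlgebra
  haveI : IsScalarTower R P S := IsScalarTower.of_algebraMap_eq fun a => (φ.commutes a).symm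
  letI : Module P N := Module.compHom N (algebraMap P S)
  haveI : IsScalarTower P S N := IsScalarTower.of_algebraMap_smul fun _ _ => rfl
  haveI : IsScalarTower R P N := IsScalarTower.of_algebraMap_smul fun a x => by
    show algebraMap P S (algebraMap R P a) • x = a • x
    rw [← IsScalarTower.algebraMap_apply, algebraMap_smul]
  haveI : Module.Finite P S := Module.Finite.of_surjective (Algebra.linearMap P S) hφ
  haveI : Module.Finite P N := Module.Finite.trans S N
  let q₀ := q.comap (algebraMap P S)
  haveI : q₀.LiesOver p := ⟨by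
    show p = (q.comap (algebraMap P S)).comap (algebraMap R P)
    rw [Ideal.comap_comap, ← IsScalarTower.algebraMap_eq]
    exact Ideal.over_def q p⟩
  have hflat₀ : FlatCA.FlatAt R q₀ N := by
    let l := LocalizedModule.mkLinearMap q.primeCompl N
    haveI : IsScalarTower P S (LocalizedModule q.primeCompl N) := inferInstance
    haveI : IsScalarTower R P (LocalizedModule q.primeCompl N) := inferInstance
    have hS : Algebra.algebraMapSubmonoid S q₀.primeCompl = q.primeCompl := by
      ext s
      refine ⟨?_, fun hs => ?_⟩
      · rintro ⟨c, hc, rfl⟩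
        exact hc
      · obtain ⟨c, rfl⟩ := hφ s
        exact ⟨c, hs, rfl⟩
    haveI : IsLocalizedModule (Algebra.algebraMapSubmonoid S q₀.primeCompl) l := by rw [hS]; infer_instance
    haveI : IsLocalizedModule q₀.primeCompl (l.restrictScalars P) :=
      IsLocalizedModule.restrictScalars q₀.primeCompl l
    haveI : Module.Flat R (LocalizedModule q.primeCompl N) := hflat
    exact Module.Flat.of_linearEquiv
      ((IsLocalizedModule.iso q₀.primeCompl (l.restrictScalars P)).restrictScalars R)
  obtain ⟨R', _, _, p', _, hnR, hmain⟩ := exists_local_open (R := R) (S := P) N p q₀ hflat₀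
  refine ⟨R', inferInstance, inferInstance, p', inferInstance, hnR, ?_⟩
  intro SA NA _ _ _ _ _ _ _ _ _ _ _ _ _ f hf
  let A := Localization.AtPrime p'
  let PA := A ⊗[R] P
  letI algPPA : Algebra P PA := Algebra.TensorProduct.rightAlgebra
  haveI : IsScalarTower R P PA := IsScalarTower.of_algebraMap_eq fun a =>
    ((Algebra.TensorProduct.includeRight : P →ₐ[R] PA).commutes a).symm
  haveI hpo : Algebra.IsPushout R A P PA := inferInstanceAs (Algebra.IsPushout R A P (A ⊗[R] P))
  haveI : Algebra.IsPushout R P A PA := hpo.symm
  haveI : Algebra.IsPushout R A S SA := Algebra.IsPushout.symm inferInstance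
  let π : PA →ₐ[A] SA :=
    Algebra.TensorProduct.lift (Algebra.ofId A SA)
      ((IsScalarTower.toAlgHom R S SA).comp (IsScalarTower.toAlgHom R P S)) fun _ _ => Commute.all _ _
  letI algPAS : Algebra PA SA := π.toRingHom.toAlgebra
  haveI : IsScalarTower A PA SA := IsScalarTower.of_algebraMap_eq fun a => (π.commutes a).symm
  letI : Algebra P SA := ((algebraMap S SA).comp (algebraMap P S)).toAlgebra
  haveI : IsScalarTower P S SA := IsScalarTower.of_algebraMap_eq fun _ => rfl
  haveI : IsScalarTower P PA SA := IsScalarTower.of_algebraMap_eq fun c => by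
    show algebraMap S SA (algebraMap P S c) = π ((1 : A) ⊗ₜ[R] c)
    refine ((Algebra.TensorProduct.lift_tmul _ _ _ _ _).trans ?_).symm
    rw [map_one, one_mul]
    rfl
  letI : Module PA NA := Module.compHom NA (algebraMap PA SA)
  haveI : IsScalarTower PA SA NA := IsScalarTower.of_algebraMap_smul fun _ _ => rfl
  letI : Module P NA := Module.compHom NA (algebraMap P S)
  haveI : IsScalarTower P S NA := IsScalarTower.of_algebraMap_smul fun _ _ => rfl
  haveI : IsScalarTower P SA NA := IsScalarTower.of_algebraMap_smul fun c x => by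
    show algebraMap S SA (algebraMap P S c) • x = algebraMap P S c • x
    rw [algebraMap_smul]
  haveI : IsScalarTower P PA NA := IsScalarTower.of_algebraMap_smul fun c (x : NA) => by
    rw [← algebraMap_smul SA (algebraMap P PA c) x, ← IsScalarTower.algebraMap_apply, algebraMap_smul SA c x]
  haveI : IsScalarTower A PA NA := IsScalarTower.of_algebraMap_smul fun c (x : NA) => by
    rw [← algebraMap_smul SA (algebraMap A PA c) x, ← IsScalarTower.algebraMap_apply, algebraMap_smul SA c x]
  let f₀ : N →ₗ[P] NA := f.restrictScalars P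
  have hf₀ : IsBaseChange PA f₀ := isBaseChange_restrict (R := R) (A := A) f hf
  obtain ⟨g₀, hg₀, -, hfl⟩ := hmain PA NA f₀ hf₀
  let g := algebraMap PA SA g₀
  refine ⟨g, fun Q _ hQq hQm hg => ?_, ?_⟩
  · haveI := hQq
    haveI := hQm
    haveI : (Q.comap (algebraMap PA SA)).LiesOver q₀ := ⟨by
      show q.comap (algebraMap P S) = (Q.comap (algebraMap PA SA)).comap (algebraMap P PA)
      rw [Ideal.comap_comap, ← IsScalarTower.algebraMap_eq, IsScalarTower.algebraMap_eq P S SA, ← Ideal.comap_comap]
      exact congrArg (Ideal.comap _) (Ideal.over_def Q q)⟩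
    haveI : (Q.comap (algebraMap PA SA)).LiesOver (IsLocalRing.maximalIdeal A) := ⟨by
      show IsLocalRing.maximalIdeal A = (Q.comap (algebraMap PA SA)).comap (algebraMap A PA)
      rw [Ideal.comap_comap, ← IsScalarTower.algebraMap_eq]
      exact Ideal.over_def Q _⟩
    exact hg₀ (Q.comap (algebraMap PA SA)) inferInstance inferInstance hg
  · let M := LocalizedModule (Submonoid.powers g) NA
    let l := LocalizedModule.mkLinearMap (Submonoid.powers g) NA
    haveI : IsScalarTower PA SA M := inferInstance
    haveI : IsScalarTower A PA M := inferInstance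
    haveI : IsLocalizedModule (Algebra.algebraMapSubmonoid SA (Submonoid.powers g₀)) l := by
      rw [Algebra.algebraMapSubmonoid_powers]; infer_instance
    haveI : IsLocalizedModule (Submonoid.powers g₀) (l.restrictScalars PA) :=
      IsLocalizedModule.restrictScalars (Submonoid.powers g₀) l
    haveI := hfl
    exact Module.Flat.of_linearEquiv
      ((IsLocalizedModule.iso (Submonoid.powers g₀) (l.restrictScalars PA)).restrictScalars A).symm

end DevissExLib
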