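import Groth.Prelude
import Groth.Agent.DevissExLib.LocalOpenCover
import Groth.Agent.DevissExLib.LocalOpenFT
import Mathlib

/-!
# Freeness over the local ring for algebras of finite type
-/

set_option autoImplicit false
set_option linter.all false

universe u

open AlgebraicGeometry CategoryTheory
open scoped TensorProduct

namespace DevissExLib

/-- An étale algebra with free sections over a polynomial algebra restricts to the quotient. -/
theorem lift_etale_free {A PA SA CP : Type u} [CommRing A] [CommRing PA] [CommRing SA] [CommRing CP]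
    [Algebra A PA] [Algebra PA SA] [Algebra A SA] [IsScalarTower A PA SA]
    [Algebra PA CP] [Algebra A CP] [IsScalarTower A PA CP] [Algebra.Etale PA CP]
    (hπ : Function.Surjective (algebraMap PA SA))
    (NA : Type u) [AddCommGroup NA] [Module SA NA] [Module PA NA] [IsScalarTower PA SA NA]
    [hfree : Module.Free A (RestrictScalars A CP (CP ⊗[PA] NA))] :
    Algebra.Etale SA (SA ⊗[PA] CP) ∧
      Module.Free A (RestrictScalars A (SA ⊗[PA] CP) ((SA ⊗[PA] CP) ⊗[SA] NA)) ∧
      ∀ (Q : Ideal SA) [Q.IsPrime] (x : Ideal CP) [x.IsPrime],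
        Q.comap (algebraMap PA SA) = x.comap (algebraMap PA CP) →
        ∃ (x' : Ideal (SA ⊗[PA] CP)) (_ : x'.IsPrime)
          (h : x = x'.comap (Algebra.TensorProduct.includeRight : CP →ₐ[PA] SA ⊗[PA] CP).toRingHom),
          x'.comap (algebraMap SA (SA ⊗[PA] CP)) = Q ∧
          Function.Surjective (Ideal.ResidueField.map x x'
            (Algebra.TensorProduct.includeRight : CP →ₐ[PA] SA ⊗[PA] CP).toRingHom h) := by
  let C := SA ⊗[PA] CP
  letI algCPC : Algebra CP C := Algebra.TensorProduct.rightAlgebra
  haveI : IsScalarTower PA CP C := IsScalarTower.of_algebraMap_eq fun a =>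
    ((Algebra.TensorProduct.includeRight : CP →ₐ[PA] C).commutes a).symm
  haveI hpo : Algebra.IsPushout PA SA CP C := inferInstanceAs (Algebra.IsPushout PA SA CP (SA ⊗[PA] CP))
  haveI : Algebra.IsPushout PA CP SA C := hpo.symm
  refine ⟨inferInstance, ?_, fun Q _ x _ hQx => ?_⟩
  · haveI : IsScalarTower A PA C := IsScalarTower.of_algebraMap_eq (R := A) (S := PA) (A := C) fun a => by
      rw [IsScalarTower.algebraMap_apply A SA C, IsScalarTower.algebraMap_apply A PA SA,
        ← IsScalarTower.algebraMap_apply PA SA C]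
    haveI : IsScalarTower A CP C := IsScalarTower.of_algebraMap_eq (R := A) (S := CP) (A := C) fun a => by
      rw [IsScalarTower.algebraMap_apply A PA C, IsScalarTower.algebraMap_apply A PA CP,
        ← IsScalarTower.algebraMap_apply PA CP C]
    let E₀ : RestrictScalars A CP (CP ⊗[PA] NA) ≃ₗ[A] CP ⊗[PA] NA :=
      { RestrictScalars.addEquiv A CP _ with
        map_smul' := fun c z => by
          show RestrictScalars.addEquiv A CP _ (c • z) = c • RestrictScalars.addEquiv A CP _ z
          rw [RestrictScalars.addEquiv_map_smul, algebraMap_smul] }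
    haveI : Module.Free A (CP ⊗[PA] NA) := Module.Free.of_equiv E₀
    let e := Algebra.IsPushout.cancelBaseChange PA CP SA C NA
    let E : RestrictScalars A C (C ⊗[SA] NA) ≃ₗ[A] CP ⊗[PA] NA :=
      { (RestrictScalars.addEquiv A C _).trans e.toAddEquiv with
        map_smul' := fun c z => by
          show e (RestrictScalars.addEquiv A C _ (c • z)) = c • e (RestrictScalars.addEquiv A C _ z)
          rw [RestrictScalars.addEquiv_map_smul, IsScalarTower.algebraMap_apply A CP C, algebraMap_smul,
            map_smul, algebraMap_smul] }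
    exact Module.Free.of_equiv E.symm
  · obtain ⟨w, h1, h2⟩ := Scheme.exists_preimage_of_isPullback
      (isPullback_SpecMap_of_isPushout _ _ _ _ (CommRingCat.isPushout_tensorProduct PA SA CP))
      (⟨Q, inferInstance⟩ : PrimeSpectrum SA) (⟨x, inferInstance⟩ : PrimeSpectrum CP) (PrimeSpectrum.ext hQx)
    refine ⟨w.asIdeal, w.isPrime, (congrArg PrimeSpectrum.asIdeal h2).symm, congrArg PrimeSpectrum.asIdeal h1,
      surjective_residue_of_range _ fun z => ?_⟩
    induction z using TensorProduct.induction_on with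
    | zero => exact ⟨0, by simp⟩
    | tmul a c =>
      obtain ⟨b, rfl⟩ := hπ a
      refine ⟨algebraMap CP x.ResidueField (b • c), ?_⟩
      rw [Ideal.ResidueField.map_algebraMap]
      congr 1
      show (1 : SA) ⊗ₜ[PA] (b • c) = algebraMap PA SA b ⊗ₜ[PA] c
      rw [← TensorProduct.smul_tmul, Algebra.algebraMap_eq_smul_one]
    | add a b ha hb =>
      obtain ⟨u, hu⟩ := ha
      obtain ⟨v, hv⟩ := hb
      exact ⟨u + v, by rw [map_add, map_add, hu, hv]⟩

/-- Flatness at a point is inherited along a surjection. -/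
theorem flatAt_comap_of_surjective {R P S : Type u} [CommRing R] [CommRing P] [CommRing S] [Algebra R P] [Algebra R S]
    [Algebra P S] [IsScalarTower R P S] (hφ : Function.Surjective (algebraMap P S))
    (N : Type u) [AddCommGroup N] [Module S N] [Module R N] [Module P N] [IsScalarTower R S N] [IsScalarTower P S N]
    [IsScalarTower R P N] (q₀ : Ideal P) [q₀.IsPrime]
    (h : ∀ (q : Ideal S) [q.IsPrime], q.comap (algebraMap P S) = q₀ → FlatCA.FlatAt R q N) :
    FlatCA.FlatAt R q₀ N := by
  by_cases hker : RingHom.ker (algebraMap P S) ≤ q₀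
  · let q := q₀.map (algebraMap P S)
    haveI : q.IsPrime := Ideal.map_isPrime_of_surjective hφ hker
    have hqc : q.comap (algebraMap P S) = q₀ := by
      rw [Ideal.comap_map_of_surjective _ hφ, ← RingHom.ker_eq_comap_bot, sup_eq_left.2 hker]
    have hflat := h q hqc
    let l := LocalizedModule.mkLinearMap q.primeCompl N
    have hS : Algebra.algebraMapSubmonoid S q₀.primeCompl = q.primeCompl := by
      ext s
      refine ⟨?_, fun hs => ?_⟩
      · rintro ⟨c, hc, rfl⟩
        exact fun hm => hc (hqc.le hm)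
      · obtain ⟨c, rfl⟩ := hφ s
        exact ⟨c, fun hm => hs (hqc.ge hm), rfl⟩
    haveI : IsLocalizedModule (Algebra.algebraMapSubmonoid S q₀.primeCompl) l := by rw [hS]; infer_instance
    haveI : IsLocalizedModule q₀.primeCompl (l.restrictScalars P) :=
      IsLocalizedModule.restrictScalars q₀.primeCompl l
    haveI : Module.Flat R (LocalizedModule q.primeCompl N) := hflat
    exact Module.Flat.of_linearEquiv
      ((IsLocalizedModule.iso q₀.primeCompl (l.restrictScalars P)).restrictScalars R)
  · obtain ⟨c, hc, hcq⟩ := SetLike.not_le_iff_exists.1 hker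
    haveI : Subsingleton (LocalizedModule q₀.primeCompl N) := LocalizedModule.subsingleton_iff.2 fun m =>
      ⟨c, hcq, by rw [← algebraMap_smul S c m, RingHom.mem_ker.1 hc, zero_smul]⟩
    haveI : Module.Free R (LocalizedModule q₀.primeCompl N) := Module.Free.of_subsingleton R _
    exact Module.Flat.of_free

theorem exists_local_free_cover_finiteType {R S : Type u} [CommRing R] [CommRing S] [Algebra R S] [Algebra.FiniteType R S]
    (N : Type u) [AddCommGroup N] [Module S N] [Module R N] [IsScalarTower R S N] [Module.Finite S N]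
    (p : Ideal R) [p.IsPrime] (T : Set (PrimeSpectrum S)) (hTp : ∀ w ∈ T, w.asIdeal.comap (algebraMap R S) = p)
    (hT : (∀ (q : Ideal S) [q.IsPrime], q.LiesOver p → FlatCA.FlatAt R q N) ∨
      ∃ (q : Ideal S) (_ : q.IsPrime), T = {(⟨q, inferInstance⟩ : PrimeSpectrum S)} ∧ FlatCA.FlatAt R q N) :
    ∃ (R' : Type u) (_ : CommRing R') (_ : Algebra R R') (p' : Ideal R') (_ : p'.IsPrime), FlatCA.IsEtaleNhd R R' p p' ∧
      ∀ (SA NA : Type u) [CommRing SA] [Algebra R SA] [Algebra S SA] [Algebra (Localization.AtPrime p') SA]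
        [IsScalarTower R S SA] [IsScalarTower R (Localization.AtPrime p') SA]
        [Algebra.IsPushout R S (Localization.AtPrime p') SA]
        [AddCommGroup NA] [Module SA NA] [Module S NA] [IsScalarTower S SA NA]
        (f : N →ₗ[S] NA), IsBaseChange SA f →
        ∃ (C : Type u) (_ : CommRing C) (_ : Algebra SA C) (_ : Algebra (Localization.AtPrime p') C)
          (_ : IsScalarTower (Localization.AtPrime p') SA C) (_ : Algebra S C) (_ : IsScalarTower S SA C),
          Algebra.Etale SA C ∧
          (∀ (q : Ideal S) [q.IsPrime], (⟨q, inferInstance⟩ : PrimeSpectrum S) ∈ T → ∃ (x' : Ideal C) (_ : x'.IsPrime)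
            (hx : x'.LiesOver q), x'.LiesOver (IsLocalRing.maximalIdeal (Localization.AtPrime p')) ∧
            ((∃ q', T = {q'}) → Function.Bijective (Ideal.ResidueField.mapₐ q x' (Algebra.ofId S C) hx.over))) ∧
          Module.Free (Localization.AtPrime p') (RestrictScalars (Localization.AtPrime p') C (C ⊗[SA] NA)) := by
  classical
  obtain ⟨n, φ, hφ⟩ := Algebra.FiniteType.iff_quotient_mvPolynomial''.1 (inferInstance : Algebra.FiniteType R S)
  let P := MvPolynomial (Fin n) R
  letI algPS : Algebra P S := φ.toRingHom.toAlgebra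
  haveI : IsScalarTower R P S := IsScalarTower.of_algebraMap_eq fun a => (φ.commutes a).symm
  letI : Module P N := Module.compHom N (algebraMap P S)
  haveI : IsScalarTower P S N := IsScalarTower.of_algebraMap_smul fun _ _ => rfl
  haveI : IsScalarTower R P N := IsScalarTower.of_algebraMap_smul fun a x => by
    show algebraMap P S (algebraMap R P a) • x = a • x
    rw [← IsScalarTower.algebraMap_apply, algebraMap_smul]
  haveI : Module.Finite P S := Module.Finite.of_surjective (Algebra.linearMap P S) hφ
  haveI : Module.Finite P N := Module.Finite.trans S N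
  have hover : ∀ (q : Ideal S) [q.IsPrime], q.LiesOver p → (q.comap (algebraMap P S)).LiesOver p := fun q _ hq => ⟨by
    show p = (q.comap (algebraMap P S)).comap (algebraMap R P)
    rw [Ideal.comap_comap, ← IsScalarTower.algebraMap_eq]
    exact hq.over⟩
  -- the neighbourhood for the polynomial algebra
  obtain ⟨R', _, _, p', _, hnR, hmain⟩ :
      ∃ (R' : Type u) (_ : CommRing R') (_ : Algebra R R') (p' : Ideal R') (_ : p'.IsPrime), FlatCA.IsEtaleNhd R R' p p' ∧
        ∀ (SA NA : Type u) [CommRing SA] [Algebra R SA] [Algebra P SA] [Algebra (Localization.AtPrime p') SA]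
          [IsScalarTower R P SA] [IsScalarTower R (Localization.AtPrime p') SA]
          [Algebra.IsPushout R P (Localization.AtPrime p') SA]
          [AddCommGroup NA] [Module SA NA] [Module P NA] [IsScalarTower P SA NA]
          (f : N →ₗ[P] NA), IsBaseChange SA f →
          ∃ (C : Type u) (_ : CommRing C) (_ : Algebra SA C) (_ : Algebra (Localization.AtPrime p') C)
            (_ : IsScalarTower (Localization.AtPrime p') SA C) (_ : Algebra P C) (_ : IsScalarTower P SA C),
            Algebra.Etale SA C ∧
            (∀ (q : Ideal S) [q.IsPrime], (⟨q, inferInstance⟩ : PrimeSpectrum S) ∈ T →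
              ∃ (x' : Ideal C) (_ : x'.IsPrime) (hx : x'.LiesOver (q.comap (algebraMap P S))),
                x'.LiesOver (IsLocalRing.maximalIdeal (Localization.AtPrime p')) ∧
                ((∃ q', T = {q'}) → Function.Bijective
                  (Ideal.ResidueField.mapₐ (q.comap (algebraMap P S)) x' (Algebra.ofId P C) hx.over))) ∧
            Module.Free (Localization.AtPrime p') (RestrictScalars (Localization.AtPrime p') C (C ⊗[SA] NA)) := by
    by_cases hsingle : ∃ q', T = {q'}
    · obtain ⟨q', hq'⟩ := hsingle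
      have hq'p : q'.asIdeal.LiesOver p := ⟨(hTp q' (by rw [hq']; exact rfl)).symm⟩
      haveI := hover q'.asIdeal hq'p
      have hflq : FlatCA.FlatAt R q'.asIdeal N := by
        rcases hT with h | ⟨q, _, hqT, h⟩
        · exact h q'.asIdeal hq'p
        · obtain rfl : q' = ⟨q, inferInstance⟩ := Set.singleton_eq_singleton_iff.1 (hq'.symm.trans hqT)
          exact h
      obtain ⟨R', i1, i2, p', i3, h1, h2⟩ := exists_local_free (R := R) (S := P) N p (q'.asIdeal.comap (algebraMap P S))
        (flatAt_comap_of_surjective hφ N _ fun q _ hq => by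
          obtain rfl : q = q'.asIdeal := Ideal.comap_injective_of_surjective _ hφ hq
          exact hflq)
      refine ⟨R', i1, i2, p', i3, h1, ?_⟩
      intro SA NA _ _ _ _ _ _ _ _ _ _ _ f hf
      obtain ⟨C, j1, j2, j3, j4, j5, j6, x', j7, hx, hxm, g1, -, g3, -, g5⟩ := h2 SA NA f hf
      refine ⟨C, j1, j2, j3, j4, j5, j6, g1, fun q _ hq => ?_, g5⟩
      obtain rfl : q = q'.asIdeal := congrArg PrimeSpectrum.asIdeal (show (⟨q, inferInstance⟩ : PrimeSpectrum S) = q' by
        rw [hq'] at hq; exact hq)
      exact ⟨x', j7, hx, hxm, fun _ => g3⟩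
    · rcases hT with h | ⟨q, hqI, hqT, -⟩
      swap
      · exact absurd ⟨_, hqT⟩ hsingle
      obtain ⟨R', i1, i2, p', i3, h1, h2⟩ := exists_local_free_cover (R := R) (S := P) N p fun q₀ _ hq₀ =>
        flatAt_comap_of_surjective hφ N q₀ fun q _ hq => h q ⟨by
          rw [Ideal.over_def q₀ p, ← hq]
          show (q.comap (algebraMap P S)).comap (algebraMap R P) = q.comap (algebraMap R S)
          rw [Ideal.comap_comap, ← IsScalarTower.algebraMap_eq]⟩
      refine ⟨R', i1, i2, p', i3, h1, ?_⟩
      intro SA NA _ _ _ _ _ _ _ _ _ _ _ f hf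
      obtain ⟨C, j1, j2, j3, j4, j5, j6, g1, -, hcov, -, g5⟩ := h2 SA NA f hf
      refine ⟨C, j1, j2, j3, j4, j5, j6, g1, fun q _ hq => ?_, g5⟩
      obtain ⟨x', hx'I, hx', hx'm⟩ := hcov (q.comap (algebraMap P S)) (hover q ⟨(hTp _ hq).symm⟩)
      exact ⟨x', hx'I, ⟨hx'.symm⟩, hx'm, fun h' => absurd h' hsingle⟩
  obtain ⟨hetR, hp'p, hbR⟩ := hnR
  haveI := hetR
  haveI := hp'p
  refine ⟨R', inferInstance, inferInstance, p', inferInstance, ⟨hetR, hp'p, hbR⟩, ?_⟩
  intro SA NA _ _ _ _ _ _ _ _ _ _ _ f hf
  let A := Localization.AtPrime p'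
  let m := IsLocalRing.maximalIdeal A
  letI : Module A NA := Module.compHom NA (algebraMap A SA)
  haveI : IsScalarTower A SA NA := IsScalarTower.of_algebraMap_smul fun _ _ => rfl
  let PA := A ⊗[R] P
  letI algPPA : Algebra P PA := Algebra.TensorProduct.rightAlgebra
  haveI : IsScalarTower R P PA := IsScalarTower.of_algebraMap_eq fun a =>
    ((Algebra.TensorProduct.includeRight : P →ₐ[R] PA).commutes a).symm
  haveI hpo : Algebra.IsPushout R A P PA := inferInstanceAs (Algebra.IsPushout R A P (A ⊗[R] P))
  haveI : Algebra.IsPushout R P A PA := hpo.symm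
  haveI : Algebra.IsPushout R A S SA := Algebra.IsPushout.symm inferInstance
  let π : PA →ₐ[A] SA :=
    Algebra.TensorProduct.lift (Algebra.ofId A SA)
      ((IsScalarTower.toAlgHom R S SA).comp (IsScalarTower.toAlgHom R P S)) fun _ _ => Commute.all _ _
  letI algPAS : Algebra PA SA := π.toRingHom.toAlgebra
  haveI : IsScalarTower A PA SA := IsScalarTower.of_algebraMap_eq fun a => (π.commutes a).symm
  letI : Algebra P SA := ((algebraMap S SA).comp (algebraMap P S)).toAlgebra
  haveI : IsScalarTower P S SA := IsScalarTower.of_algebraMap_eq fun _ => rfl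
  haveI : IsScalarTower P PA SA := IsScalarTower.of_algebraMap_eq fun c => by
    show algebraMap S SA (algebraMap P S c) = π ((1 : A) ⊗ₜ[R] c)
    refine ((Algebra.TensorProduct.lift_tmul _ _ _ _ _).trans ?_).symm
    rw [map_one, one_mul]
    rfl
  have hπ : Function.Surjective (algebraMap PA SA) := by
    intro z
    obtain ⟨w, rfl⟩ := (Algebra.IsPushout.equiv R A S SA).surjective z
    induction w using TensorProduct.induction_on with
    | zero => exact ⟨0, by simp⟩
    | tmul a c =>
      obtain ⟨b, rfl⟩ := hφ c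
      refine ⟨algebraMap A PA a * algebraMap P PA b, ?_⟩
      rw [map_mul, ← IsScalarTower.algebraMap_apply A PA SA, ← IsScalarTower.algebraMap_apply P PA SA,
        IsScalarTower.algebraMap_apply P S SA, Algebra.IsPushout.equiv_tmul]
      rfl
    | add a b ha hb =>
      obtain ⟨u, hu⟩ := ha
      obtain ⟨v, hv⟩ := hb
      exact ⟨u + v, by rw [map_add, map_add, hu, hv]⟩
  letI : Module PA NA := Module.compHom NA (algebraMap PA SA)
  haveI : IsScalarTower PA SA NA := IsScalarTower.of_algebraMap_smul fun _ _ => rfl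
  letI : Module P NA := Module.compHom NA (algebraMap P S)
  haveI : IsScalarTower P S NA := IsScalarTower.of_algebraMap_smul fun _ _ => rfl
  haveI : IsScalarTower P SA NA := IsScalarTower.of_algebraMap_smul fun c x => by
    show algebraMap S SA (algebraMap P S c) • x = algebraMap P S c • x
    rw [algebraMap_smul]
  haveI : IsScalarTower P PA NA := IsScalarTower.of_algebraMap_smul fun c (x : NA) => by
    rw [← algebraMap_smul SA (algebraMap P PA c) x, ← IsScalarTower.algebraMap_apply, algebraMap_smul SA c x]
  haveI : IsScalarTower A PA NA := IsScalarTower.of_algebraMap_smul fun c (x : NA) => by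
    rw [← algebraMap_smul SA (algebraMap A PA c) x, ← IsScalarTower.algebraMap_apply, algebraMap_smul SA c x]
  let f₀ : N →ₗ[P] NA := f.restrictScalars P
  have hf₀ : IsBaseChange PA f₀ := isBaseChange_restrict (R := R) (A := A) f hf
  obtain ⟨CP, _, _, _, _, _, _, hetP, hcov, hfree⟩ := hmain PA NA f₀ hf₀
  haveI := hetP
  haveI := hfree
  obtain ⟨hetC, hfreeC, hlift⟩ := lift_etale_free (A := A) (PA := PA) (SA := SA) (CP := CP) hπ NA
  let C := SA ⊗[PA] CP
  refine ⟨C, inferInstance, inferInstance, inferInstance, inferInstance, inferInstance, inferInstance, hetC,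
    fun q _ hq => ?_, hfreeC⟩
  obtain ⟨x, _, hxq, hxm, hres⟩ := hcov q hq
  haveI := hxq
  haveI := hxm
  haveI hm : m.LiesOver p' := ⟨(IsLocalization.AtPrime.comap_maximalIdeal A p').symm⟩
  haveI : m.LiesOver p := Ideal.LiesOver.trans m p' p
  have hresA : Function.Surjective (Ideal.ResidueField.mapₐ p m (Algebra.ofId R A) (Ideal.over_def m p)) :=
    surjective_residue_comp p p' m hbR.2
      ((RingHom.surjectiveOnStalks_of_isLocalization p'.primeCompl A).residueFieldMap_bijective _ _ _).2
  haveI : q.LiesOver p := ⟨(hTp _ hq).symm⟩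
  -- the prime of `SA`
  obtain ⟨Q, _, hQq, hQm⟩ : ∃ (Q : Ideal SA) (_ : Q.IsPrime), Q.comap (algebraMap S SA) = q ∧ Q.LiesOver m := by
    obtain ⟨Q', hQ'I, hQ'm, hQ'q, -⟩ := exists_prime_tensor p m q hresA
    let ε := Algebra.IsPushout.equiv R A S SA
    refine ⟨Q'.comap ε.symm.toRingEquiv.toRingHom, Ideal.comap_isPrime _ _, ?_, ⟨?_⟩⟩
    · rw [Ideal.comap_comap, show ε.symm.toRingEquiv.toRingHom.comp (algebraMap S SA) =
          (Algebra.TensorProduct.includeRight : S →ₐ[R] A ⊗[R] S).toRingHom from
        RingHom.ext fun a => ε.symm_apply_eq.2 (by simp [ε, Algebra.IsPushout.equiv_tmul])]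
      exact hQ'q.symm
    · show m = (Q'.comap ε.symm.toRingEquiv.toRingHom).comap (algebraMap A SA)
      rw [Ideal.comap_comap, show ε.symm.toRingEquiv.toRingHom.comp (algebraMap A SA) = algebraMap A (A ⊗[R] S) from
        RingHom.ext fun a => ε.symm.commutes a]
      exact hQ'm.over
  haveI := hQm
  haveI : (Q.comap (algebraMap PA SA)).LiesOver m := ⟨by
    show m = (Q.comap (algebraMap PA SA)).comap (algebraMap A PA)
    rw [Ideal.comap_comap, ← IsScalarTower.algebraMap_eq]
    exact Ideal.over_def Q m⟩
  haveI : (x.comap (algebraMap PA CP)).LiesOver m := ⟨by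
    show m = (x.comap (algebraMap PA CP)).comap (algebraMap A PA)
    rw [Ideal.comap_comap, ← IsScalarTower.algebraMap_eq]
    exact Ideal.over_def x m⟩
  haveI : (q.comap (algebraMap P S)).LiesOver p := hover q inferInstance
  have hQx : Q.comap (algebraMap PA SA) = x.comap (algebraMap PA CP) := by
    refine eq_of_comap_eq (C₁ := P) p m hresA _ _ inferInstance inferInstance ?_
    rw [Ideal.comap_comap, ← IsScalarTower.algebraMap_eq, Ideal.comap_comap, ← IsScalarTower.algebraMap_eq,
      IsScalarTower.algebraMap_eq P S SA, ← Ideal.comap_comap, hQq]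
    exact Ideal.over_def x (q.comap (algebraMap P S))
  obtain ⟨x', _, hx'x, hx'Q, hsurj⟩ := hlift Q x hQx
  haveI hx'q : x'.LiesOver q := ⟨by
    show q = x'.comap (algebraMap S C)
    rw [IsScalarTower.algebraMap_eq S SA C, ← Ideal.comap_comap, hx'Q, hQq]⟩
  refine ⟨x', inferInstance, hx'q, ⟨?_⟩, fun hs => bijective_mapₐ_of_surjective hx'q ?_⟩
  · show m = x'.comap (algebraMap A C)
    rw [IsScalarTower.algebraMap_eq A SA C, ← Ideal.comap_comap, hx'Q]
    exact Ideal.over_def Q m
  · intro z
    obtain ⟨w, rfl⟩ := hsurj z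
    obtain ⟨b, rfl⟩ := (hres hs).2 w
    refine ⟨Ideal.ResidueField.map (q.comap (algebraMap P S)) q (algebraMap P S) rfl b, RingHom.congr_fun
      (Ideal.ResidueField.ringHom_ext
        (f := (Ideal.ResidueField.mapₐ q x' (Algebra.ofId S C) hx'q.over).toRingHom.comp
          (Ideal.ResidueField.map (q.comap (algebraMap P S)) q (algebraMap P S) rfl))
        (g := (Ideal.ResidueField.map x x' (Algebra.TensorProduct.includeRight : CP →ₐ[PA] SA ⊗[PA] CP).toRingHom hx'x).comp
          (Ideal.ResidueField.mapₐ (q.comap (algebraMap P S)) x (Algebra.ofId P CP) hxq.over).toRingHom)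
        (RingHom.ext fun r => ?_)) b⟩
    show Ideal.ResidueField.map q x' (algebraMap S C) _ (Ideal.ResidueField.map _ q (algebraMap P S) rfl
        (algebraMap P _ r)) = Ideal.ResidueField.map x x' _ hx'x (Ideal.ResidueField.map _ x (algebraMap P CP) _
        (algebraMap P _ r))
    rw [Ideal.ResidueField.map_algebraMap, Ideal.ResidueField.map_algebraMap, Ideal.ResidueField.map_algebraMap,
      Ideal.ResidueField.map_algebraMap]
    congr 1
    show algebraMap SA C (algebraMap S SA (algebraMap P S r)) =
      (Algebra.TensorProduct.includeRight : CP →ₐ[PA] SA ⊗[PA] CP) (algebraMap P CP r)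
    rw [← IsScalarTower.algebraMap_apply P S SA, IsScalarTower.algebraMap_apply P PA SA,
      IsScalarTower.algebraMap_apply P PA CP, AlgHom.commutes, ← IsScalarTower.algebraMap_apply PA SA C]

/-- Opens around a fibre where the module is flat, for algebras of finite type. -/
theorem exists_local_open_cover_finiteType {R S : Type u} [CommRing R] [CommRing S] [Algebra R S] [Algebra.FiniteType R S]
    (N : Type u) [AddCommGroup N] [Module S N] [Module R N] [IsScalarTower R S N] [Module.Finite S N]
    (p : Ideal R) [p.IsPrime] (hflat : ∀ (q : Ideal S) [q.IsPrime], q.LiesOver p → FlatCA.FlatAt R q N) :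
    ∃ (R' : Type u) (_ : CommRing R') (_ : Algebra R R') (p' : Ideal R') (_ : p'.IsPrime), FlatCA.IsEtaleNhd R R' p p' ∧
      ∀ (SA NA : Type u) [CommRing SA] [Algebra R SA] [Algebra S SA] [Algebra (Localization.AtPrime p') SA]
        [IsScalarTower R S SA] [IsScalarTower R (Localization.AtPrime p') SA]
        [Algebra.IsPushout R S (Localization.AtPrime p') SA]
        [AddCommGroup NA] [Module SA NA] [Module S NA] [IsScalarTower S SA NA]
        [Module (Localization.AtPrime p') NA] [IsScalarTower (Localization.AtPrime p') SA NA]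
        (f : N →ₗ[S] NA), IsBaseChange SA f →
        ∀ (Q : Ideal SA) [Q.IsPrime], Q.LiesOver (IsLocalRing.maximalIdeal (Localization.AtPrime p')) →
        ∃ g : SA, g ∉ Q ∧
          Module.Flat (Localization.AtPrime p') (LocalizedModule (Submonoid.powers g) NA) := by
  classical
  obtain ⟨R', _, _, p', _, ⟨hetR, hp'p, hbR⟩, hmain⟩ := exists_local_free_cover_finiteType N p {w | w.asIdeal.LiesOver p} (fun w hw => hw.over.symm) (Or.inl hflat)
  haveI := hetR
  haveI := hp'p
  refine ⟨R', inferInstance, inferInstance, p', inferInstance, ⟨hetR, hp'p, hbR⟩, ?_⟩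
  intro SA NA _ _ _ _ _ _ _ _ _ _ _ _ _ f hf Q _ hQ
  let A := Localization.AtPrime p'
  let m := IsLocalRing.maximalIdeal A
  obtain ⟨C, _, _, _, _, _, _, hetC, hcov, hfree⟩ := hmain SA NA f hf
  haveI := hetC
  haveI hm : m.LiesOver p' := ⟨(IsLocalization.AtPrime.comap_maximalIdeal A p').symm⟩
  haveI : m.LiesOver p := Ideal.LiesOver.trans m p' p
  haveI := hQ
  let q := Q.comap (algebraMap S SA)
  haveI : q.LiesOver p := ⟨by
    show p = (Q.comap (algebraMap S SA)).comap (algebraMap R S)
    rw [Ideal.comap_comap, ← IsScalarTower.algebraMap_eq, IsScalarTower.algebraMap_eq R A SA, ← Ideal.comap_comap]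
    exact (Ideal.over_def m p).trans (congrArg (Ideal.comap _) (Ideal.over_def Q m))⟩
  obtain ⟨x', _, hx'q', hx'm, -⟩ := hcov q (show q.LiesOver p from inferInstance)
  have hx'q : x'.comap (algebraMap S C) = q := hx'q'.over.symm
  haveI := hx'm
  let Q₀ := x'.comap (algebraMap SA C)
  haveI : Q₀.LiesOver m := ⟨by
    show m = (x'.comap (algebraMap SA C)).comap (algebraMap A SA)
    rw [Ideal.comap_comap, ← IsScalarTower.algebraMap_eq]
    exact Ideal.over_def x' m⟩
  have hresA : Function.Surjective (Ideal.ResidueField.mapₐ p m (Algebra.ofId R A) (Ideal.over_def m p)) :=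
    surjective_residue_comp p p' m hbR.2
      ((RingHom.surjectiveOnStalks_of_isLocalization p'.primeCompl A).residueFieldMap_bijective _ _ _).2
  haveI : Algebra.IsPushout R A S SA := Algebra.IsPushout.symm inferInstance
  have hQeq : Q₀ = Q := eq_of_comap_eq (C₁ := S) p m hresA Q₀ Q inferInstance hQ (by
    show (x'.comap (algebraMap SA C)).comap (algebraMap S SA) = Q.comap (algebraMap S SA)
    rw [Ideal.comap_comap, ← IsScalarTower.algebraMap_eq]
    exact hx'q)
  haveI : Etale (Spec.map (CommRingCat.ofHom (algebraMap SA C))) := by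
    rw [HasRingHomProperty.Spec_iff (P := @Etale)]
    exact RingHom.etale_algebraMap.2 inferInstance
  obtain ⟨_, ⟨g, rfl⟩, hgQ, hgU⟩ := PrimeSpectrum.isTopologicalBasis_basic_opens.exists_subset_of_mem_open
    (show (⟨Q, inferInstance⟩ : PrimeSpectrum SA) ∈ Set.range (PrimeSpectrum.comap (algebraMap SA C)) from
      ⟨⟨x', inferInstance⟩, PrimeSpectrum.ext hQeq⟩)
    (Spec.map (CommRingCat.ofHom (algebraMap SA C))).isOpenMap.isOpen_range
  haveI := hfree
  exact ⟨g, hgQ, flat_away_of_free (C := C) NA g hgU⟩

end DevissExLib
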