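import Groth.Prelude
import Groth.Agent.DevissExLib.LocalFT
import Groth.Agent.DevissExLib.OpenProj
import Groth.Agent.ProjLib.FreeLocal
import Mathlib

/-!
# Opens with free sections over the local ring of an étale neighbourhood
-/

set_option autoImplicit false
set_option linter.all false

universe u

open AlgebraicGeometry CategoryTheory
open scoped TensorProduct

namespace DevissExLib

/-- A free étale chart over a local ring contains a basic open with free sections through any of its closed-fibre
points. -/
theorem exists_free_away {A SA C : Type u} [CommRing A] [IsLocalRing A] [CommRing SA] [CommRing C] [Algebra A SA]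
    [Algebra.FiniteType A SA] [Algebra SA C] [Algebra.Etale SA C]
    [Algebra A C] [IsScalarTower A SA C] [Algebra.FinitePresentation A C]
    (NA : Type u) [AddCommGroup NA] [Module SA NA] [Module.Finite SA NA] [Module A NA] [IsScalarTower A SA NA]
    [hfp : Module.FinitePresentation C (C ⊗[SA] NA)]
    [hfree : Module.Free A (RestrictScalars A C (C ⊗[SA] NA))]
    (x' : Ideal C) [x'.IsPrime] :
    ∃ g : SA, g ∉ x'.comap (algebraMap SA C) ∧ Module.Free A (LocalizedModule (Submonoid.powers g) NA) := by
  classical
  let M := C ⊗[SA] NA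
  haveI := hfp
  haveI : Module.Free A M := by
    haveI := hfree
    let E : RestrictScalars A C M ≃ₗ[A] M :=
      { RestrictScalars.addEquiv A C M with
        map_smul' := fun c z => by
          show RestrictScalars.addEquiv A C M (c • z) = c • RestrictScalars.addEquiv A C M z
          rw [RestrictScalars.addEquiv_map_smul, algebraMap_smul] }
    exact Module.Free.of_equiv E
  haveI : Etale (Spec.map (CommRingCat.ofHom (algebraMap SA C))) := by
    rw [HasRingHomProperty.Spec_iff (P := @Etale)]
    exact RingHom.etale_algebraMap.2 inferInstance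
  let π := PrimeSpectrum.comap (algebraMap SA C)
  have hU : IsOpen (Set.range π) := (Spec.map (CommRingCat.ofHom (algebraMap SA C))).isOpenMap.isOpen_range
  obtain ⟨I, hI⟩ := (PrimeSpectrum.isClosed_iff_zeroLocus_ideal _).1 hU.isClosed_compl
  -- the closed fibre
  let m := IsLocalRing.maximalIdeal A
  let κ := m.ResidueField
  let F := m.Fiber C
  letI algCF : Algebra C F := Algebra.TensorProduct.rightAlgebra
  haveI : Algebra.IsPushout A κ C F := inferInstanceAs (Algebra.IsPushout A κ C (κ ⊗[A] C))
  haveI : IsNoetherianRing F := Algebra.FiniteType.isNoetherianRing κ F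
  let MF := F ⊗[C] M
  let As : Finset (PrimeSpectrum F) :=
    (associatedPrimes.finite F MF).toFinset.attach.image fun P₀ =>
      ⟨P₀.1, (IsAssociatedPrime.isPrime ((associatedPrimes.finite F MF).mem_toFinset.1 P₀.2))⟩
  let bad : Finset (PrimeSpectrum SA) :=
    insert (π ⟨x', inferInstance⟩) (As.image fun P₀ => π (PrimeSpectrum.comap (algebraMap C F) P₀))
  have hbad : ∀ a ∈ bad, a ∈ Set.range π := by
    intro a ha
    rcases Finset.mem_insert.1 ha with rfl | ha
    · exact ⟨_, rfl⟩
    · obtain ⟨P₀, -, rfl⟩ := Finset.mem_image.1 ha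
      exact ⟨_, rfl⟩
  obtain ⟨t, htI, ht⟩ : ∃ t ∈ I, ∀ a ∈ bad, t ∉ a.asIdeal := by
    by_contra hne
    push Not at hne
    obtain ⟨a, ha, hIa⟩ := (Ideal.subset_union_prime (s := bad) (f := PrimeSpectrum.asIdeal) (π ⟨x', inferInstance⟩) (π ⟨x', inferInstance⟩)
      fun a _ _ _ => a.isPrime).1 fun x hx => by
        obtain ⟨a, ha, hxa⟩ := hne x hx
        exact Set.mem_biUnion ha hxa
    exact (show a ∈ (Set.range π)ᶜ from hI ▸ hIa) (hbad a ha)
  let r := algebraMap SA C t
  have hfib : Function.Injective (((LinearMap.lsmul C M r).restrictScalars A).baseChange κ) := by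
    have hreg : ∀ z : MF, algebraMap C F r • z = 0 → z = 0 := by
      intro z hz
      by_contra h0
      have hmem : algebraMap C F r ∈ ⋃ P₀ ∈ associatedPrimes F MF, (P₀ : Set F) := by
        rw [biUnion_associatedPrimes_eq_zero_divisors]
        exact ⟨z, h0, hz⟩
      obtain ⟨P₀, hP₀, hrP⟩ := Set.mem_iUnion₂.1 hmem
      refine ht _ (Finset.mem_insert_of_mem (Finset.mem_image.2
        ⟨⟨P₀, IsAssociatedPrime.isPrime hP₀⟩, Finset.mem_image.2
          ⟨⟨P₀, (associatedPrimes.finite F MF).mem_toFinset.2 hP₀⟩, Finset.mem_attach _ _, rfl⟩, rfl⟩)) hrP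
    exact injective_baseChange_lsmul (F := F) r hreg
  obtain ⟨a, ham, huniv⟩ := exists_univInj_away (R := A) (B := C) (M := M) m r hfib
  have hau : IsUnit a := of_not_not fun h => ham ((IsLocalRing.mem_maximalIdeal a).2 h)
  refine ⟨t, ht _ (Finset.mem_insert_self _ _), ?_⟩
  let B := Localization.Away t
  let B' := Localization.Away r
  letI algBB' : Algebra B B' := (IsLocalization.Away.lift t (g := algebraMap SA B') (by
    rw [IsScalarTower.algebraMap_apply SA C B']
    exact IsLocalization.Away.algebraMap_isUnit r)).toAlgebra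
  haveI : IsScalarTower SA B B' := IsScalarTower.of_algebraMap_eq fun b =>
    (IsLocalization.Away.lift_eq t _ b).symm
  haveI hpoB : Algebra.IsPushout SA B C B' := by
    haveI : IsLocalization (Algebra.algebraMapSubmonoid C (Submonoid.powers t)) B' := by
      rw [Algebra.algebraMapSubmonoid_powers]; infer_instance
    exact Algebra.IsPushout.symm (Algebra.isPushout_of_isLocalization (Submonoid.powers t) B C B')
  haveI hff : Module.FaithfullyFlat B B' := by
    haveI : Module.Flat B B' :=
      Module.Flat.of_linearEquiv (Algebra.IsPushout.equiv SA B C B').symm.toLinearEquiv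
    refine Module.FaithfullyFlat.of_comap_surjective fun c => ?_
    have hc : PrimeSpectrum.comap (algebraMap SA B) c ∈ Set.range π := by
      by_contra h
      have h1 : PrimeSpectrum.comap (algebraMap SA B) c ∈ PrimeSpectrum.zeroLocus (I : Set SA) := hI ▸ h
      exact c.isPrime.ne_top (Ideal.eq_top_of_isUnit_mem _ (h1 htI) (IsLocalization.Away.algebraMap_isUnit t))
    obtain ⟨Q, hQ⟩ := mem_range_comap_tensor c hc
    refine ⟨PrimeSpectrum.comap (Algebra.IsPushout.equiv SA B C B').symm.toRingEquiv.toRingHom Q, ?_⟩
    rw [← PrimeSpectrum.comap_comp_apply]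
    exact (congrArg (fun h => PrimeSpectrum.comap h Q)
      (RingHom.ext fun a => (Algebra.IsPushout.equiv SA B C B').symm.commutes a)).trans hQ
  haveI : IsScalarTower A B B' := IsScalarTower.of_algebraMap_eq (R := A) (S := B) (A := B') fun b => by
    rw [IsScalarTower.algebraMap_apply A SA B, ← IsScalarTower.algebraMap_apply SA B B',
      IsScalarTower.algebraMap_apply A C B', IsScalarTower.algebraMap_apply SA C B', ← IsScalarTower.algebraMap_apply A SA C]
  let L := B' ⊗[SA] NA
  let l : M →ₗ[C] L := TensorProduct.AlgebraTensorModule.rTensor SA NA (IsScalarTower.toAlgHom C C B').toLinearMap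
  haveI : IsLocalizedModule (Submonoid.powers r) l := by
    rw [isLocalizedModule_iff_isBaseChange (Submonoid.powers r) B']
    refine IsBaseChange.of_comp (TensorProduct.isBaseChange SA NA C) ?_
    rw [show l.restrictScalars SA ∘ₗ TensorProduct.mk SA C NA 1 = TensorProduct.mk SA B' NA 1 from
      LinearMap.ext fun z => by
        show (IsScalarTower.toAlgHom C C B') 1 ⊗ₜ[SA] z = (1 : B') ⊗ₜ[SA] z
        rw [map_one]]
    exact TensorProduct.isBaseChange SA NA _
  haveI : IsScalarTower A B' L := TensorProduct.isScalarTower_left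
  haveI : IsScalarTower A C L := TensorProduct.isScalarTower_left
  haveI : Module.Flat A L :=
    haveI : Module.Flat A (B' ⊗[C] M) := Groth.Agent.S9350.flat_tensor
    Module.Flat.of_linearEquiv
      ((TensorProduct.AlgebraTensorModule.cancelBaseChange SA C B' B' NA).restrictScalars A).symm
  haveI : IsLocalization.Away (1 : A) A := IsLocalization.away_of_isUnit_of_bijective A isUnit_one Function.bijective_id
  have hML : CAlg.IsMittagLeffler A L := by
    refine isMittagLeffler_of_localized (Submonoid.powers (1 : A)) r l (ProjLib.isMittagLeffler_of_projective M) ?_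
    intro Q _ i₁ i₂ hsc
    obtain rfl : i₂ = i₁ := Module.ext' _ _ fun c z => by
      have h := hsc.smul_assoc c (1 : A) z
      rw [smul_eq_mul, mul_one] at h
      letI := i₁
      have h1 : ∀ y : Q, i₁.toDistribMulAction.toMulAction.toSemigroupAction.toSMul.smul 1 y = y := fun y => i₁.one_smul y
      have h2 : ∀ y : Q, i₂.toDistribMulAction.toMulAction.toSemigroupAction.toSMul.smul 1 y = y := fun y => i₂.one_smul y
      first
        | exact h.symm.trans rfl
        | (simp only [one_smul] at h; exact h.symm)
        | (simp only [one_smul] at h; exact h)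
        | exact h.trans (congrArg _ (h1 z))
        | exact (h.trans (congrArg _ (h1 z))).symm
        | exact h.trans (congrArg _ (h2 z))
        | exact (h.trans (congrArg _ (h2 z))).symm
    exact huniv Q ((Module.End.isUnit_iff _).1 (hau.map (Algebra.lsmul A A Q)))
  -- the comparison map
  let MB := B ⊗[SA] NA
  haveI : IsScalarTower A B MB := TensorProduct.isScalarTower_left
  haveI : IsScalarTower SA B L := IsScalarTower.of_algebraMap_smul fun a z => by
    rw [← algebraMap_smul B' (algebraMap SA B a) z, ← IsScalarTower.algebraMap_apply SA B B', algebraMap_smul]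
  haveI : IsScalarTower A B L := IsScalarTower.of_algebraMap_smul fun a z => by
    rw [← algebraMap_smul B' (algebraMap A B a) z, ← IsScalarTower.algebraMap_apply A B B', algebraMap_smul]
  let n₀ := TensorProduct.mk SA B NA 1
  have hn₀ : IsBaseChange B n₀ := TensorProduct.isBaseChange SA NA B
  let ι : MB →ₗ[B] L := hn₀.lift (TensorProduct.mk SA B' NA 1)
  have hι : IsBaseChange B' ι := IsBaseChange.of_comp hn₀ (by
    rw [show ι.restrictScalars SA ∘ₗ n₀ = TensorProduct.mk SA B' NA 1 from hn₀.lift_comp _]
    exact TensorProduct.isBaseChange SA NA B')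
  have hinj : ∀ (Q : Type u) [AddCommGroup Q] [Module A Q], Function.Injective ((ι.restrictScalars A).rTensor Q) := by
    intro Q _ _
    let E : B' ⊗[B] (MB ⊗[A] Q) ≃ₗ[B] L ⊗[A] Q :=
      (TensorProduct.AlgebraTensorModule.assoc A B B B' MB Q).symm.trans
        (TensorProduct.AlgebraTensorModule.congr (hι.equiv.restrictScalars B) (LinearEquiv.refl A Q))
    have hE : ∀ z, E ((1 : B') ⊗ₜ[B] z) = (ι.restrictScalars A).rTensor Q z := fun z => by
      induction z using TensorProduct.induction_on with
      | zero => simp
      | tmul m x => simp [E, IsBaseChange.equiv_tmul]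
      | add x y hx hy => simp only [TensorProduct.tmul_add, map_add, hx, hy]
    intro x y hxy
    rw [← hE, ← hE] at hxy
    exact Module.FaithfullyFlat.tensorProduct_mk_injective (A := B) (B := B') (MB ⊗[A] Q)
      (show (TensorProduct.mk B B' (MB ⊗[A] Q) 1) x = (TensorProduct.mk B B' (MB ⊗[A] Q) 1) y from E.injective hxy)
  haveI : Algebra.FiniteType A B := Algebra.FiniteType.trans (R := A) (S := SA) inferInstance inferInstance
  haveI : Module.Projective A MB :=
    projective_of_univInj hML (ι.restrictScalars A) hinj (exists_countable_span A (C := B))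
  haveI : Module.Free A MB := ProjLib.free_of_projective A MB
  exact Module.Free.of_equiv
    (((IsLocalizedModule.isBaseChange (Submonoid.powers t) B (LocalizedModule.mkLinearMap _ NA)).equiv).restrictScalars A)

/-- A free basic open around a point after an étale neighbourhood. -/
theorem exists_local_open_free {R S : Type u} [CommRing R] [CommRing S] [Algebra R S] [Algebra.FinitePresentation R S]
    (N : Type u) [AddCommGroup N] [Module S N] [Module R N] [IsScalarTower R S N] [Module.Finite S N]
    (p : Ideal R) [p.IsPrime] (q : Ideal S) [q.IsPrime] [q.LiesOver p] (hflat : FlatCA.FlatAt R q N) :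
    ∃ (R' : Type u) (_ : CommRing R') (_ : Algebra R R') (p' : Ideal R') (_ : p'.IsPrime), FlatCA.IsEtaleNhd R R' p p' ∧
      ∀ (SA NA : Type u) [CommRing SA] [Algebra R SA] [Algebra S SA] [Algebra (Localization.AtPrime p') SA]
        [IsScalarTower R S SA] [IsScalarTower R (Localization.AtPrime p') SA]
        [Algebra.IsPushout R S (Localization.AtPrime p') SA]
        [AddCommGroup NA] [Module SA NA] [Module S NA] [IsScalarTower S SA NA]
        [Module (Localization.AtPrime p') NA] [IsScalarTower (Localization.AtPrime p') SA NA]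
        (f : N →ₗ[S] NA), IsBaseChange SA f →
        ∃ g : SA, (∀ (Q : Ideal SA) [Q.IsPrime], Q.LiesOver q → Q.LiesOver (IsLocalRing.maximalIdeal (Localization.AtPrime p')) → g ∉ Q) ∧
          Module.Free (Localization.AtPrime p') (LocalizedModule (Submonoid.powers g) NA) := by
  obtain ⟨R', _, _, p', _, ⟨hetR, hp'p, hbR⟩, hmain⟩ := exists_local_free N p q hflat
  haveI := hetR
  haveI := hp'p
  refine ⟨R', inferInstance, inferInstance, p', inferInstance, ⟨hetR, hp'p, hbR⟩, ?_⟩
  intro SA NA _ _ _ _ _ _ _ _ _ _ _ _ _ f hf
  let A := Localization.AtPrime p'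
  let m := IsLocalRing.maximalIdeal A
  obtain ⟨C, _, _, _, _, _, _, x', _, hx'q, hx'm, hetC, hfpC, -, hfpM, hfree⟩ := hmain SA NA f hf
  haveI := hetC
  haveI := hfpC
  haveI := hfpM
  haveI := hfree
  haveI : Algebra.IsPushout R A S SA := Algebra.IsPushout.symm inferInstance
  haveI : Algebra.FiniteType A SA := Algebra.FiniteType.equiv inferInstance (Algebra.IsPushout.equiv R A S SA)
  haveI : Module.Finite SA NA := Module.Finite.equiv hf.equiv
  obtain ⟨g, hg, hfreeg⟩ := exists_free_away (A := A) (SA := SA) (C := C) NA x'
  refine ⟨g, fun Q _ hQq hQm hgQ => hg ?_, hfreeg⟩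
  haveI hm : m.LiesOver p' := ⟨(IsLocalization.AtPrime.comap_maximalIdeal A p').symm⟩
  haveI : m.LiesOver p := Ideal.LiesOver.trans m p' p
  have hresA : Function.Surjective (Ideal.ResidueField.mapₐ p m (Algebra.ofId R A) (Ideal.over_def m p)) :=
    surjective_residue_comp p p' m hbR.2
      ((RingHom.surjectiveOnStalks_of_isLocalization p'.primeCompl A).residueFieldMap_bijective _ _ _).2
  haveI := hx'm
  haveI hQ₀ : (x'.comap (algebraMap SA C)).LiesOver m := ⟨by
    rw [Ideal.under_def, Ideal.comap_comap, ← IsScalarTower.algebraMap_eq]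
    exact Ideal.over_def x' m⟩
  have hQeq : x'.comap (algebraMap SA C) = Q := eq_of_comap_eq (C₁ := S) p m hresA _ Q hQ₀ hQm (by
    rw [Ideal.comap_comap, ← IsScalarTower.algebraMap_eq]
    exact hx'q.over.symm.trans hQq.over)
  rw [hQeq]
  exact hgQ

/-- The same for algebras of finite type. -/
theorem exists_local_open_free_finiteType {R S : Type u} [CommRing R] [CommRing S] [Algebra R S] [Algebra.FiniteType R S]
    (N : Type u) [AddCommGroup N] [Module S N] [Module R N] [IsScalarTower R S N] [Module.Finite S N]
    (p : Ideal R) [p.IsPrime] (q : Ideal S) [q.IsPrime] [q.LiesOver p] (hflat : FlatCA.FlatAt R q N) :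
    ∃ (R' : Type u) (_ : CommRing R') (_ : Algebra R R') (p' : Ideal R') (_ : p'.IsPrime), FlatCA.IsEtaleNhd R R' p p' ∧
      ∀ (SA NA : Type u) [CommRing SA] [Algebra R SA] [Algebra S SA] [Algebra (Localization.AtPrime p') SA]
        [IsScalarTower R S SA] [IsScalarTower R (Localization.AtPrime p') SA]
        [Algebra.IsPushout R S (Localization.AtPrime p') SA]
        [AddCommGroup NA] [Module SA NA] [Module S NA] [IsScalarTower S SA NA]
        [Module (Localization.AtPrime p') NA] [IsScalarTower (Localization.AtPrime p') SA NA]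
        (f : N →ₗ[S] NA), IsBaseChange SA f →
        ∃ g : SA, (∀ (Q : Ideal SA) [Q.IsPrime], Q.LiesOver q → Q.LiesOver (IsLocalRing.maximalIdeal (Localization.AtPrime p')) → g ∉ Q) ∧
          Module.Free (Localization.AtPrime p') (LocalizedModule (Submonoid.powers g) NA) := by
  classical
  obtain ⟨n, φ, hφ⟩ := Algebra.FiniteType.iff_quotient_mvPolynomial''.1 (inferInstance : Algebra.FiniteType R S)
  let P := MvPolynomial (Fin n) R
  letI algPS : Algebra P S := φ.toRingHom.toAlgebra
  haveI : IsScalarTower R P S := IsScalarTower.of_algebraMap_eq fun a => (φ.commutes a).symm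
  letI : Module P N := Module.compHom N (algebraMap P S)
  haveI : IsScalarTower P S N := IsScalarTower.of_algebraMap_smul fun _ _ => rfl
  haveI : IsScalarTower R P N := IsScalarTower.of_algebraMap_smul fun a x => by
    show algebraMap P S (algebraMap R P a) • x = a • x
    rw [← IsScalarTower.algebraMap_apply, algebraMap_smul]
  haveI : Module.Finite P S := Module.Finite.of_surjective (Algebra.linearMap P S) hφ
  haveI : Module.Finite P N := Module.Finite.trans S N
  let q₀ := q.comap (algebraMap P S)
  haveI : q₀.LiesOver p := ⟨by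
    show p = (q.comap (algebraMap P S)).comap (algebraMap R P)
    rw [Ideal.comap_comap, ← IsScalarTower.algebraMap_eq]
    exact Ideal.over_def q p⟩
  have hflat₀ : FlatCA.FlatAt R q₀ N := by
    let l := LocalizedModule.mkLinearMap q.primeCompl N
    haveI : IsScalarTower P S (LocalizedModule q.primeCompl N) := inferInstance
    haveI : IsScalarTower R P (LocalizedModule q.primeCompl N) := inferInstance
    have hS : Algebra.algebraMapSubmonoid S q₀.primeCompl = q.primeCompl := by
      ext s
      refine ⟨?_, fun hs => ?_⟩
      · rintro ⟨c, hc, rfl⟩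
        exact hc
      · obtain ⟨c, rfl⟩ := hφ s
        exact ⟨c, hs, rfl⟩
    haveI : IsLocalizedModule (Algebra.algebraMapSubmonoid S q₀.primeCompl) l := by rw [hS]; infer_instance
    haveI : IsLocalizedModule q₀.primeCompl (l.restrictScalars P) :=
      IsLocalizedModule.restrictScalars q₀.primeCompl l
    haveI : Module.Flat R (LocalizedModule q.primeCompl N) := hflat
    exact Module.Flat.of_linearEquiv
      ((IsLocalizedModule.iso q₀.primeCompl (l.restrictScalars P)).restrictScalars R)
  obtain ⟨R', _, _, p', _, hnR, hmain⟩ := exists_local_open_free (R := R) (S := P) N p q₀ hflat₀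
  refine ⟨R', inferInstance, inferInstance, p', inferInstance, hnR, ?_⟩
  intro SA NA _ _ _ _ _ _ _ _ _ _ _ _ _ f hf
  let A := Localization.AtPrime p'
  let PA := A ⊗[R] P
  letI algPPA : Algebra P PA := Algebra.TensorProduct.rightAlgebra
  haveI : IsScalarTower R P PA := IsScalarTower.of_algebraMap_eq fun a =>
    ((Algebra.TensorProduct.includeRight : P →ₐ[R] PA).commutes a).symm
  haveI hpo : Algebra.IsPushout R A P PA := inferInstanceAs (Algebra.IsPushout R A P (A ⊗[R] P))
  haveI : Algebra.IsPushout R P A PA := hpo.symm
  haveI : Algebra.IsPushout R A S SA := Algebra.IsPushout.symm inferInstance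
  let π : PA →ₐ[A] SA :=
    Algebra.TensorProduct.lift (Algebra.ofId A SA)
      ((IsScalarTower.toAlgHom R S SA).comp (IsScalarTower.toAlgHom R P S)) fun _ _ => Commute.all _ _
  letI algPAS : Algebra PA SA := π.toRingHom.toAlgebra
  haveI : IsScalarTower A PA SA := IsScalarTower.of_algebraMap_eq fun a => (π.commutes a).symm
  letI : Algebra P SA := ((algebraMap S SA).comp (algebraMap P S)).toAlgebra
  haveI : IsScalarTower P S SA := IsScalarTower.of_algebraMap_eq fun _ => rfl
  haveI : IsScalarTower P PA SA := IsScalarTower.of_algebraMap_eq fun c => by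
    show algebraMap S SA (algebraMap P S c) = π ((1 : A) ⊗ₜ[R] c)
    refine ((Algebra.TensorProduct.lift_tmul _ _ _ _ _).trans ?_).symm
    rw [map_one, one_mul]
    rfl
  letI : Module PA NA := Module.compHom NA (algebraMap PA SA)
  haveI : IsScalarTower PA SA NA := IsScalarTower.of_algebraMap_smul fun _ _ => rfl
  letI : Module P NA := Module.compHom NA (algebraMap P S)
  haveI : IsScalarTower P S NA := IsScalarTower.of_algebraMap_smul fun _ _ => rfl
  haveI : IsScalarTower P SA NA := IsScalarTower.of_algebraMap_smul fun c x => by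
    show algebraMap S SA (algebraMap P S c) • x = algebraMap P S c • x
    rw [algebraMap_smul]
  haveI : IsScalarTower P PA NA := IsScalarTower.of_algebraMap_smul fun c (x : NA) => by
    rw [← algebraMap_smul SA (algebraMap P PA c) x, ← IsScalarTower.algebraMap_apply, algebraMap_smul SA c x]
  haveI : IsScalarTower A PA NA := IsScalarTower.of_algebraMap_smul fun c (x : NA) => by
    rw [← algebraMap_smul SA (algebraMap A PA c) x, ← IsScalarTower.algebraMap_apply, algebraMap_smul SA c x]
  let f₀ : N →ₗ[P] NA := f.restrictScalars P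
  have hf₀ : IsBaseChange PA f₀ := isBaseChange_restrict (R := R) (A := A) f hf
  obtain ⟨g₀, hg₀, hfl⟩ := hmain PA NA f₀ hf₀
  let g := algebraMap PA SA g₀
  refine ⟨g, fun Q _ hQq hQm hg => ?_, ?_⟩
  · haveI := hQq
    haveI := hQm
    haveI : (Q.comap (algebraMap PA SA)).LiesOver q₀ := ⟨by
      show q.comap (algebraMap P S) = (Q.comap (algebraMap PA SA)).comap (algebraMap P PA)
      rw [Ideal.comap_comap, ← IsScalarTower.algebraMap_eq, IsScalarTower.algebraMap_eq P S SA, ← Ideal.comap_comap]
      exact congrArg (Ideal.comap _) (Ideal.over_def Q q)⟩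
    haveI : (Q.comap (algebraMap PA SA)).LiesOver (IsLocalRing.maximalIdeal A) := ⟨by
      show IsLocalRing.maximalIdeal A = (Q.comap (algebraMap PA SA)).comap (algebraMap A PA)
      rw [Ideal.comap_comap, ← IsScalarTower.algebraMap_eq]
      exact Ideal.over_def Q _⟩
    exact hg₀ (Q.comap (algebraMap PA SA)) inferInstance inferInstance hg
  · let M := LocalizedModule (Submonoid.powers g) NA
    let l := LocalizedModule.mkLinearMap (Submonoid.powers g) NA
    haveI : IsScalarTower PA SA M := inferInstance
    haveI : IsScalarTower A PA M := inferInstance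
    haveI : IsLocalizedModule (Algebra.algebraMapSubmonoid SA (Submonoid.powers g₀)) l := by
      rw [Algebra.algebraMapSubmonoid_powers]; infer_instance
    haveI : IsLocalizedModule (Submonoid.powers g₀) (l.restrictScalars PA) :=
      IsLocalizedModule.restrictScalars (Submonoid.powers g₀) l
    haveI := hfl
    exact Module.Free.of_equiv
      ((IsLocalizedModule.iso (Submonoid.powers g₀) (l.restrictScalars PA)).restrictScalars A)

end DevissExLib
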