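import Mathlib
import Groth.Prelude.Def_FlatCA
import Groth.Prelude.Def_Flat
import Groth.Agent.FibDimLib.Comps
import Groth.Agent.FibDimLib.TopLocalDim
import Groth.Agent.FibDimLib.QFScheme
import Groth.Agent.DepthLib.FibPDZero
import Groth.Agent.FibAssLib.Basic

/-! Supports of fibre modules along étale neighbourhoods. -/

set_option autoImplicit false
set_option linter.style.haveILetI false

universe u

open scoped TensorProduct

namespace DevissExLib

variable {R S : Type u} [CommRing R] [CommRing S] [Algebra R S]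

theorem mem_support_fiberMod (p : Ideal R) [p.IsPrime] (N : Type u) [AddCommGroup N] [Module S N] [Module.Finite S N]
    (x : PrimeSpectrum (p.Fiber S)) :
    x ∈ Module.support (p.Fiber S) (FlatCA.fiberMod p S N) ↔
      PrimeSpectrum.comap (FibAssLib.incl S p) x ∈ Module.support S N := by
  letI : Algebra S (p.Fiber S) := Algebra.TensorProduct.rightAlgebra
  exact DepthLib.mem_support_baseChange (P₀ := S) (P := p.Fiber S) N x

theorem isEmbedding_comap_incl (p : Ideal R) [p.IsPrime] :
    Topology.IsEmbedding (PrimeSpectrum.comap (FibAssLib.incl S p)) := by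
  have h := (Topology.IsEmbedding.subtypeVal.comp
    (PrimeSpectrum.preimageHomeomorphFiber R S ⟨p, inferInstance⟩).symm.isEmbedding)
  exact h

theorem mem_range_comap_incl (p : Ideal R) [p.IsPrime] (w : PrimeSpectrum S) :
    w ∈ Set.range (PrimeSpectrum.comap (FibAssLib.incl S p)) ↔ w.asIdeal.comap (algebraMap R S) = p := by
  constructor
  · rintro ⟨x, rfl⟩
    exact congrArg PrimeSpectrum.asIdeal ((PrimeSpectrum.preimageHomeomorphFiber R S ⟨p, inferInstance⟩).symm x).2
  · intro h
    let e := PrimeSpectrum.preimageHomeomorphFiber R S ⟨p, inferInstance⟩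
    exact ⟨e ⟨w, PrimeSpectrum.ext h⟩, congrArg Subtype.val (e.symm_apply_apply ⟨w, PrimeSpectrum.ext h⟩)⟩

theorem supportDim_eq_topologicalKrullDim_support {A M : Type u} [CommRing A] [AddCommGroup M] [Module A M]
    [Module.Finite A M] : Module.supportDim A M = topologicalKrullDim (Module.support A M) := by
  rw [Module.supportDim_eq_ringKrullDim_quotient_annihilator, ← PrimeSpectrum.topologicalKrullDim_eq_ringKrullDim]
  have hc := (PrimeSpectrum.isClosedEmbedding_comap_of_surjective _ (Ideal.Quotient.mk (Module.annihilator A M))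
    Ideal.Quotient.mk_surjective).isEmbedding
  have hr : Set.range (PrimeSpectrum.comap (Ideal.Quotient.mk (Module.annihilator A M))) = Module.support A M := by
    rw [range_comap_of_surjective _ _ Ideal.Quotient.mk_surjective, Ideal.mk_ker, Module.support_eq_zeroLocus]
  exact IsHomeomorph.topologicalKrullDim_eq _ (hc.toHomeomorph.trans (Homeomorph.setCongr hr)).isHomeomorph

theorem supportDim_fiberMod_eq [Algebra.FiniteType R S] (p : Ideal R) [p.IsPrime] (N : Type u) [AddCommGroup N]
    [Module S N] [Module.Finite S N] :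
    Module.supportDim (p.Fiber S) (FlatCA.fiberMod p S N) =
      topologicalKrullDim (Module.support (p.Fiber S) (FlatCA.fiberMod p S N)) := by
  letI : Algebra S (p.Fiber S) := Algebra.TensorProduct.rightAlgebra
  haveI : Module.Finite (p.Fiber S) (FlatCA.fiberMod p S N) := Module.Finite.base_change S (p.Fiber S) N
  exact supportDim_eq_topologicalKrullDim_support

variable {R'' S'' : Type u} [CommRing R''] [CommRing S''] [Algebra R R''] [Algebra S S''] [Algebra R'' S''] [Algebra R S'']
  [IsScalarTower R R'' S''] [IsScalarTower R S S''] [Algebra.Etale R R''] [Algebra.Etale S S''] [Algebra.FiniteType R S]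

/-- The support of the fibre module of an étale neighbourhood maps to the support of the fibre module preserving
local dimensions. -/
theorem exists_map_support_etale (p : Ideal R) [p.IsPrime] (p'' : Ideal R'') [p''.IsPrime] [p''.LiesOver p]
    (N : Type u) [AddCommGroup N] [Module S N] [Module.Finite S N]
    (N'' : Type u) [AddCommGroup N''] [Module S'' N''] [Module S N''] [IsScalarTower S S'' N'']
    (gN : N →ₗ[S] N'') (hgN : IsBaseChange S'' gN) :
    ∃ g : Module.support (p''.Fiber S'') (FlatCA.fiberMod p'' S'' N'') →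
        Module.support (p.Fiber S) (FlatCA.fiberMod p S N),
      ∀ x, PrimeSpectrum.comap (FibAssLib.incl S p) (g x).1 =
          PrimeSpectrum.comap (algebraMap S S'') (PrimeSpectrum.comap (FibAssLib.incl S'' p'') x.1) ∧
        FlatMor.localDim _ x = FlatMor.localDim _ (g x) := by
  classical
  haveI : Module.Finite S'' N'' := Module.Finite.equiv hgN.equiv
  letI : Algebra S (p.Fiber S) := Algebra.TensorProduct.rightAlgebra
  letI : Algebra S'' (p''.Fiber S'') := Algebra.TensorProduct.rightAlgebra
  haveI : Module.Finite (p.Fiber S) (FlatCA.fiberMod p S N) := Module.Finite.base_change S (p.Fiber S) N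
  haveI : Module.Finite (p''.Fiber S'') (FlatCA.fiberMod p'' S'' N'') := Module.Finite.base_change S'' (p''.Fiber S'') N''
  let π := PrimeSpectrum.comap (algebraMap S S'')
  let j := PrimeSpectrum.comap (FibAssLib.incl S p)
  let j'' := PrimeSpectrum.comap (FibAssLib.incl S'' p'')
  have hj := isEmbedding_comap_incl (S := S) p
  have hj'' := isEmbedding_comap_incl (S := S'') p''
  have hsupp : ∀ w : PrimeSpectrum S'', w ∈ Module.support S'' N'' ↔ π w ∈ Module.support S N := fun w => by
    rw [← hgN.equiv.support_eq]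
    exact DepthLib.mem_support_baseChange (P₀ := S) (P := S'') N w
  have hover : ∀ x, (π (j'' x)).asIdeal.comap (algebraMap R S) = p := fun x => by
    have h1 := (mem_range_comap_incl p'' (j'' x)).1 ⟨x, rfl⟩
    show ((j'' x).asIdeal.comap (algebraMap S S'')).comap (algebraMap R S) = p
    rw [Ideal.comap_comap, ← IsScalarTower.algebraMap_eq, IsScalarTower.algebraMap_eq R R'' S'', ← Ideal.comap_comap, h1]
    exact (Ideal.over_def p'' p).symm
  choose γ hγ using fun x => (mem_range_comap_incl p (π (j'' x))).2 (hover x)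
  let g : Module.support (p''.Fiber S'') (FlatCA.fiberMod p'' S'' N'') →
      Module.support (p.Fiber S) (FlatCA.fiberMod p S N) := fun x => ⟨γ x.1, by
    rw [mem_support_fiberMod, hγ, ← hsupp, ← mem_support_fiberMod]
    exact x.2⟩
  -- an open set cutting out the fibre over `p''`
  obtain ⟨r, hr, hcut⟩ : ∃ r : R'', r ∉ p'' ∧ ∀ P : Ideal R'', P.IsPrime → P.comap (algebraMap R R'') = p → r ∉ P → P = p'' := by
    let T := (Algebra.QuasiFinite.finite_primesOver (S := R'') p).toFinset.erase p''
    have hT : ∀ P ∈ T, ∃ r ∈ P, r ∉ p'' := fun P hP => by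
      obtain ⟨hne, hP⟩ := Finset.mem_erase.1 hP
      obtain ⟨hPp, hPo⟩ := (Set.Finite.mem_toFinset _).1 hP
      refine SetLike.not_le_iff_exists.1 fun hle => hne ?_
      exact Algebra.QuasiFinite.eq_of_le_of_under_eq (R := R) P p'' hle ((Ideal.over_def P p).symm.trans (Ideal.over_def p'' p))
    choose r hrP hrp using hT
    refine ⟨∏ P ∈ T.attach, r P.1 P.2, fun hm => ?_, fun P hP hPp hrn => ?_⟩
    · obtain ⟨P, -, hP⟩ := (Ideal.IsPrime.prod_mem_iff).1 hm
      exact hrp P.1 P.2 hP
    · by_contra hne
      have hPT : P ∈ T := Finset.mem_erase.2 ⟨hne, (Set.Finite.mem_toFinset _).2 ⟨hP, ⟨hPp.symm⟩⟩⟩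
      exact hrn (P.mem_of_dvd (Finset.dvd_prod_of_mem _ (Finset.mem_attach T ⟨P, hPT⟩)) (hrP P hPT))
  let W := PrimeSpectrum.basicOpen (algebraMap R'' S'' r)
  have hjW : ∀ x, j'' x ∈ W := fun x hm => by
    have h1 := (mem_range_comap_incl p'' (j'' x)).1 ⟨x, rfl⟩
    exact hr (h1.le hm)
  have hback : ∀ (w : PrimeSpectrum S'') (b : Module.support (p.Fiber S) (FlatCA.fiberMod p S N)),
      w ∈ W → π w = j b.1 → ∃ a, g a = b ∧ j'' a.1 = w := fun w b hw hwb => by
    have hwp : w.asIdeal.comap (algebraMap R'' S'') = p'' := by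
      refine hcut _ (Ideal.IsPrime.comap _) ?_ hw
      rw [Ideal.comap_comap, ← IsScalarTower.algebraMap_eq, IsScalarTower.algebraMap_eq R S S'', ← Ideal.comap_comap]
      exact (congrArg (fun v : PrimeSpectrum S => v.asIdeal.comap (algebraMap R S)) hwb).trans
        ((mem_range_comap_incl p _).1 ⟨b.1, rfl⟩)
    obtain ⟨a, ha⟩ := (mem_range_comap_incl p'' w).2 hwp
    have has : a ∈ Module.support (p''.Fiber S'') (FlatCA.fiberMod p'' S'' N'') := by
      rw [mem_support_fiberMod, ha, hsupp, hwb, ← mem_support_fiberMod]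
      exact b.2
    refine ⟨⟨a, has⟩, Subtype.ext (hj.injective ?_), ha⟩
    show j (γ a) = j b.1
    refine (hγ a).trans ?_
    rw [← hwb]
    exact congrArg π ha
  have hπopen : IsOpenMap π := PrimeSpectrum.isOpenMap_comap_of_hasGoingDown_of_finitePresentation
  have hclosed : IsClosed (Module.support (p.Fiber S) (FlatCA.fiberMod p S N)) := by
    rw [Module.support_eq_zeroLocus]; exact PrimeSpectrum.isClosed_zeroLocus _
  have hclosed'' : IsClosed (Module.support (p''.Fiber S'') (FlatCA.fiberMod p'' S'' N'')) := by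
    rw [Module.support_eq_zeroLocus]; exact PrimeSpectrum.isClosed_zeroLocus _
  haveI := hclosed.isClosedEmbedding_subtypeVal.quasiSober
  haveI := hclosed''.isClosedEmbedding_subtypeVal.quasiSober
  have hG : Continuous g := by
    rw [(hj.isInducing.comp Topology.IsInducing.subtypeVal).continuous_iff]
    have : (j ∘ Subtype.val) ∘ g = π ∘ j'' ∘ Subtype.val := funext fun x => hγ x.1
    rw [this]
    exact (PrimeSpectrum.continuous_comap _).comp (hj''.continuous.comp continuous_subtype_val)
  refine ⟨g, fun x => ⟨hγ x.1, FibDimLib.localDim_eq_of_isOpenMap hG (fun U hU => ?_) (fun a b hab => ?_) (fun a b hab he => ?_) x⟩⟩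
  · obtain ⟨V, hV, rfl⟩ := (hj''.isInducing.comp Topology.IsInducing.subtypeVal).isOpen_iff.1 hU
    have : g '' ((j'' ∘ Subtype.val) ⁻¹' V) = (j ∘ Subtype.val) ⁻¹' (π '' (V ∩ W)) := by
      ext b
      constructor
      · rintro ⟨a, ha, rfl⟩
        exact ⟨j'' a.1, ⟨ha, hjW a.1⟩, (hγ a.1).symm⟩
      · rintro ⟨w, ⟨hwV, hwW⟩, hwb⟩
        obtain ⟨a, ha, haw⟩ := hback w b hwW hwb
        exact ⟨a, show j'' a.1 ∈ V from haw ▸ hwV, ha⟩
    rw [this]
    exact (hπopen _ (hV.inter W.isOpen)).preimage (hj.continuous.comp continuous_subtype_val)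
  · have hab' : j b.1 ⤳ π (j'' a.1) := (hγ a.1) ▸ (hab.map (hj.continuous.comp continuous_subtype_val))
    haveI : Algebra.HasGoingDown S S'' := inferInstance
    obtain ⟨w, hw, hwb⟩ := (Algebra.HasGoingDown.iff_generalizingMap_primeSpectrumComap (R := S) (S := S'')).1 inferInstance hab'
    obtain ⟨c, hc, hcw⟩ := hback w b (hw.mem_open W.isOpen (hjW a.1)) hwb
    refine ⟨c, ?_, hc⟩
    show c ⤳ a
    rw [← (hj''.isInducing.comp Topology.IsInducing.subtypeVal).specializes_iff]
    show j'' c.1 ⤳ j'' a.1
    rw [hcw]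
    exact hw
  · apply Subtype.ext
    apply hj''.injective
    have hs : j'' a.1 ⤳ j'' b.1 := hab.map (hj''.continuous.comp continuous_subtype_val)
    have he' : π (j'' a.1) = π (j'' b.1) := by rw [← hγ, ← hγ, show γ a.1 = γ b.1 from congrArg Subtype.val he]
    refine PrimeSpectrum.ext (Algebra.QuasiFinite.eq_of_le_of_under_eq (R := S) (j'' a.1).asIdeal (j'' b.1).asIdeal ?_ (congrArg PrimeSpectrum.asIdeal he'))
    exact (PrimeSpectrum.le_iff_specializes _ _).2 hs

end DevissExLib
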