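import Groth.Prelude
import Groth.Agent.DevissExLib.LocalFT
import Mathlib

/-!
# Flat finitely presented algebras over the local ring of an étale neighbourhood
-/

set_option autoImplicit false
set_option linter.all false

universe u

open scoped TensorProduct

namespace DevissExLib

/-- A finite type algebra flat at a prime becomes flat and finitely presented near it after an étale neighbourhood. -/
theorem exists_local_open_algebra {R S : Type u} [CommRing R] [CommRing S] [Algebra R S] [Algebra.FiniteType R S]
    (p : Ideal R) [p.IsPrime] (q : Ideal S) [q.IsPrime] [q.LiesOver p] (hflat : Module.Flat R (Localization.AtPrime q)) :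
    ∃ (R' : Type u) (_ : CommRing R') (_ : Algebra R R') (p' : Ideal R') (_ : p'.IsPrime), FlatCA.IsEtaleNhd R R' p p' ∧
      ∀ (SA : Type u) [CommRing SA] [Algebra R SA] [Algebra S SA] [Algebra (Localization.AtPrime p') SA]
        [IsScalarTower R S SA] [IsScalarTower R (Localization.AtPrime p') SA]
        [Algebra.IsPushout R S (Localization.AtPrime p') SA],
        ∃ g : SA, (∀ (Q : Ideal SA) [Q.IsPrime], Q.LiesOver q → Q.LiesOver (IsLocalRing.maximalIdeal (Localization.AtPrime p')) → g ∉ Q) ∧
          Module.Flat (Localization.AtPrime p') (Localization.Away g) ∧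
          Algebra.FinitePresentation (Localization.AtPrime p') (Localization.Away g) := by
  classical
  obtain ⟨n, φ, hφ⟩ := Algebra.FiniteType.iff_quotient_mvPolynomial''.1 (inferInstance : Algebra.FiniteType R S)
  let P := MvPolynomial (Fin n) R
  letI algPS : Algebra P S := φ.toRingHom.toAlgebra
  haveI : IsScalarTower R P S := IsScalarTower.of_algebraMap_eq fun a => (φ.commutes a).symm
  haveI : Module.Finite P S := Module.Finite.of_surjective (Algebra.linearMap P S) hφ
  let q₀ := q.comap (algebraMap P S)
  haveI : q₀.LiesOver p := ⟨by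
    show p = (q.comap (algebraMap P S)).comap (algebraMap R P)
    rw [Ideal.comap_comap, ← IsScalarTower.algebraMap_eq]
    exact Ideal.over_def q p⟩
  have hflat₀ : FlatCA.FlatAt R q₀ S := by
    refine flatAt_comap_of_surjective hφ S q₀ fun q' _ hq' => ?_
    obtain rfl : q' = q := Ideal.comap_injective_of_surjective _ hφ hq'
    show Module.Flat R (LocalizedModule q'.primeCompl S)
    haveI := hflat
    exact Module.Flat.of_linearEquiv
      ((IsLocalizedModule.iso q'.primeCompl (Algebra.linearMap S (Localization.AtPrime q'))).restrictScalars R)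
  obtain ⟨R', _, _, p', _, hnR, hmain⟩ := exists_local_open (R := R) (S := P) S p q₀ hflat₀
  refine ⟨R', inferInstance, inferInstance, p', inferInstance, hnR, ?_⟩
  intro SA _ _ _ _ _ _ _
  let A := Localization.AtPrime p'
  let PA := A ⊗[R] P
  letI algPPA : Algebra P PA := Algebra.TensorProduct.rightAlgebra
  haveI : IsScalarTower R P PA := IsScalarTower.of_algebraMap_eq fun a =>
    ((Algebra.TensorProduct.includeRight : P →ₐ[R] PA).commutes a).symm
  haveI hpo : Algebra.IsPushout R A P PA := inferInstanceAs (Algebra.IsPushout R A P (A ⊗[R] P))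
  haveI : Algebra.IsPushout R P A PA := hpo.symm
  haveI : Algebra.IsPushout R A S SA := Algebra.IsPushout.symm inferInstance
  let π : PA →ₐ[A] SA :=
    Algebra.TensorProduct.lift (Algebra.ofId A SA)
      ((IsScalarTower.toAlgHom R S SA).comp (IsScalarTower.toAlgHom R P S)) fun _ _ => Commute.all _ _
  letI algPAS : Algebra PA SA := π.toRingHom.toAlgebra
  haveI : IsScalarTower A PA SA := IsScalarTower.of_algebraMap_eq fun a => (π.commutes a).symm
  letI : Algebra P SA := ((algebraMap S SA).comp (algebraMap P S)).toAlgebra
  haveI : IsScalarTower P S SA := IsScalarTower.of_algebraMap_eq fun _ => rfl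
  haveI : IsScalarTower P PA SA := IsScalarTower.of_algebraMap_eq fun c => by
    show algebraMap S SA (algebraMap P S c) = π ((1 : A) ⊗ₜ[R] c)
    refine ((Algebra.TensorProduct.lift_tmul _ _ _ _ _).trans ?_).symm
    rw [map_one, one_mul]
    rfl
  have hπ : Function.Surjective (algebraMap PA SA) := by
    intro z
    obtain ⟨w, rfl⟩ := (Algebra.IsPushout.equiv R A S SA).surjective z
    induction w using TensorProduct.induction_on with
    | zero => exact ⟨0, by simp⟩
    | tmul a c =>
      obtain ⟨b, rfl⟩ := hφ c
      refine ⟨algebraMap A PA a * algebraMap P PA b, ?_⟩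
      rw [map_mul, ← IsScalarTower.algebraMap_apply A PA SA, ← IsScalarTower.algebraMap_apply P PA SA,
        IsScalarTower.algebraMap_apply P S SA, Algebra.IsPushout.equiv_tmul]
      rfl
    | add a b ha hb =>
      obtain ⟨u, hu⟩ := ha
      obtain ⟨v, hv⟩ := hb
      exact ⟨u + v, by rw [map_add, map_add, hu, hv]⟩
  let f₀ : S →ₗ[P] SA := (Algebra.linearMap S SA).restrictScalars P
  have hf₀ : IsBaseChange PA f₀ :=
    isBaseChange_restrict (R := R) (A := A) (Algebra.linearMap S SA) (IsBaseChange.linearMap S SA)
  obtain ⟨g₀, hg₀, hfp, hfl⟩ := hmain PA SA f₀ hf₀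
  let g := algebraMap PA SA g₀
  refine ⟨g, fun Q _ hQq hQm hg => ?_, ?_⟩
  · haveI := hQq
    haveI := hQm
    haveI : (Q.comap (algebraMap PA SA)).LiesOver q₀ := ⟨by
      show q.comap (algebraMap P S) = (Q.comap (algebraMap PA SA)).comap (algebraMap P PA)
      rw [Ideal.comap_comap, ← IsScalarTower.algebraMap_eq, IsScalarTower.algebraMap_eq P S SA, ← Ideal.comap_comap]
      exact congrArg (Ideal.comap _) (Ideal.over_def Q q)⟩
    haveI : (Q.comap (algebraMap PA SA)).LiesOver (IsLocalRing.maximalIdeal A) := ⟨by
      show IsLocalRing.maximalIdeal A = (Q.comap (algebraMap PA SA)).comap (algebraMap A PA)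
      rw [Ideal.comap_comap, ← IsScalarTower.algebraMap_eq]
      exact Ideal.over_def Q _⟩
    exact hg₀ (Q.comap (algebraMap PA SA)) inferInstance inferInstance hg
  · let B₀ := Localization.Away g₀
    let B := Localization.Away g
    let l := Algebra.linearMap SA B
    haveI : IsScalarTower A PA B := inferInstance
    haveI : IsLocalizedModule (Algebra.algebraMapSubmonoid SA (Submonoid.powers g₀)) l := by
      rw [Algebra.algebraMapSubmonoid_powers]; infer_instance
    haveI : IsLocalizedModule (Submonoid.powers g₀) (l.restrictScalars PA) :=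
      IsLocalizedModule.restrictScalars (Submonoid.powers g₀) l
    let e : LocalizedModule (Submonoid.powers g₀) SA ≃ₗ[PA] B :=
      IsLocalizedModule.iso (Submonoid.powers g₀) (l.restrictScalars PA)
    haveI := hfl
    refine ⟨Module.Flat.of_linearEquiv (e.restrictScalars A).symm, ?_⟩
    have hu : IsUnit (algebraMap PA B g₀) := by
      rw [IsScalarTower.algebraMap_apply PA SA B]
      exact IsLocalization.Away.algebraMap_isUnit g
    let ψ : B₀ →ₐ[PA] B := IsLocalization.liftAlgHom (M := Submonoid.powers g₀) (S := B₀) (f := Algebra.ofId PA B) (by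
      rintro ⟨_, k, rfl⟩
      show IsUnit (algebraMap PA B (g₀ ^ k))
      rw [map_pow]
      exact hu.pow k)
    letI : Algebra B₀ B := ψ.toRingHom.toAlgebra
    haveI : IsScalarTower PA B₀ B := IsScalarTower.of_algebraMap_eq fun a => (ψ.commutes a).symm
    haveI : IsScalarTower A B₀ B := IsScalarTower.of_algebraMap_eq (R := A) (S := B₀) (A := B) fun a => by
      rw [IsScalarTower.algebraMap_apply A PA B₀, ← IsScalarTower.algebraMap_apply PA B₀ B,
        ← IsScalarTower.algebraMap_apply A PA B]
    let e₀ : LocalizedModule (Submonoid.powers g₀) SA ≃ₗ[B₀] B :=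
      LinearEquiv.extendScalarsOfIsLocalization (Submonoid.powers g₀) B₀ e
    haveI := hfp
    haveI : Module.FinitePresentation B₀ B := Module.FinitePresentation.of_equiv e₀
    haveI : Algebra.FinitePresentation PA B₀ := IsLocalization.Away.finitePresentation g₀
    haveI : Algebra.FinitePresentation A B₀ := Algebra.FinitePresentation.trans A PA B₀
    haveI : Algebra.FinitePresentation B₀ B := inferInstance
    exact Algebra.FinitePresentation.trans A B₀ B

end DevissExLib
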