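import Groth.Agent.DevissExLib.Exist

/-! Smooth neighbourhoods with geometrically irreducible fibres inside an open of a base change. -/

set_option autoImplicit false
set_option linter.style.haveILetI false

universe u

open CategoryTheory CategoryTheory.Limits AlgebraicGeometry
open scoped TensorProduct

namespace DevissExLib

theorem exists_open_good_nhd {R D : Type u} [CommRing R] [CommRing D] [Algebra R D] {n : ℕ}
    (hsm : FlatCA.SmoothRelDim n R D) {p : Ideal R} [p.IsPrime] {y : Ideal D} [y.IsPrime] [y.LiesOver p]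
    (hy : FlatCA.PurelyTranscendental p y)
    (R' : Type u) [CommRing R'] [Algebra R R'] (p' : Ideal R') [p'.IsPrime] (hR' : FlatCA.IsEtaleNhd R R' p p')
    (D' : Type u) [CommRing D'] [Algebra D D'] [Algebra R' D'] [Algebra R D'] [IsScalarTower R R' D']
    [IsScalarTower R D D'] (y' : Ideal D') [y'.IsPrime] (hD' : FlatCA.IsEtaleNhd D D' y y') [y'.LiesOver p'] :
    ∃ (R₂ : Type u) (_ : CommRing R₂) (_ : Algebra R' R₂) (P₂ : Ideal R₂) (_ : P₂.IsPrime),
      FlatCA.IsEtaleNhd R' R₂ p' P₂ ∧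
    ∃ (T : Type u) (_ : CommRing T) (_ : Algebra R' T) (_ : Algebra R₂ T) (_ : Algebra D' T)
      (_ : IsScalarTower R' R₂ T) (_ : IsScalarTower R' D' T), Algebra.IsPushout R' R₂ D' T ∧
    ∃ (D₂ : Type u) (_ : CommRing D₂) (_ : Algebra T D₂) (_ : Algebra D' D₂) (_ : Algebra R₂ D₂)
      (_ : IsScalarTower D' T D₂) (_ : IsScalarTower R₂ T D₂) (y₂ : Ideal D₂) (_ : y₂.IsPrime),
      IsOpenImmersion (Spec.map (CommRingCat.ofHom (algebraMap T D₂))) ∧ FlatCA.IsEtaleNhd D' D₂ y' y₂ ∧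
      y₂.LiesOver P₂ ∧ FlatCA.SmoothRelDim n R₂ D₂ ∧ FlatCA.GeomIrredFibres R₂ D₂ := by
  classical
  obtain ⟨hetR, hp'p, hbR⟩ := hR'
  obtain ⟨hetD, hy'y, hbD⟩ := hD'
  haveI := hetR
  haveI := hetD
  haveI := hp'p
  haveI := hy'y
  -- smoothness over the new base
  let M := R' ⊗[R] D'
  let π : M →ₐ[R'] D' := Algebra.TensorProduct.lift (Algebra.ofId R' D') (AlgHom.id R D') (fun _ _ => Commute.all _ _)
  letI algD'M : Algebra D' M := Algebra.TensorProduct.rightAlgebra
  letI algMD' : Algebra M D' := π.toRingHom.toAlgebra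
  haveI : IsScalarTower R' M D' := IsScalarTower.of_algebraMap_eq fun a => (π.commutes a).symm
  haveI : IsScalarTower D' M D' := IsScalarTower.of_algebraMap_eq fun a => by
    show a = π ((1 : R') ⊗ₜ[R] a)
    rw [Algebra.TensorProduct.lift_tmul, map_one, one_mul]
    rfl
  haveI : Algebra.IsPushout R R' D' M := inferInstanceAs (Algebra.IsPushout R R' D' (R' ⊗[R] D'))
  haveI : Algebra.Etale D' M := RingHom.etale_algebraMap.1
    (RingHom.Etale.isStableUnderBaseChange R R' D' M (RingHom.etale_algebraMap.2 inferInstance))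
  haveI : Algebra.FormallyEtale M D' := Algebra.FormallyEtale.of_restrictScalars (R := D')
  haveI : Algebra.FinitePresentation M D' :=
    Algebra.FinitePresentation.of_restrict_scalars_finitePresentation D' M D'
  haveI : Algebra.Etale M D' := ⟨inferInstance, inferInstance⟩
  have hsm' : FlatCA.SmoothRelDim n R' D' :=
    smoothRelDim_comp_etale (S := M) n (smoothRelDim_tensor R' (smoothRelDim_comp_etale (S := D) n hsm))
  haveI : Algebra.Smooth R' D' := smooth_of_smoothRelDim hsm'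
  have hy' : FlatCA.PurelyTranscendental p' y' :=
    purelyTranscendental_of_bijective (S := D) p p' y y' hbR.2 hbD.2 hy
  obtain ⟨R₁, _, _, P, _, hnR₁, y₁, U, V, hyU, hPV, hy₁P, hy₁y, hirr⟩ := exists_geomIrred_open p' y' hy'
  obtain ⟨hetR₁, hPp', hbR₁⟩ := hnR₁
  haveI := hetR₁
  haveI := hPp'
  let D₁ := R₁ ⊗[R'] D'
  letI algD'D₁ : Algebra D' D₁ := Algebra.TensorProduct.rightAlgebra
  haveI : Algebra.IsPushout R' R₁ D' D₁ := inferInstanceAs (Algebra.IsPushout R' R₁ D' (R₁ ⊗[R'] D'))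
  haveI : IsScalarTower R' D' D₁ := IsScalarTower.of_algebraMap_eq fun a =>
    ((Algebra.TensorProduct.includeRight : D' →ₐ[R'] D₁).commutes a).symm
  haveI : Algebra.Etale D' D₁ := RingHom.etale_algebraMap.1
    (RingHom.Etale.isStableUnderBaseChange R' R₁ D' D₁ (RingHom.etale_algebraMap.2 inferInstance))
  haveI := y₁.isPrime
  haveI : y₁.asIdeal.LiesOver P := ⟨hy₁P.symm⟩
  haveI : y₁.asIdeal.LiesOver y' := ⟨hy₁y.symm⟩
  let f₁ := Spec.map (CommRingCat.ofHom (algebraMap R₁ D₁))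
  obtain ⟨_, ⟨w, rfl⟩, hwy, hwU⟩ := PrimeSpectrum.isTopologicalBasis_basic_opens.exists_subset_of_mem_open
    (show y₁ ∈ (U : Set _) ∩ f₁ ⁻¹' V from
      ⟨hyU, by
        show f₁ y₁ ∈ V
        rw [show f₁ y₁ = (⟨P, inferInstance⟩ : PrimeSpectrum R₁) from PrimeSpectrum.ext hy₁P]
        exact hPV⟩)
    (U.isOpen.inter (V.isOpen.preimage f₁.continuous))
  let h' := w
  have hh'y : h' ∉ y₁.asIdeal := hwy
  have hh'U : ∀ x : PrimeSpectrum D₁, h' ∉ x.asIdeal → x ∈ U ∧ f₁ x ∈ V := fun x hx => hwU hx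
  haveI : Algebra.Smooth R₁ D₁ := inferInstanceAs (Algebra.Smooth R₁ (R₁ ⊗[R'] D'))
  haveI : Smooth f₁ := by
    rw [HasRingHomProperty.Spec_iff (P := @Smooth)]
    exact RingHom.smooth_algebraMap.2 inferInstance
  obtain ⟨_, ⟨g₀, rfl⟩, hg₀P, hg₀sub⟩ := PrimeSpectrum.isTopologicalBasis_basic_opens.exists_subset_of_mem_open
    (show (⟨P, inferInstance⟩ : PrimeSpectrum R₁) ∈ f₁ '' (PrimeSpectrum.basicOpen h' : Set (PrimeSpectrum D₁)) from
      ⟨y₁, hh'y, PrimeSpectrum.ext hy₁P⟩)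
    (f₁.isOpenMap _ (PrimeSpectrum.basicOpen h').isOpen)
  let g₂ := g₀
  have hg₂P : g₂ ∉ P := hg₀P
  let R₂ := Localization.Away g₂
  let hg := h' * algebraMap R₁ D₁ g₂
  let D₂ := Localization.Away hg
  letI : Algebra R₂ D₂ := (IsLocalization.Away.lift g₂ (g := algebraMap R₁ D₂) (by
    rw [IsScalarTower.algebraMap_apply R₁ D₁ D₂]
    exact isUnit_of_dvd_unit (map_dvd _ (dvd_mul_left _ h')) (IsLocalization.Away.algebraMap_isUnit hg))).toAlgebra
  haveI : IsScalarTower R₁ R₂ D₂ := IsScalarTower.of_algebraMap_eq fun a =>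
    (IsLocalization.Away.lift_eq g₂ _ a).symm
  haveI : Algebra.Etale R₁ R₂ := Algebra.Etale.of_isLocalizationAway g₂
  haveI : Algebra.Etale D₁ D₂ := Algebra.Etale.of_isLocalizationAway hg
  have hPd : Disjoint (Submonoid.powers g₂ : Set R₁) (P : Set R₁) :=
    (Ideal.disjoint_powers_iff_notMem_of_isPrime _).2 hg₂P
  let P₂ := P.map (algebraMap R₁ R₂)
  haveI : P₂.IsPrime := IsLocalization.isPrime_of_isPrime_disjoint _ R₂ P ‹_› hPd
  have hP₂P : P₂.comap (algebraMap R₁ R₂) = P := IsLocalization.comap_map_of_isPrime_disjoint _ R₂ ‹_› hPd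
  haveI : P₂.LiesOver P := ⟨hP₂P.symm⟩
  have hhgy : hg ∉ y₁.asIdeal := fun hm => (y₁.isPrime.mem_or_mem hm).elim hh'y fun h1 =>
    hg₂P (hy₁P.le h1)
  have hyd : Disjoint (Submonoid.powers hg : Set D₁) (y₁.asIdeal : Set D₁) :=
    (Ideal.disjoint_powers_iff_notMem_of_isPrime _).2 hhgy
  let y₂ := y₁.asIdeal.map (algebraMap D₁ D₂)
  haveI : y₂.IsPrime := IsLocalization.isPrime_of_isPrime_disjoint _ D₂ _ y₁.isPrime hyd
  have hy₂y₁ : y₂.comap (algebraMap D₁ D₂) = y₁.asIdeal :=
    IsLocalization.comap_map_of_isPrime_disjoint _ D₂ y₁.isPrime hyd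
  haveI : y₂.LiesOver y₁.asIdeal := ⟨hy₂y₁.symm⟩
  haveI hy₂P₂ : y₂.LiesOver P₂ := ⟨(IsLocalization.orderEmbedding (Submonoid.powers g₂) R₂).injective (by
    show P₂.comap (algebraMap R₁ R₂) = (y₂.comap (algebraMap R₂ D₂)).comap (algebraMap R₁ R₂)
    rw [Ideal.comap_comap, ← IsScalarTower.algebraMap_eq, IsScalarTower.algebraMap_eq R₁ D₁ D₂,
      ← Ideal.comap_comap, hy₂y₁, hP₂P, hy₁P])⟩
  have hgi : FlatCA.GeomIrredFibres R₂ D₂ := by
    refine geomIrred_of_open U V hirr g₂ h' (fun t ht => ?_) (fun x hx => (hh'U x hx).1) (fun t ht => ?_) R₂ D₂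
    all_goals
      obtain ⟨x, hx, hxt⟩ := hg₀sub (show t ∈ PrimeSpectrum.basicOpen g₀ from fun hm => ht
        hm)
    · rw [← hxt]; exact (hh'U x hx).2
    · exact ⟨x, congrArg PrimeSpectrum.asIdeal hxt, hx⟩
  have hsm₂ : FlatCA.SmoothRelDim n R₂ D₂ :=
    smoothRelDim_localization (smoothRelDim_tensor R₁ hsm') g₂ R₂ D₂
  -- the base change and the open
  let T := Localization.Away (algebraMap R₁ D₁ g₂)
  letI algR₂T : Algebra R₂ T := (IsLocalization.Away.lift g₂ (g := (algebraMap D₁ T).comp (algebraMap R₁ D₁))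
    (IsLocalization.Away.algebraMap_isUnit (algebraMap R₁ D₁ g₂))).toAlgebra
  haveI : IsScalarTower R₁ R₂ T := IsScalarTower.of_algebraMap_eq fun a => by
    rw [IsScalarTower.algebraMap_apply R₁ D₁ T]
    exact (IsLocalization.Away.lift_eq (S := R₂) g₂ (g := (algebraMap D₁ T).comp (algebraMap R₁ D₁))
      (IsLocalization.Away.algebraMap_isUnit (algebraMap R₁ D₁ g₂)) a).symm
  haveI hpT : Algebra.IsPushout R₁ R₂ D₁ T := by
    haveI : IsLocalization (Algebra.algebraMapSubmonoid D₁ (Submonoid.powers g₂)) T := by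
      rw [Algebra.algebraMapSubmonoid, Submonoid.map_powers]
      exact inferInstanceAs (IsLocalization.Away (algebraMap R₁ D₁ g₂) (Localization.Away (algebraMap R₁ D₁ g₂)))
    exact (Algebra.isPushout_of_isLocalization (Submonoid.powers g₂) R₂ D₁ T).symm
  haveI : IsScalarTower R' R₁ R₂ := inferInstance
  haveI : IsScalarTower R' R₁ T := inferInstance
  haveI : IsScalarTower R' D' T := inferInstance
  haveI : IsScalarTower R' R₂ T := IsScalarTower.of_algebraMap_eq fun a => by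
    rw [IsScalarTower.algebraMap_apply R' R₁ R₂, ← IsScalarTower.algebraMap_apply R₁ R₂ T,
      ← IsScalarTower.algebraMap_apply R' R₁ T]
  haveI hpT' : Algebra.IsPushout R' R₂ D' T :=
    (Algebra.IsPushout.comp_iff R' R₁ D' D₁).2 hpT
  letI algTD₂ : Algebra T D₂ := (IsLocalization.Away.lift (algebraMap R₁ D₁ g₂) (g := algebraMap D₁ D₂)
    (isUnit_of_dvd_unit (map_dvd _ (dvd_mul_left _ h')) (IsLocalization.Away.algebraMap_isUnit hg))).toAlgebra
  haveI : IsScalarTower D₁ T D₂ := IsScalarTower.of_algebraMap_eq fun a =>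
    (IsLocalization.Away.lift_eq (algebraMap R₁ D₁ g₂) _ a).symm
  haveI : IsScalarTower R₂ T D₂ := IsScalarTower.of_algebraMap_eq' (IsLocalization.ringHom_ext (Submonoid.powers g₂)
    (RingHom.ext fun a => by
      rw [RingHom.comp_apply, RingHom.comp_apply, RingHom.comp_apply, ← IsScalarTower.algebraMap_apply R₁ R₂ D₂,
        ← IsScalarTower.algebraMap_apply R₁ R₂ T, IsScalarTower.algebraMap_apply R₁ D₁ T,
        ← IsScalarTower.algebraMap_apply D₁ T D₂, ← IsScalarTower.algebraMap_apply R₁ D₁ D₂]))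
  haveI : IsScalarTower D' T D₂ := IsScalarTower.of_algebraMap_eq fun a => by
    rw [IsScalarTower.algebraMap_apply D' D₁ T, ← IsScalarTower.algebraMap_apply D₁ T D₂,
      ← IsScalarTower.algebraMap_apply D' D₁ D₂]
  have hopen : IsOpenImmersion (Spec.map (CommRingCat.ofHom (algebraMap T D₂))) := by
    haveI h1 : IsOpenImmersion (Spec.map (CommRingCat.ofHom (algebraMap D₁ T))) :=
      IsOpenImmersion.of_isLocalization (algebraMap R₁ D₁ g₂)
    haveI : IsOpenImmersion (Spec.map (CommRingCat.ofHom (algebraMap T D₂)) ≫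
        Spec.map (CommRingCat.ofHom (algebraMap D₁ T))) := by
      rw [← Spec.map_comp, ← CommRingCat.ofHom_comp, ← IsScalarTower.algebraMap_eq]
      exact IsOpenImmersion.of_isLocalization hg
    exact IsOpenImmersion.of_comp _ (Spec.map (CommRingCat.ofHom (algebraMap D₁ T)))
  refine ⟨R₂, inferInstance, inferInstance, P₂, inferInstance, ?_, T, inferInstance, inferInstance, inferInstance,
    inferInstance, inferInstance, inferInstance, hpT', D₂, inferInstance, inferInstance, inferInstance, inferInstance,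
    inferInstance, inferInstance, y₂, inferInstance, hopen, ?_, hy₂P₂, hsm₂, hgi⟩
  · exact isEtaleNhd_trans ⟨hetR₁, hPp', hbR₁⟩
      ⟨inferInstance, inferInstance,
        (RingHom.surjectiveOnStalks_of_isLocalization (Submonoid.powers g₂) R₂).residueFieldMap_bijective _ _ _⟩
  · refine isEtaleNhd_trans (R'' := D₂) (p'' := y₂) (R' := D₁) (p' := y₁.asIdeal) ?_
      ⟨inferInstance, inferInstance,
        (RingHom.surjectiveOnStalks_of_isLocalization (Submonoid.powers hg) D₂).residueFieldMap_bijective _ _ _⟩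
    refine ⟨inferInstance, inferInstance, RingHom.injective _, surjective_residue_of_range _ fun a => ?_⟩
    exact mem_range_residue_tensor p' P y' hbR₁.2 y₁.asIdeal hy₁P hy₁y.symm a

end DevissExLib
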