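import Mathlib

/-!
# Transport of projectivity along ring isomorphisms
-/

set_option autoImplicit false
set_option linter.all false

universe u

namespace DevissExLib

theorem projective_of_commSq {A B A' B' : Type u} [CommRing A] [CommRing B] [CommRing A'] [CommRing B']
    (φ : A →+* B) (φ' : A' →+* B') (σ : A ≃+* A') (τ : B ≃+* B') (h : ∀ a, τ (φ a) = φ' (σ a))
    (hP : @Module.Projective A _ B _ φ.toAlgebra.toModule) :
    @Module.Projective A' _ B' _ φ'.toAlgebra.toModule := by
  letI := φ.toAlgebra
  letI := φ'.toAlgebra
  haveI := RingHomInvPair.of_ringEquiv σ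
  haveI := RingHomInvPair.of_ringEquiv σ.symm
  let e : B ≃ₛₗ[(σ : A →+* A')] B' :=
    { τ.toAddEquiv with
      map_smul' := fun a b => by
        show τ (a • b) = σ a • τ b
        rw [Algebra.smul_def, Algebra.smul_def, map_mul]
        exact congrArg (· * τ b) (h a) }
  exact Module.Projective.of_equiv e

end DevissExLib
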