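import Groth.Prelude
import Groth.Agent.DevissExLib.Elem
import Groth.Agent.DevissExLib.Support
import Groth.Agent.FibDimLib.SchemeInv
import Mathlib

/-!
# Elementary dévissage of a morphism of schemes
-/

set_option autoImplicit false
set_option linter.all false

universe u

open CategoryTheory CategoryTheory.Limits AlgebraicGeometry
open scoped TensorProduct

namespace DevissExLib

theorem eq_fiberIdeal {R S : Type u} [CommRing R] [CommRing S] [Algebra R S] (p : Ideal R) [p.IsPrime]
    (q : Ideal S) (x : PrimeSpectrum (p.Fiber S))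
    (h : x.asIdeal.comap (Algebra.TensorProduct.includeRight : S →ₐ[R] p.Fiber S).toRingHom = q) :
    x.asIdeal = FlatCA.fiberIdeal p q := by
  refine le_antisymm (fun f hf => ?_) (Ideal.map_le_iff_le_comap.2 h.ge)
  obtain ⟨t, ht, s, hs⟩ := FibAssLib.exists_incl_eq p f
  have hs' : s ∈ q := by
    rw [← h]
    show FibAssLib.incl S p s ∈ x.asIdeal
    rw [← hs]
    exact x.asIdeal.mul_mem_left _ hf
  refine (Ideal.unit_mul_mem_iff_mem _ (FibAssLib.isUnit_incl p ht)).1 ?_
  rw [hs]
  exact Ideal.mem_map_of_mem _ hs'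

theorem bijective_residueFieldMap_specMap {A B : Type u} [CommRing A] [CommRing B] [Algebra A B]
    (p : Ideal A) [p.IsPrime] (x : Spec (CommRingCat.of B)) (hp : x.asIdeal.comap (algebraMap A B) = p)
    (hs : Function.Surjective (Ideal.ResidueField.map p x.asIdeal (algebraMap A B) hp.symm)) :
    Function.Bijective ((Spec.map (CommRingCat.ofHom (algebraMap A B))).residueFieldMap x).hom := by
  subst hp
  let f := Spec.map (CommRingCat.ofHom (algebraMap A B))
  have key : CommRingCat.ofHom (algebraMap A (f x).asIdeal.ResidueField) ≫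
      (Scheme.Spec.residueFieldIso (CommRingCat.of A) (f x)).inv ≫ f.residueFieldMap x =
      CommRingCat.ofHom (algebraMap A B) ≫
        CommRingCat.ofHom (algebraMap B x.asIdeal.ResidueField) ≫
        (Scheme.Spec.residueFieldIso (CommRingCat.of B) x).inv := by
    apply Spec.map_injective
    simp only [Spec.map_comp, Category.assoc]
    have e1 := Scheme.Spec.map_residueFieldIso_inv_eq_fromSpecResidueField (CommRingCat.of A) (f x)
    have e2 := Scheme.Spec.map_residueFieldIso_inv_eq_fromSpecResidueField (CommRingCat.of B) x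
    have e3 := Scheme.Hom.SpecMap_residueFieldMap_fromSpecResidueField f x
    exact (congr_arg (Spec.map (f.residueFieldMap x) ≫ ·) e1).trans
      (e3.trans ((congr_arg (· ≫ f) e2.symm).trans (Category.assoc _ _ _)))
  let φ := Ideal.ResidueField.map (x.asIdeal.comap (algebraMap A B)) x.asIdeal (algebraMap A B) rfl
  let i₁ := (Scheme.Spec.residueFieldIso (CommRingCat.of A) (f x)).inv
  let i₂ := (Scheme.Spec.residueFieldIso (CommRingCat.of B) x).inv
  have hcomm : (f.residueFieldMap x).hom.comp i₁.hom = i₂.hom.comp φ :=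
    Ideal.ResidueField.ringHom_ext (RingHom.ext fun a => by
      exact (RingHom.congr_fun (congr_arg CommRingCat.Hom.hom key) a).trans
        (congrArg i₂.hom (Ideal.ResidueField.map_algebraMap _ _ _ _ a).symm))
  refine ⟨RingHom.injective _, fun w => ?_⟩
  obtain ⟨v, rfl⟩ := (ConcreteCategory.bijective_of_isIso i₂).2 w
  obtain ⟨v, rfl⟩ := hs v
  exact ⟨i₁.hom v, RingHom.congr_fun hcomm v⟩

theorem bijective_residueFieldMap_openImmersion {X Y : Scheme.{u}} (ι : X ⟶ Y) [IsOpenImmersion ι] (x : X) :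
    Function.Bijective (ι.residueFieldMap x).hom :=
  ConcreteCategory.bijective_of_isIso (ι.residueFieldMap x)

theorem bijective_residueFieldMap_comp {X Y Z : Scheme.{u}} (g : X ⟶ Y) (ι : Y ⟶ Z) [IsOpenImmersion ι] (x : X)
    (h : Function.Bijective (g.residueFieldMap x).hom) : Function.Bijective ((g ≫ ι).residueFieldMap x) := by
  rw [Scheme.residueFieldMap_comp]
  exact h.comp (bijective_residueFieldMap_openImmersion ι (g x))

theorem exists_devissage_scheme {X S : Scheme.{u}} (f : X ⟶ S) [LocallyOfFiniteType f] (x : X) (n : ℕ)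
    (hn : FlatMor.fibreDimAt f x = n) :
    ∃ (S' Y' X' : Scheme.{u}) (e : S' ⟶ S) (h : Y' ⟶ S') (π : X' ⟶ Y') (g : X' ⟶ X) (s' : S') (x' : X'),
      IsAffine S' ∧ IsAffine Y' ∧ IsAffine X' ∧ Hens2.IsEtaleNbhd e s' (f x) ∧ Hens2.IsEtaleNbhd g x' x ∧
      g ≫ f = π ≫ h ≫ e ∧ SmoothOfRelativeDimension n h ∧ GeometricallyIntegral h ∧ IsFinite π ∧ h (π x') = s' ∧
      ∀ z : X', π z = π x' → z = x' := by
  obtain ⟨V, hV, hfxV, -⟩ := exists_isAffineOpen_mem_and_subset (x := f x) (U := ⊤) trivial
  obtain ⟨U, hU, hxU, hUV⟩ := exists_isAffineOpen_mem_and_subset (x := x) (U := f ⁻¹ᵁ V) hfxV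
  let R : Type u := Γ(S, V)
  let A : Type u := Γ(X, U)
  let ρ := f.appLE V U hUV
  letI : Algebra R A := ρ.hom.toAlgebra
  haveI : Algebra.FiniteType R A := f.finiteType_appLE hV hU hUV
  obtain ⟨Q, hQ, hdim⟩ := FibDimLib.fibreDimAt_eq_affine f x hV hU hUV hxU
  let qp : PrimeSpectrum A := hU.primeIdealOf ⟨x, hxU⟩
  let pp : PrimeSpectrum R := hV.primeIdealOf ⟨f x, hUV hxU⟩
  have hqp : PrimeSpectrum.comap (algebraMap R A) qp = pp :=
    IsAffineOpen.comap_primeIdealOf_appLE V hV U hU hUV hxU
  haveI : qp.asIdeal.LiesOver pp.asIdeal := ⟨(congrArg PrimeSpectrum.asIdeal hqp).symm⟩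
  let F := pp.asIdeal.Fiber A
  have huniv : ∀ w : PrimeSpectrum F, w ∈ Module.support F (FlatCA.fiberMod pp.asIdeal A A) := fun w => by
    rw [mem_support_fiberMod_iff, Module.support_eq_zeroLocus, PrimeSpectrum.mem_zeroLocus,
      SetLike.coe_subset_coe]
    intro a ha
    rw [Module.mem_annihilator] at ha
    rw [show a = 0 from by simpa using ha 1]
    exact zero_mem _
  have hloc : FlatMor.localDim (Module.support F (FlatCA.fiberMod pp.asIdeal A A)) ⟨Q, huniv Q⟩ = n := by
    let hh : Module.support F (FlatCA.fiberMod pp.asIdeal A A) ≃ₜ PrimeSpectrum F :=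
      (Homeomorph.setCongr (Set.eq_univ_of_forall huniv)).trans (Homeomorph.Set.univ _)
    rw [← FibDimLib.localDim_eq_of_isOpenEmbedding hh.isOpenEmbedding ⟨Q, huniv Q⟩]
    exact hdim.trans hn
  obtain ⟨E⟩ := nonempty_elemDevissage (R := R) (S := A) A pp.asIdeal qp.asIdeal n Q
    (eq_fiberIdeal _ _ Q hQ) (huniv Q) hloc
  obtain ⟨hetR, hp'p, hbR⟩ := E.etaleR
  obtain ⟨hetS, hq'q, hbS⟩ := E.etaleS
  haveI := hetR
  haveI := hetS
  haveI := hp'p
  haveI := hq'q
  haveI := E.finiteDC
  -- the closed subscheme is everything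
  have hbij : Function.Bijective (algebraMap E.S' E.C) := by
    refine ⟨(injective_iff_map_eq_zero _).2 fun k hk => ?_, E.surjC⟩
    let v : E.N' := E.f 1
    have hv : k • v = 0 := E.iso.injective (by
      rw [map_smul, map_zero, ← algebraMap_smul E.C k, hk, zero_smul])
    have h2 : E.isBaseChange.equiv (k ⊗ₜ[A] (1 : A)) = 0 := (E.isBaseChange.equiv_tmul k 1).trans hv
    have h3 := congrArg (TensorProduct.AlgebraTensorModule.rid A E.S' E.S') ((LinearEquiv.map_eq_zero_iff _).1 h2)
    simpa using h3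
  let eC : E.S' ≃ₐ[E.S'] E.C := AlgEquiv.ofBijective (Algebra.ofId E.S' E.C) hbij
  haveI : Algebra.Etale E.S' E.C := Algebra.Etale.of_equiv eC
  letI algAC : Algebra A E.C := ((algebraMap E.S' E.C).comp (algebraMap A E.S')).toAlgebra
  haveI : IsScalarTower A E.S' E.C := IsScalarTower.of_algebraMap_eq fun _ => rfl
  haveI : Algebra.Etale A E.C := Algebra.Etale.comp A E.S' E.C
  haveI hzq : E.z.LiesOver qp.asIdeal := Ideal.LiesOver.trans E.z E.q' qp.asIdeal
  let eR := Spec.map (CommRingCat.ofHom (algebraMap R E.R'))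
  let gA := Spec.map (CommRingCat.ofHom (algebraMap A E.C))
  let π := Spec.map (CommRingCat.ofHom (algebraMap E.D E.C))
  let h := Spec.map (CommRingCat.ofHom (algebraMap E.R' E.D))
  haveI : Etale eR := by
    rw [HasRingHomProperty.Spec_iff (P := @Etale)]
    exact RingHom.etale_algebraMap.2 inferInstance
  haveI : Etale gA := by
    rw [HasRingHomProperty.Spec_iff (P := @Etale)]
    exact RingHom.etale_algebraMap.2 inferInstance
  refine ⟨Spec (CommRingCat.of E.R'), Spec (CommRingCat.of E.D), Spec (CommRingCat.of E.C), eR ≫ hV.fromSpec, h, π,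
    gA ≫ hU.fromSpec, (⟨E.p', inferInstance⟩ : PrimeSpectrum E.R'), (⟨E.z, inferInstance⟩ : PrimeSpectrum E.C),
    inferInstance, inferInstance, inferInstance, ⟨inferInstance, ?_, ?_⟩, ⟨inferInstance, ?_, ?_⟩, ?_, E.smooth,
    E.geomInt, ?_, ?_, ?_⟩
  · show hV.fromSpec (eR (⟨E.p', inferInstance⟩ : PrimeSpectrum E.R')) = f x
    rw [show eR (⟨E.p', inferInstance⟩ : PrimeSpectrum E.R') = pp from PrimeSpectrum.ext (Ideal.over_def E.p' pp.asIdeal).symm]
    exact hV.fromSpec_primeIdealOf ⟨f x, hUV hxU⟩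
  · exact bijective_residueFieldMap_comp eR hV.fromSpec _
      (bijective_residueFieldMap_specMap pp.asIdeal (⟨E.p', inferInstance⟩ : PrimeSpectrum E.R')
        (Ideal.over_def E.p' pp.asIdeal).symm hbR.2)
  · show hU.fromSpec (gA (⟨E.z, inferInstance⟩ : PrimeSpectrum E.C)) = x
    rw [show gA (⟨E.z, inferInstance⟩ : PrimeSpectrum E.C) = qp from PrimeSpectrum.ext (Ideal.over_def E.z qp.asIdeal).symm]
    exact hU.fromSpec_primeIdealOf ⟨x, hxU⟩
  · refine bijective_residueFieldMap_comp gA hU.fromSpec _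
      (bijective_residueFieldMap_specMap qp.asIdeal (⟨E.z, inferInstance⟩ : PrimeSpectrum E.C)
        (Ideal.over_def E.z qp.asIdeal).symm ?_)
    exact surjective_mapₐ_comp' qp.asIdeal E.q' E.z hbS.2 (surjective_residue_of_range _ fun c => by
      obtain ⟨k, rfl⟩ := E.surjC c
      exact ⟨algebraMap E.S' _ k, Ideal.ResidueField.map_algebraMap _ _ _ _ _⟩)
  · have hfac : hU.fromSpec ≫ f = Spec.map ρ ≫ hV.fromSpec :=
      (IsAffineOpen.SpecMap_appLE_fromSpec f hV hU hUV).symm
    rw [Category.assoc, hfac]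
    simp only [gA, π, h, eR, ← Category.assoc, ← Spec.map_comp, show ρ = CommRingCat.ofHom (algebraMap R A) from rfl,
      ← CommRingCat.ofHom_comp]
    congr 3
    ext r
    simp only [RingHom.comp_apply]
    rw [← IsScalarTower.algebraMap_apply E.R' E.D E.C, IsScalarTower.algebraMap_apply E.R' E.S' E.C,
      IsScalarTower.algebraMap_apply A E.S' E.C, ← IsScalarTower.algebraMap_apply R E.R' E.S',
      ← IsScalarTower.algebraMap_apply R A E.S']
  · rw [IsFinite.SpecMap_iff]
    exact RingHom.finite_algebraMap.2 inferInstance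
  · refine PrimeSpectrum.ext ?_
    show (E.z.comap (algebraMap E.D E.C)).comap (algebraMap E.R' E.D) = E.p'
    rw [← show E.y = E.z.comap (algebraMap E.D E.C) from Ideal.over_def E.z E.y]
    exact (Ideal.over_def E.y E.p').symm
  · intro w hw
    refine PrimeSpectrum.ext (E.uniq w.asIdeal ⟨?_⟩)
    exact (Ideal.over_def E.z E.y).trans (congrArg PrimeSpectrum.asIdeal hw).symm
where
  surjective_mapₐ_comp' {A B C : Type u} [CommRing A] [CommRing B] [CommRing C] [Algebra A B] [Algebra B C]
      [Algebra A C] [IsScalarTower A B C] (a : Ideal A) (b : Ideal B) (c : Ideal C) [a.IsPrime] [b.IsPrime] [c.IsPrime]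
      [hab : b.LiesOver a] [hbc : c.LiesOver b] [hac : c.LiesOver a]
      (h1 : Function.Surjective (Ideal.ResidueField.map a b (algebraMap A B) hab.over))
      (h2 : Function.Surjective (Ideal.ResidueField.map b c (algebraMap B C) hbc.over)) :
      Function.Surjective (Ideal.ResidueField.map a c (algebraMap A C) hac.over) := by
    rw [show Ideal.ResidueField.map a c (algebraMap A C) hac.over =
        (Ideal.ResidueField.map b c (algebraMap B C) hbc.over).comp (Ideal.ResidueField.map a b (algebraMap A B) hab.over)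
      from Ideal.ResidueField.ringHom_ext (RingHom.ext fun r => by
        simp only [RingHom.comp_apply, Ideal.ResidueField.map_algebraMap]
        rw [← IsScalarTower.algebraMap_apply A B C])]
    exact h2.comp h1

end DevissExLib
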