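import Mathlib

/-!
# Universal injectivity from one fibre for maps out of projective modules
-/

set_option autoImplicit false
set_option linter.all false

universe u

open scoped TensorProduct

namespace DevissExLib

variable {R : Type u} [CommRing R] (p : Ideal R) [p.IsPrime]

/-- A finite family in a free module that is independent over the residue field has a left inverse up to an
element outside the prime. -/
theorem exists_almost_leftInverse {ι J : Type u} [Finite J] (w : (J → R) →ₗ[R] (ι →₀ R))
    (hw : Function.Injective (w.baseChange p.ResidueField)) :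
    ∃ (c : R) (s : (ι →₀ R) →ₗ[R] (J → R)), c ∉ p ∧ ∀ v, s (w v) = c • v := by
  classical
  haveI := Fintype.ofFinite J
  let κ := p.ResidueField
  let y : J → (ι →₀ R) := fun j => w (Pi.single j 1)
  let K : Finset ι := Finset.univ.biUnion fun j => (y j).support
  let Λ : (J → κ) →ₗ[κ] (K → κ) :=
    LinearMap.pi fun k => ∑ j, algebraMap R κ (y j k) • LinearMap.proj j
  have hΛ : ∀ a k, Λ a k = ∑ j, algebraMap R κ (y j k) * a j := fun a k => by simp [Λ, Algebra.smul_def]
  have hind : Function.Injective Λ := by
    rw [← LinearMap.ker_eq_bot, LinearMap.ker_eq_bot']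
    intro a ha
    let z : κ ⊗[R] (J → R) := ∑ j, a j ⊗ₜ[R] Pi.single j (1 : R)
    have hwz : w.baseChange κ z = 0 := by
      apply (TensorProduct.finsuppScalarRight R κ κ ι).injective
      ext k
      rw [map_zero, Finsupp.zero_apply]
      simp only [z, map_sum, LinearMap.baseChange_tmul, Finsupp.finset_sum_apply,
        TensorProduct.finsuppScalarRight_apply_tmul_apply]
      by_cases hk : k ∈ K
      · refine (Finset.sum_congr rfl fun j _ => ?_).trans ((hΛ a ⟨k, hk⟩).symm.trans (congrFun ha _))
        rw [Algebra.smul_def]
      · refine Finset.sum_eq_zero fun j _ => ?_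
        have h0 : y j k = 0 := Finsupp.notMem_support_iff.1 fun h =>
          hk (Finset.mem_biUnion.2 ⟨j, Finset.mem_univ j, h⟩)
        show y j k • a j = 0
        rw [h0, zero_smul]
    have hz : z = 0 := hw (hwz.trans (map_zero _).symm)
    funext j
    have hj := congrArg (fun t => TensorProduct.piScalarRight R κ κ J t j) hz
    simpa [z, map_sum, Finset.sum_apply, TensorProduct.piScalarRight_apply,
      TensorProduct.piScalarRightHom_tmul, Pi.single_apply] using hj
  obtain ⟨L, hL⟩ := Λ.exists_leftInverse_of_injective (LinearMap.ker_eq_bot.2 hind)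
  -- clear denominators
  obtain ⟨⟨b, hb⟩, hba⟩ := IsLocalization.exist_integer_multiples (nonZeroDivisors (R ⧸ p))
    (Finset.univ : Finset (K × J)) fun kj => L (Pi.single kj.1 1) kj.2
  have hint : ∀ (k : K) (j : J), ∃ a : R, algebraMap R κ a = algebraMap (R ⧸ p) κ b * L (Pi.single k 1) j := fun k j => by
    obtain ⟨a, ha⟩ := hba (k, j) (Finset.mem_univ _)
    obtain ⟨a, rfl⟩ := Ideal.Quotient.mk_surjective a
    exact ⟨a, (IsScalarTower.algebraMap_apply R (R ⧸ p) κ a).trans (ha.trans (Algebra.smul_def _ _))⟩
  choose a ha using hint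
  obtain ⟨b, rfl⟩ := Ideal.Quotient.mk_surjective b
  have hbp : b ∉ p := fun h => nonZeroDivisors.ne_zero hb (Ideal.Quotient.eq_zero_iff_mem.2 h)
  let s₀ : (ι →₀ R) →ₗ[R] (J → R) :=
    Finsupp.linearCombination R fun k => if hk : k ∈ K then a ⟨k, hk⟩ else 0
  let D : Matrix J J R := LinearMap.toMatrix' (s₀.comp w)
  have hD : ∀ i j, algebraMap R κ (D i j) = if i = j then algebraMap R κ b else 0 := by
    intro i j
    have h1 : D i j = ∑ k : K, y j k * a k i := by
      show LinearMap.toMatrix' (s₀.comp w) i j = _
      rw [LinearMap.toMatrix'_apply, LinearMap.comp_apply]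
      simp only [s₀, Finsupp.linearCombination_apply]
      show Finsupp.sum (y j) (fun k r => r • (if hk : k ∈ K then a ⟨k, hk⟩ else (0 : J → R))) i = _
      rw [Finsupp.sum_of_support_subset (y j) (Finset.subset_biUnion_of_mem (fun j => (y j).support) (Finset.mem_univ j))
        (s := K) (fun k r => r • (if hk : k ∈ K then a ⟨k, hk⟩ else (0 : J → R))) (fun k _ => zero_smul R _), Finset.sum_apply, ← Finset.sum_coe_sort]
      exact Finset.sum_congr rfl fun k _ => by rw [dif_pos k.2, Pi.smul_apply, smul_eq_mul]
    have h2 := congrArg (fun v => v i) (LinearMap.congr_fun hL (Pi.single j 1))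
    simp only [LinearMap.comp_apply, LinearMap.id_apply] at h2
    rw [pi_eq_sum_univ' (Λ (Pi.single j 1)), map_sum, Finset.sum_apply] at h2
    rw [h1, map_sum, show (if i = j then algebraMap R κ b else 0) = algebraMap R κ b * (Pi.single j 1 : J → κ) i by
      rw [Pi.single_apply]; split_ifs <;> simp, ← h2, Finset.mul_sum]
    refine Finset.sum_congr rfl fun k _ => ?_
    rw [map_smul, Pi.smul_apply, smul_eq_mul, map_mul, ha, hΛ]
    rw [Finset.sum_eq_single j (fun l _ hl => by rw [Pi.single_eq_of_ne hl, mul_zero])
      (fun h => absurd (Finset.mem_univ _) h), Pi.single_eq_same, mul_one,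
      ← Ideal.Quotient.algebraMap_eq, ← IsScalarTower.algebraMap_apply]
    ring
  have hdet : D.det ∉ p := fun h => by
    have h1 : algebraMap R κ D.det = 0 := Ideal.algebraMap_residueField_eq_zero.2 h
    rw [RingHom.map_det, show (algebraMap R κ).mapMatrix D = Matrix.diagonal fun _ => algebraMap R κ b from
      Matrix.ext fun i j => by rw [RingHom.mapMatrix_apply, Matrix.map_apply, hD, Matrix.diagonal_apply],
      Matrix.det_diagonal, Finset.prod_eq_zero_iff] at h1
    obtain ⟨_, -, h1⟩ := h1
    exact hbp (Ideal.algebraMap_residueField_eq_zero.1 h1)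
  refine ⟨D.det, (Matrix.toLin' D.adjugate).comp s₀, hdet, fun v => ?_⟩
  rw [LinearMap.comp_apply, ← LinearMap.comp_apply s₀ w, ← Matrix.toLin'_toMatrix' (s₀.comp w),
    Matrix.toLin'_apply, Matrix.toLin'_apply, Matrix.mulVec_mulVec, Matrix.adjugate_mul, Matrix.smul_mulVec,
    Matrix.one_mulVec]

/-- A map of projective modules injective on the fibre at a prime is universally injective for modules on which
the complement of the prime acts bijectively. -/
theorem rTensor_injective_of_fibre {M : Type u} [AddCommGroup M] [Module R M] [Module.Projective R M]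
    (u : M →ₗ[R] M) (hu : Function.Injective (u.baseChange p.ResidueField))
    (Q : Type u) [AddCommGroup Q] [Module R Q] (hQ : ∀ c ∉ p, Function.Injective fun x : Q => c • x) :
    Function.Injective (u.rTensor Q) := by
  classical
  obtain ⟨i, hi⟩ := Module.Projective.out (R := R) (P := M)
  let F := M →₀ R
  let ρ : F →ₗ[R] M := Finsupp.linearCombination R id
  have hρi : ρ.comp i = LinearMap.id := LinearMap.ext hi
  let w : F →ₗ[R] F := i.comp (u.comp ρ) + (LinearMap.id - i.comp ρ)
  have hρw : ρ.comp w = u.comp ρ := by
    refine LinearMap.ext fun z => ?_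
    have := fun m => LinearMap.congr_fun hρi m
    simp only [LinearMap.comp_apply, LinearMap.id_apply] at this
    simp [w, this]
  have hwi : w.comp i = i.comp u := by
    refine LinearMap.ext fun z => ?_
    have := fun m => LinearMap.congr_fun hρi m
    simp only [LinearMap.comp_apply, LinearMap.id_apply] at this
    simp [w, this]
  let κ := p.ResidueField
  have hw : Function.Injective (w.baseChange κ) := by
    rw [injective_iff_map_eq_zero]
    intro x hx
    have h1 : ρ.baseChange κ x = 0 := by
      refine hu (Eq.trans ?_ (map_zero _).symm)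
      rw [← LinearMap.comp_apply, ← LinearMap.baseChange_comp, ← hρw, LinearMap.baseChange_comp,
        LinearMap.comp_apply, hx, map_zero]
    have h2 : w.baseChange κ x = x := by
      simp only [w, LinearMap.baseChange_add, LinearMap.baseChange_sub, LinearMap.baseChange_comp,
        LinearMap.baseChange_id, LinearMap.add_apply, LinearMap.sub_apply, LinearMap.comp_apply,
        LinearMap.id_apply, h1, map_zero, sub_zero, zero_add]
    exact h2.symm.trans hx
  rw [injective_iff_map_eq_zero]
  intro x hx
  -- a finite part of the free module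
  obtain ⟨T, hT⟩ := TensorProduct.exists_finset (i.rTensor Q x)
  let K : Finset M := T.biUnion fun fq => fq.1.support
  let ιK : (K → R) →ₗ[R] F := Fintype.linearCombination R fun k : K => Finsupp.single (k : M) 1
  obtain ⟨y, hy⟩ : ∃ y, ιK.rTensor Q y = i.rTensor Q x := by
    rw [hT]
    refine ⟨∑ fq ∈ T, (fun k : K => fq.1 k) ⊗ₜ[R] fq.2, ?_⟩
    rw [map_sum]
    refine Finset.sum_congr rfl fun fq hfq => ?_
    rw [LinearMap.rTensor_tmul]
    congr 1
    rw [Fintype.linearCombination_apply]
    rw [Finset.sum_congr rfl fun (k : K) _ => show fq.1 k • Finsupp.single (k : M) (1 : R) = Finsupp.single (k : M) (fq.1 k) from by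
      rw [Finsupp.smul_single, smul_eq_mul, mul_one]]
    rw [Finset.sum_coe_sort K fun k => Finsupp.single k (fq.1 k)]
    exact (Finset.sum_subset (Finset.subset_biUnion_of_mem (fun fq => fq.1.support) hfq) fun k _ hk => by
      rw [Finsupp.notMem_support_iff.1 hk, Finsupp.single_zero]).symm.trans (show ∑ k ∈ fq.1.support, Finsupp.single k (fq.1 k) = fq.1 from fq.1.sum_single)
  have hwK : Function.Injective ((w.comp ιK).baseChange κ) := by
    rw [LinearMap.baseChange_comp]
    refine hw.comp (Function.LeftInverse.injective
      (g := (LinearMap.pi fun k : K => Finsupp.lapply (k : M) : F →ₗ[R] K → R).baseChange κ) fun z => ?_)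
    rw [← LinearMap.comp_apply, ← LinearMap.baseChange_comp,
      show (LinearMap.pi fun k : K => Finsupp.lapply (k : M) : F →ₗ[R] K → R).comp ιK = LinearMap.id from
        LinearMap.ext fun v => funext fun k => by
          show (ιK v : M →₀ R) (k : M) = v k
          rw [Fintype.linearCombination_apply, Finsupp.finset_sum_apply, Finset.sum_eq_single k
            (fun l _ hl => by rw [Finsupp.smul_apply, Finsupp.single_eq_of_ne fun h => hl (Subtype.ext h).symm, smul_zero])
            (fun h => absurd (Finset.mem_univ _) h)]
          rw [Finsupp.smul_apply, Finsupp.single_eq_same, smul_eq_mul, mul_one]]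
    rw [LinearMap.baseChange_id, LinearMap.id_apply]
  obtain ⟨c, s, hc, hs⟩ := exists_almost_leftInverse p (w.comp ιK) hwK
  have hy0 : c • y = 0 := by
    have h1 : (s.comp (w.comp ιK)).rTensor Q y = c • y := by
      rw [show s.comp (w.comp ιK) = c • LinearMap.id from LinearMap.ext hs, LinearMap.rTensor_smul,
        LinearMap.rTensor_id, LinearMap.smul_apply, LinearMap.id_apply]
    rw [← h1, LinearMap.rTensor_comp_apply, LinearMap.rTensor_comp_apply, hy, ← LinearMap.rTensor_comp_apply Q _ _ (x := x),
      hwi, LinearMap.rTensor_comp_apply, hx, map_zero, map_zero]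
  have hyz : y = 0 := by
    let e := TensorProduct.piScalarRight R R Q K
    have h1 : e (TensorProduct.comm R _ Q (c • y)) = 0 := by rw [hy0, map_zero, map_zero]
    rw [map_smul, map_smul] at h1
    have h2 : e (TensorProduct.comm R _ Q y) = 0 := funext fun k => hQ c hc
      ((congrFun h1 k).trans (smul_zero c).symm)
    exact (TensorProduct.comm R _ Q).injective (e.injective (h2.trans (by simp)))
  have h3 : i.rTensor Q x = 0 := by rw [← hy, hyz, map_zero]
  calc x = ρ.rTensor Q (i.rTensor Q x) := by
        rw [← LinearMap.rTensor_comp_apply, hρi, LinearMap.rTensor_id, LinearMap.id_apply]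
    _ = 0 := by rw [h3, map_zero]

end DevissExLib
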